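import Cfsg.Agent.H651.O9.Fin
import Cfsg.Agent.H529.O9.Bridge

/-!
# The row `Ω₉(3)` of S2464 (helper651)
-/

set_option autoImplicit false

namespace Cfsg.Agent.H651.O9

open Cfsg

theorem cov_NB : H529.O9.Cov H529.O9.NB :=
  cov_of H529.O9.NB H529.O9.NB_le (fun _ ha _ hx => H529.O9.NB_conj ha hx) H529.O9.card_NB H529.O9.card_OB

/-- **Every nontrivial element of `PΩ₉(3)` is a product of two elements of order 41.** -/
theorem six_omega9 {F : Type*} [Field F] [Fintype F] (hF : Fintype.card F = 3) :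
    ∃ x y : POmega F (quadFormOdd 4 F), Nat.Coprime (orderOf x) 6 ∧ Nat.Coprime (orderOf y) 6 ∧
      ∀ g : POmega F (quadFormOdd 4 F), g ≠ 1 → ∃ u v : POmega F (quadFormOdd 4 F),
        g = (u * x * u⁻¹) * (v * y * v⁻¹) :=
  H529.O9.six_of_cov cov_NB hF

end Cfsg.Agent.H651.O9
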