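import Cfsg.Agent.H651.O9.Rep

/-!
# Classes of the orthogonal group in dimension 9 over the field with three elements, part 0 (helper651)
-/

set_option autoImplicit false
set_option exponentiation.threshold 30000
set_option maxRecDepth 100000

namespace Cfsg.Agent.H651.O9

theorem a0 : Ok 161 113897138240453257200426 :=
  ok_of [[2, 2, 0, 1, 0, 1, 1, 0, 1], [2, 2, 2, 2, 0, 0, 2, 1, 2], [1, 0, 1, 0, 0, 2, 2, 2, 1], [0, 2, 0, 1, 2, 0, 0, 0, 0], [2, 0, 0, 2, 1, 1, 2, 0, 1], [0, 1, 0, 0, 1, 0, 1, 1, 2], [1, 2, 1, 2, 2, 0, 0, 1, 2], [0, 0, 1, 2, 0, 1, 2, 1, 1], [1, 1, 1, 0, 2, 0, 2, 1, 1]]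
    [[0, 1, 0, 0, 2, 2, 0, 0, 1], [1, 1, 2, 0, 1, 2, 0, 1, 0], [1, 0, 2, 0, 0, 0, 2, 2, 2], [2, 0, 0, 2, 0, 1, 2, 2, 2], [2, 1, 0, 1, 1, 2, 0, 2, 1], [0, 1, 2, 2, 2, 1, 2, 0, 0], [2, 1, 1, 1, 2, 2, 1, 0, 2], [1, 2, 0, 1, 0, 2, 2, 1, 1], [2, 1, 0, 0, 2, 2, 0, 2, 2]]
    [13494] (by decide +kernel)

theorem a1 : Ok 3887 115017789342319777284906 :=
  ok_of [[0, 0, 0, 1, 1, 0, 2, 2, 2], [0, 1, 2, 1, 0, 0, 2, 1, 1], [1, 2, 1, 1, 0, 0, 1, 1, 2], [1, 1, 0, 0, 2, 0, 0, 2, 1], [2, 2, 0, 2, 0, 0, 2, 0, 1], [1, 1, 1, 0, 1, 0, 0, 0, 1], [0, 0, 0, 0, 1, 0, 0, 0, 0], [2, 1, 2, 2, 1, 1, 2, 1, 0], [0, 2, 0, 1, 2, 0, 2, 1, 0]]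
    [[1, 2, 1, 0, 1, 1, 0, 1, 0], [0, 0, 0, 0, 1, 2, 1, 2, 1], [0, 0, 2, 1, 1, 1, 0, 0, 0], [1, 1, 2, 1, 2, 1, 2, 1, 2], [0, 0, 1, 1, 1, 2, 2, 2, 2], [2, 1, 2, 2, 2, 1, 2, 1, 2], [1, 1, 2, 1, 1, 1, 0, 1, 2], [1, 0, 0, 1, 2, 2, 2, 0, 2], [1, 0, 0, 1, 2, 2, 2, 2, 0]]
    [15756, 8076, 13732] (by decide +kernel)

theorem a2 : Ok 1943 566683995045005938066218 :=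
  ok_of [[2, 1, 1, 0, 1, 2, 1, 0, 1], [2, 1, 2, 2, 2, 2, 1, 0, 1], [1, 2, 0, 1, 2, 2, 1, 1, 2], [0, 2, 0, 1, 0, 2, 1, 1, 1], [2, 2, 1, 0, 1, 1, 2, 1, 2], [0, 1, 2, 1, 1, 1, 2, 0, 0], [0, 0, 0, 2, 1, 1, 0, 0, 1], [1, 2, 2, 1, 0, 1, 0, 0, 2], [2, 1, 1, 0, 0, 1, 0, 1, 0]]
    [[0, 0, 0, 0, 2, 1, 2, 2, 0], [1, 1, 0, 1, 0, 2, 0, 0, 1], [1, 1, 1, 0, 0, 0, 1, 2, 0], [2, 2, 0, 1, 2, 2, 2, 1, 1], [0, 1, 0, 2, 0, 1, 1, 1, 2], [0, 2, 2, 2, 2, 0, 0, 2, 1], [2, 0, 1, 0, 0, 1, 2, 0, 0], [2, 0, 1, 1, 1, 2, 1, 1, 1], [0, 1, 2, 2, 0, 1, 1, 1, 0]]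
    [17482, 12224, 17285] (by decide +kernel)

theorem a3 : Ok 52487 340010386768179971556624 :=
  ok_of [[2, 2, 1, 0, 0, 0, 0, 2, 2], [0, 0, 2, 0, 1, 1, 1, 0, 1], [0, 0, 0, 0, 0, 0, 2, 2, 1], [1, 2, 0, 2, 0, 2, 1, 2, 1], [2, 2, 0, 0, 0, 2, 1, 0, 1], [2, 2, 1, 0, 2, 0, 1, 0, 1], [0, 0, 1, 1, 2, 0, 2, 0, 2], [2, 1, 2, 1, 2, 0, 0, 1, 1], [2, 1, 2, 2, 1, 0, 0, 2, 2]]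
    [[2, 2, 1, 2, 2, 2, 0, 2, 1], [1, 2, 1, 0, 0, 1, 1, 2, 1], [0, 2, 2, 1, 1, 1, 1, 0, 0], [1, 2, 0, 1, 2, 1, 2, 0, 1], [1, 2, 1, 2, 2, 0, 1, 0, 2], [1, 2, 2, 1, 0, 1, 1, 2, 0], [2, 2, 0, 2, 1, 0, 2, 0, 2], [0, 2, 2, 0, 2, 0, 2, 2, 2], [0, 1, 0, 0, 1, 0, 1, 2, 0]]
    [7466, 5852, 12501, 5440] (by decide +kernel)

theorem a4 : Ok 52487 340010386768179970965828 :=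
  ok_of [[0, 1, 1, 0, 1, 2, 1, 1, 0], [1, 1, 2, 1, 1, 1, 0, 2, 2], [1, 1, 1, 2, 2, 2, 0, 0, 2], [2, 1, 1, 2, 0, 1, 1, 0, 2], [2, 1, 1, 0, 2, 1, 2, 0, 2], [1, 1, 1, 1, 2, 2, 2, 2, 1], [2, 1, 0, 0, 2, 2, 2, 2, 2], [0, 0, 2, 0, 1, 0, 0, 1, 0], [2, 0, 2, 2, 1, 0, 2, 1, 1]]
    [[0, 2, 0, 0, 1, 1, 0, 0, 2], [2, 1, 0, 0, 0, 2, 2, 1, 2], [1, 1, 0, 0, 0, 2, 0, 2, 1], [2, 1, 0, 0, 2, 2, 2, 2, 2], [1, 0, 2, 2, 0, 0, 0, 2, 2], [1, 0, 2, 0, 1, 0, 0, 0, 0], [2, 0, 0, 0, 2, 0, 0, 0, 0], [2, 0, 0, 2, 2, 2, 2, 0, 2], [1, 0, 2, 0, 2, 0, 0, 1, 1]]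
    [9176, 2542, 7379, 11922] (by decide +kernel)

theorem a5 : Ok 52487 340010438065428960903492 :=
  ok_of [[0, 2, 2, 2, 2, 0, 1, 0, 2], [2, 0, 0, 1, 0, 2, 2, 0, 0], [1, 1, 1, 0, 0, 0, 0, 0, 1], [1, 1, 2, 1, 2, 0, 2, 2, 1], [0, 0, 1, 2, 1, 2, 1, 0, 1], [1, 2, 2, 1, 1, 2, 2, 2, 2], [0, 0, 2, 0, 0, 0, 0, 2, 0], [2, 2, 1, 1, 2, 1, 1, 0, 1], [2, 2, 0, 1, 1, 2, 2, 0, 1]]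
    [[1, 0, 1, 0, 0, 0, 1, 1, 1], [1, 1, 0, 1, 2, 0, 0, 1, 1], [0, 2, 2, 2, 0, 0, 0, 0, 2], [0, 2, 2, 1, 2, 1, 1, 0, 2], [1, 0, 0, 0, 1, 1, 1, 0, 2], [2, 1, 2, 0, 1, 0, 2, 1, 2], [1, 0, 1, 1, 2, 1, 2, 0, 0], [1, 0, 2, 1, 0, 0, 1, 2, 2], [2, 1, 0, 0, 1, 0, 2, 2, 1]]
    [12744, 10899, 2469] (by decide +kernel)

theorem a6 : Ok 52487 340010438065428961494288 :=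
  ok_of [[0, 2, 2, 0, 2, 2, 0, 2, 1], [1, 0, 2, 0, 2, 0, 1, 1, 2], [1, 2, 0, 0, 1, 1, 0, 2, 0], [2, 0, 0, 1, 0, 0, 0, 1, 0], [2, 1, 0, 0, 1, 1, 1, 1, 2], [2, 1, 1, 2, 0, 1, 0, 1, 2], [1, 2, 1, 0, 0, 0, 1, 2, 2], [0, 0, 2, 1, 0, 1, 1, 1, 0], [0, 1, 0, 0, 1, 2, 1, 1, 1]]
    [[1, 0, 1, 2, 0, 2, 1, 2, 1], [2, 1, 0, 1, 0, 1, 1, 2, 1], [1, 0, 0, 1, 0, 0, 0, 2, 0], [2, 0, 0, 2, 0, 1, 2, 0, 0], [0, 2, 1, 1, 0, 0, 0, 0, 1], [2, 1, 2, 0, 1, 2, 0, 1, 1], [2, 1, 1, 1, 1, 2, 2, 2, 0], [0, 1, 2, 2, 0, 1, 0, 0, 2], [1, 0, 1, 0, 0, 1, 1, 2, 0]]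
    [2819, 5977, 16963] (by decide +kernel)

theorem a7 : Ok 104975 1020031160301408881738538 :=
  ok_of [[2, 0, 1, 2, 0, 1, 2, 1, 2], [1, 1, 1, 0, 2, 0, 2, 1, 0], [1, 0, 2, 2, 2, 1, 0, 2, 0], [0, 2, 1, 1, 1, 0, 0, 0, 2], [1, 2, 2, 0, 2, 1, 1, 0, 2], [2, 0, 0, 1, 1, 1, 2, 1, 0], [2, 0, 1, 1, 0, 1, 0, 2, 1], [0, 1, 1, 2, 0, 0, 1, 1, 0], [2, 0, 1, 2, 1, 1, 0, 0, 2]]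
    [[2, 1, 1, 2, 0, 1, 0, 2, 2], [1, 0, 1, 0, 2, 2, 0, 0, 1], [1, 0, 0, 0, 1, 1, 0, 0, 2], [1, 1, 0, 2, 0, 2, 0, 2, 2], [2, 1, 0, 1, 2, 1, 0, 0, 1], [2, 0, 2, 0, 0, 0, 0, 2, 0], [0, 0, 0, 0, 0, 0, 0, 1, 0], [0, 1, 2, 1, 2, 2, 1, 1, 2], [1, 0, 2, 0, 0, 2, 0, 1, 2]]
    [19285, 15286, 17071] (by decide +kernel)

theorem a8 : Ok 1679615 3740114254434324527186730 :=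
  ok_of [[0, 1, 0, 0, 0, 0, 2, 2, 2], [0, 1, 1, 0, 0, 1, 2, 0, 0], [0, 0, 1, 1, 0, 0, 0, 1, 2], [2, 0, 1, 2, 0, 0, 1, 1, 0], [1, 1, 2, 1, 1, 1, 2, 0, 2], [0, 0, 0, 0, 0, 1, 0, 0, 0], [1, 2, 0, 1, 0, 0, 2, 2, 0], [1, 0, 0, 2, 0, 1, 1, 0, 0], [2, 1, 2, 2, 0, 2, 0, 1, 1]]
    [[1, 1, 0, 1, 2, 2, 2, 1, 2], [0, 0, 1, 2, 1, 0, 1, 2, 1], [1, 0, 2, 0, 1, 0, 1, 1, 2], [2, 0, 2, 0, 2, 2, 0, 1, 2], [2, 0, 0, 0, 2, 1, 1, 2, 1], [0, 0, 0, 2, 2, 1, 2, 2, 0], [2, 0, 1, 2, 1, 0, 1, 2, 1], [1, 2, 0, 1, 1, 2, 2, 0, 2], [1, 0, 1, 2, 0, 1, 0, 1, 0]]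
    [14172, 7525, 14620, 11448, 1222] (by decide +kernel)

theorem a9 : Ok 2099519 2380072758665115696169770 :=
  ok_of [[2, 0, 2, 0, 0, 2, 0, 2, 0], [2, 0, 1, 1, 0, 0, 1, 0, 2], [1, 2, 1, 2, 2, 1, 0, 2, 0], [0, 2, 2, 0, 0, 1, 1, 1, 1], [2, 2, 0, 1, 0, 1, 0, 2, 1], [1, 0, 2, 2, 2, 2, 2, 2, 0], [1, 2, 1, 2, 0, 0, 2, 0, 1], [0, 0, 0, 2, 2, 2, 2, 1, 0], [0, 1, 2, 0, 0, 0, 2, 0, 1]]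
    [[1, 1, 2, 0, 2, 1, 0, 1, 0], [1, 0, 1, 0, 2, 2, 0, 0, 1], [2, 1, 1, 2, 2, 0, 0, 2, 2], [0, 1, 1, 1, 0, 0, 0, 1, 1], [0, 0, 2, 2, 0, 1, 0, 0, 2], [0, 1, 2, 1, 1, 1, 0, 2, 0], [1, 1, 2, 2, 1, 2, 1, 2, 0], [0, 0, 1, 1, 2, 2, 1, 1, 0], [2, 2, 0, 0, 0, 2, 1, 1, 0]]
    [7506, 16625, 7314, 5373, 8070] (by decide +kernel)

theorem a10 : Ok 104975 340010386766614455978690 :=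
  ok_of [[1, 2, 0, 0, 0, 2, 1, 2, 1], [0, 2, 0, 0, 2, 2, 1, 2, 0], [1, 0, 1, 1, 0, 2, 0, 0, 1], [2, 2, 2, 2, 0, 0, 2, 1, 1], [1, 0, 2, 0, 2, 0, 0, 0, 0], [1, 0, 2, 1, 2, 1, 0, 1, 2], [2, 0, 2, 1, 1, 2, 1, 0, 1], [0, 0, 2, 2, 0, 1, 0, 1, 2], [0, 2, 2, 2, 1, 0, 1, 2, 1]]
    [[0, 2, 0, 1, 1, 1, 1, 0, 1], [2, 1, 2, 2, 0, 2, 1, 1, 1], [1, 0, 1, 2, 1, 1, 2, 2, 2], [1, 0, 1, 1, 1, 2, 2, 2, 1], [1, 1, 0, 0, 0, 2, 1, 2, 0], [1, 1, 2, 1, 2, 0, 2, 0, 0], [2, 1, 0, 2, 2, 1, 1, 0, 2], [1, 1, 2, 0, 0, 0, 0, 1, 1], [2, 2, 2, 2, 2, 2, 1, 2, 0]]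
    [4884, 19669, 15706] (by decide +kernel)

theorem a11 : Ok 944783 1020031160299843366160604 :=
  ok_of [[2, 1, 2, 0, 1, 0, 2, 1, 1], [1, 0, 1, 0, 1, 2, 1, 2, 2], [0, 1, 2, 0, 0, 0, 2, 2, 1], [0, 2, 2, 2, 1, 2, 1, 1, 2], [2, 0, 0, 0, 1, 1, 1, 0, 2], [1, 0, 2, 2, 2, 2, 2, 1, 1], [0, 1, 1, 2, 2, 1, 0, 2, 1], [0, 1, 1, 2, 2, 1, 0, 0, 2], [2, 0, 2, 1, 2, 0, 0, 1, 0]]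
    [[2, 0, 1, 0, 2, 0, 0, 2, 0], [1, 0, 2, 2, 0, 2, 2, 0, 2], [0, 2, 1, 1, 1, 2, 0, 2, 0], [1, 2, 2, 1, 0, 2, 0, 1, 1], [2, 1, 1, 2, 0, 0, 1, 0, 1], [1, 0, 2, 0, 2, 2, 1, 2, 0], [1, 1, 2, 0, 0, 2, 0, 1, 1], [2, 2, 0, 2, 2, 1, 2, 2, 2], [0, 0, 0, 1, 0, 0, 1, 2, 0]]
    [14551, 19246, 6124] (by decide +kernel)

theorem a12 : Ok 22674815 3060093480899530100245290 :=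
  ok_of [[1, 1, 0, 2, 0, 2, 0, 0, 2], [2, 2, 0, 0, 1, 1, 2, 1, 2], [0, 0, 2, 2, 0, 0, 0, 2, 1], [1, 1, 2, 0, 2, 0, 1, 0, 1], [2, 0, 0, 1, 2, 2, 2, 1, 0], [1, 2, 0, 0, 2, 0, 1, 2, 1], [0, 1, 1, 1, 0, 2, 1, 2, 0], [1, 2, 2, 1, 2, 2, 2, 1, 2], [2, 2, 0, 2, 1, 0, 1, 1, 0]]
    [[1, 1, 0, 1, 0, 1, 0, 0, 2], [2, 2, 0, 0, 2, 0, 0, 2, 2], [1, 0, 1, 1, 0, 0, 0, 0, 2], [2, 1, 0, 2, 2, 0, 1, 2, 2], [0, 1, 2, 1, 1, 0, 1, 2, 1], [1, 0, 0, 1, 0, 0, 1, 1, 1], [0, 1, 2, 2, 2, 1, 2, 2, 2], [1, 1, 0, 0, 2, 0, 0, 1, 1], [1, 0, 0, 0, 2, 0, 2, 1, 0]]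
    [19192, 18336, 11789, 17407, 18489] (by decide +kernel)

theorem a13 : Ok 11337407 3060093480899530102017678 :=
  ok_of [[1, 1, 2, 1, 0, 0, 0, 1, 0], [0, 0, 0, 2, 0, 0, 0, 2, 0], [1, 2, 1, 0, 1, 2, 2, 1, 0], [1, 0, 0, 1, 0, 2, 0, 1, 0], [0, 1, 0, 1, 1, 0, 0, 1, 0], [1, 1, 1, 2, 1, 0, 2, 0, 0], [1, 1, 0, 2, 1, 2, 0, 0, 0], [2, 2, 2, 1, 2, 1, 1, 1, 0], [0, 0, 0, 0, 0, 0, 0, 0, 1]]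
    [[1, 0, 0, 0, 1, 2, 2, 2, 0], [0, 1, 1, 1, 0, 0, 0, 0, 1], [1, 2, 1, 0, 2, 1, 1, 0, 1], [2, 0, 0, 0, 1, 0, 1, 1, 1], [2, 1, 1, 1, 1, 1, 0, 1, 2], [2, 1, 1, 2, 1, 0, 0, 0, 1], [0, 1, 2, 2, 0, 2, 0, 0, 2], [1, 0, 1, 1, 1, 2, 0, 1, 0], [0, 1, 0, 2, 0, 1, 2, 0, 1]]
    [19020, 1423, 8563, 17713, 8684] (by decide +kernel)

theorem a14 : Ok 204073343 1020031160299843369699548 :=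
  ok_of [[1, 0, 1, 1, 1, 0, 2, 0, 1], [2, 1, 1, 2, 1, 0, 0, 2, 2], [0, 2, 2, 2, 0, 0, 0, 1, 1], [1, 2, 2, 1, 2, 1, 2, 0, 0], [1, 0, 1, 2, 1, 2, 0, 0, 1], [2, 2, 1, 0, 0, 1, 1, 0, 2], [0, 0, 1, 0, 0, 2, 2, 2, 2], [1, 1, 0, 2, 2, 1, 2, 2, 1], [1, 2, 0, 2, 1, 2, 2, 1, 1]]
    [[0, 0, 1, 1, 1, 2, 2, 2, 2], [0, 0, 2, 0, 2, 0, 2, 2, 1], [2, 0, 2, 2, 0, 1, 0, 1, 1], [1, 1, 2, 1, 2, 1, 1, 2, 2], [1, 0, 1, 0, 1, 2, 1, 2, 2], [1, 1, 1, 0, 0, 0, 0, 2, 2], [0, 2, 2, 1, 2, 2, 0, 0, 0], [2, 2, 0, 1, 1, 1, 2, 2, 0], [0, 1, 2, 0, 2, 0, 1, 2, 0]]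
    [13559, 6158, 6726, 1662, 2475] (by decide +kernel)

theorem a15 : Ok 102036671 5100155801499216832563420 :=
  ok_of [[1, 1, 2, 2, 2, 1, 0, 2, 1], [0, 1, 1, 1, 0, 2, 1, 0, 2], [2, 1, 0, 0, 0, 0, 1, 2, 1], [2, 0, 1, 2, 0, 2, 1, 2, 1], [1, 2, 1, 0, 1, 0, 2, 1, 2], [0, 0, 2, 0, 1, 1, 0, 1, 2], [0, 0, 0, 1, 1, 2, 2, 1, 1], [2, 2, 1, 2, 2, 1, 1, 2, 2], [1, 1, 1, 2, 0, 1, 0, 1, 2]]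
    [[2, 0, 2, 0, 0, 2, 1, 1, 2], [1, 0, 2, 0, 2, 2, 1, 2, 0], [0, 1, 0, 2, 0, 2, 0, 0, 0], [0, 0, 2, 2, 0, 2, 0, 1, 2], [0, 0, 1, 2, 2, 0, 1, 2, 2], [2, 2, 2, 1, 0, 1, 0, 0, 0], [2, 1, 2, 2, 0, 2, 2, 2, 1], [1, 0, 2, 0, 2, 1, 1, 1, 0], [1, 0, 1, 0, 0, 2, 0, 2, 2]]
    [18680, 1462, 1255, 6925, 7668] (by decide +kernel)

theorem a16 : Ok 114281072639 25500779007496084178733276 :=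
  ok_of [[2, 0, 0, 1, 2, 0, 2, 0, 0], [2, 0, 2, 1, 2, 2, 0, 2, 0], [0, 2, 0, 2, 1, 2, 2, 2, 0], [1, 0, 0, 2, 2, 0, 2, 0, 0], [1, 0, 0, 1, 0, 0, 2, 0, 0], [0, 1, 1, 1, 2, 2, 1, 1, 0], [1, 0, 0, 1, 2, 0, 0, 0, 0], [2, 1, 1, 0, 0, 1, 2, 2, 0], [0, 0, 0, 0, 0, 0, 0, 0, 1]]
    [[1, 0, 1, 0, 1, 0, 1, 1, 1], [1, 1, 1, 1, 2, 2, 1, 1, 1], [1, 1, 2, 2, 2, 2, 1, 0, 0], [0, 0, 2, 1, 1, 2, 2, 1, 0], [1, 2, 1, 2, 1, 2, 0, 0, 0], [0, 2, 0, 2, 0, 0, 2, 0, 0], [1, 2, 2, 1, 0, 0, 2, 0, 1], [0, 0, 2, 1, 0, 1, 2, 1, 1], [2, 2, 0, 2, 1, 2, 2, 1, 0]]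
    [4936, 5148, 15080, 17515, 499, 17471, 19404] (by decide +kernel)

theorem a17 : Ok 106118138879 29580903648695457641597148 :=
  ok_of [[1, 0, 0, 0, 0, 0, 0, 0, 0], [1, 1, 0, 2, 0, 1, 1, 2, 0], [0, 0, 0, 1, 0, 2, 2, 2, 2], [2, 0, 1, 1, 0, 0, 0, 2, 1], [0, 0, 1, 2, 1, 1, 1, 1, 1], [0, 0, 0, 0, 0, 1, 0, 0, 0], [1, 0, 1, 1, 0, 2, 0, 0, 1], [0, 0, 1, 2, 0, 1, 1, 2, 1], [2, 0, 1, 0, 0, 0, 0, 2, 2]]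
    [[0, 0, 2, 0, 1, 1, 2, 0, 1], [2, 0, 0, 1, 2, 2, 1, 2, 0], [2, 2, 1, 2, 2, 0, 1, 1, 1], [0, 0, 2, 1, 2, 2, 1, 0, 0], [2, 0, 1, 2, 1, 1, 2, 0, 0], [2, 2, 2, 1, 1, 1, 2, 1, 0], [0, 0, 0, 0, 0, 2, 0, 2, 0], [1, 0, 0, 2, 0, 0, 2, 2, 1], [1, 0, 1, 1, 2, 0, 1, 2, 1]]
    [6503, 11435, 12037, 10157, 19189, 9461, 13947] (by decide +kernel)

theorem a18 : Ok 6122200319 3060093480899530103790066 :=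
  ok_of [[2, 0, 0, 1, 1, 2, 1, 1, 0], [0, 0, 1, 0, 2, 2, 0, 0, 1], [0, 2, 1, 0, 2, 2, 1, 0, 1], [2, 0, 0, 1, 1, 0, 1, 0, 0], [1, 1, 0, 1, 0, 0, 0, 1, 2], [1, 2, 2, 1, 0, 2, 0, 1, 1], [0, 2, 0, 0, 2, 2, 2, 0, 1], [0, 2, 2, 2, 0, 0, 0, 0, 1], [2, 0, 0, 2, 2, 1, 2, 2, 1]]
    [[1, 0, 2, 1, 1, 2, 0, 0, 1], [0, 1, 2, 2, 1, 1, 2, 2, 0], [0, 2, 2, 0, 0, 0, 2, 2, 2], [1, 1, 0, 2, 1, 0, 0, 0, 2], [2, 2, 0, 2, 1, 0, 0, 1, 1], [0, 2, 1, 2, 1, 1, 1, 1, 2], [0, 1, 0, 2, 1, 2, 2, 2, 0], [0, 1, 1, 2, 2, 1, 0, 0, 1], [0, 1, 2, 1, 2, 2, 0, 1, 1]]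
    [4797, 2555, 2291, 9415, 6148] (by decide +kernel)

theorem a19 : Ok 440798423039 27540841328095770912823794 :=
  ok_of [[1, 0, 2, 1, 1, 1, 2, 2, 2], [0, 1, 0, 0, 0, 0, 0, 0, 0], [0, 2, 2, 0, 2, 1, 2, 2, 0], [0, 1, 0, 0, 0, 1, 2, 2, 1], [0, 2, 2, 2, 2, 0, 0, 0, 1], [0, 2, 0, 1, 0, 0, 1, 1, 2], [0, 1, 1, 1, 2, 0, 1, 0, 2], [0, 1, 1, 1, 2, 0, 0, 1, 2], [0, 1, 2, 0, 1, 2, 1, 1, 1]]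
    [[1, 0, 0, 0, 0, 0, 2, 2, 2], [1, 1, 2, 1, 1, 1, 0, 2, 1], [0, 1, 2, 0, 2, 2, 0, 2, 2], [1, 1, 1, 0, 1, 0, 0, 2, 2], [2, 0, 2, 0, 2, 2, 0, 2, 1], [1, 1, 1, 1, 1, 1, 1, 0, 0], [0, 0, 2, 0, 1, 1, 1, 2, 0], [2, 2, 1, 1, 0, 1, 1, 2, 2], [0, 1, 0, 0, 2, 0, 2, 0, 2]]
    [3593, 17624, 11226, 13141, 4505, 9914, 12738] (by decide +kernel)

end Cfsg.Agent.H651.O9
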