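import Cfsg.Agent.H651.O9.Rep

/-!
# Classes of the orthogonal group in dimension 9 over the field with three elements, part 1 (helper651)
-/

set_option autoImplicit false
set_option exponentiation.threshold 30000
set_option maxRecDepth 100000

namespace Cfsg.Agent.H651.O9

theorem a21 : Ok 431 113523572673283747086390 :=
  ok_of [[1, 0, 0, 2, 0, 2, 1, 1, 1], [2, 0, 1, 1, 2, 1, 0, 1, 0], [2, 0, 2, 1, 1, 2, 1, 2, 0], [2, 1, 2, 0, 2, 1, 1, 2, 0], [2, 1, 0, 2, 1, 2, 0, 2, 1], [0, 1, 0, 0, 1, 1, 1, 2, 0], [0, 0, 0, 2, 2, 2, 1, 0, 1], [1, 0, 0, 2, 0, 2, 0, 0, 0], [0, 1, 1, 0, 0, 1, 1, 0, 2]]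
    [[1, 0, 1, 1, 1, 2, 0, 0, 0], [0, 2, 2, 1, 2, 1, 1, 2, 0], [1, 2, 2, 2, 0, 0, 0, 1, 0], [1, 0, 0, 2, 1, 2, 1, 2, 2], [2, 1, 0, 0, 0, 2, 1, 2, 1], [0, 1, 2, 0, 2, 2, 1, 2, 0], [0, 0, 2, 1, 2, 2, 0, 2, 0], [1, 0, 1, 1, 2, 0, 0, 2, 2], [2, 2, 1, 0, 0, 0, 1, 2, 2]]
    [10972, 3179] (by decide +kernel)

theorem a22 : Ok 10367 113336795589741218365494 :=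
  ok_of [[2, 2, 0, 1, 0, 1, 2, 0, 2], [2, 2, 1, 0, 1, 1, 1, 2, 1], [2, 0, 1, 0, 0, 0, 0, 2, 0], [0, 0, 2, 1, 1, 1, 0, 0, 0], [1, 0, 2, 0, 2, 2, 0, 2, 1], [0, 1, 1, 2, 2, 2, 1, 1, 1], [1, 2, 0, 1, 0, 1, 2, 1, 2], [2, 0, 2, 1, 0, 2, 1, 2, 1], [0, 1, 1, 2, 2, 2, 1, 2, 0]]
    [[2, 0, 2, 0, 0, 0, 2, 2, 2], [0, 2, 1, 2, 0, 2, 2, 2, 0], [1, 1, 1, 2, 0, 2, 0, 0, 0], [0, 2, 2, 2, 1, 2, 2, 0, 0], [1, 0, 0, 1, 2, 2, 0, 1, 1], [1, 0, 0, 1, 2, 0, 2, 2, 1], [0, 1, 1, 2, 2, 1, 0, 2, 1], [2, 2, 2, 2, 1, 0, 1, 2, 2], [2, 1, 0, 0, 0, 1, 2, 2, 1]]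
    [12398, 5507, 12021] (by decide +kernel)

theorem a23 : Ok 5183 566683983644921491685430 :=
  ok_of [[0, 1, 0, 1, 1, 0, 1, 0, 0], [0, 2, 0, 0, 1, 1, 0, 0, 2], [1, 1, 1, 0, 1, 2, 2, 2, 2], [0, 0, 0, 1, 0, 0, 0, 0, 0], [1, 1, 0, 0, 2, 1, 1, 1, 2], [0, 2, 0, 2, 0, 1, 2, 2, 1], [2, 2, 0, 1, 2, 0, 2, 1, 0], [2, 0, 0, 1, 1, 2, 1, 2, 1], [2, 2, 0, 1, 0, 2, 2, 2, 0]]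
    [[2, 2, 2, 0, 0, 0, 0, 1, 1], [1, 2, 0, 2, 1, 1, 1, 1, 2], [2, 1, 1, 1, 1, 2, 1, 1, 0], [2, 0, 1, 1, 1, 2, 1, 1, 2], [1, 1, 2, 0, 0, 1, 0, 0, 2], [1, 2, 1, 2, 2, 0, 0, 0, 2], [2, 0, 2, 2, 1, 0, 0, 1, 1], [0, 1, 2, 1, 0, 0, 2, 2, 0], [1, 0, 2, 0, 1, 1, 2, 1, 2]]
    [3493, 12862, 15921] (by decide +kernel)

theorem a24 : Ok 93311 340010386768006026559542 :=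
  ok_of [[2, 0, 1, 2, 1, 2, 1, 0, 2], [1, 1, 2, 1, 0, 2, 2, 2, 1], [2, 1, 2, 0, 2, 1, 2, 1, 0], [1, 0, 2, 0, 2, 1, 1, 2, 2], [0, 1, 1, 2, 1, 0, 1, 2, 1], [2, 1, 2, 2, 2, 2, 0, 2, 1], [2, 2, 1, 1, 2, 2, 0, 2, 0], [0, 0, 2, 1, 0, 1, 1, 2, 2], [1, 2, 1, 2, 0, 1, 2, 1, 1]]
    [[0, 2, 2, 0, 2, 0, 1, 1, 1], [1, 1, 2, 0, 0, 2, 0, 0, 1], [0, 0, 0, 1, 1, 1, 0, 0, 2], [2, 0, 2, 0, 0, 0, 2, 2, 1], [2, 1, 1, 0, 1, 2, 0, 0, 1], [1, 2, 1, 0, 1, 2, 2, 0, 1], [2, 1, 1, 1, 0, 0, 1, 1, 1], [1, 0, 2, 0, 0, 0, 1, 1, 2], [1, 2, 2, 0, 2, 1, 1, 2, 2]]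
    [7325, 6342, 19190, 5896] (by decide +kernel)

theorem a25 : Ok 46655 340010386767310243627386 :=
  ok_of [[2, 1, 1, 0, 1, 0, 1, 2, 1], [1, 1, 1, 1, 2, 1, 2, 0, 1], [2, 1, 2, 1, 2, 0, 1, 2, 0], [0, 1, 2, 0, 0, 0, 1, 1, 1], [1, 1, 0, 2, 2, 2, 1, 2, 1], [2, 0, 0, 0, 2, 0, 0, 1, 0], [0, 1, 1, 0, 1, 0, 1, 1, 1], [0, 1, 2, 1, 1, 2, 0, 2, 2], [2, 0, 1, 0, 2, 0, 0, 0, 1]]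
    [[1, 0, 0, 0, 2, 1, 2, 2, 0], [2, 0, 0, 0, 2, 1, 1, 2, 2], [2, 1, 1, 2, 2, 0, 0, 0, 1], [0, 0, 2, 2, 1, 1, 2, 1, 2], [0, 1, 1, 0, 0, 0, 2, 2, 2], [1, 2, 2, 0, 1, 2, 1, 0, 2], [2, 2, 2, 0, 1, 0, 0, 0, 2], [2, 1, 0, 1, 1, 2, 2, 1, 0], [0, 1, 1, 2, 1, 2, 1, 2, 2]]
    [3256, 5426, 12081, 9385] (by decide +kernel)

theorem a26 : Ok 279935 1020031160299843369697496 :=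
  ok_of [[1, 1, 0, 0, 0, 2, 2, 0, 2], [1, 0, 0, 1, 1, 1, 1, 2, 0], [0, 1, 0, 1, 2, 2, 2, 0, 2], [2, 2, 1, 0, 0, 1, 2, 1, 0], [1, 0, 1, 2, 0, 1, 1, 2, 2], [0, 1, 1, 0, 1, 0, 0, 0, 0], [2, 1, 0, 2, 2, 2, 0, 1, 0], [1, 1, 1, 2, 2, 0, 1, 0, 0], [0, 0, 2, 1, 2, 2, 0, 0, 1]]
    [[0, 2, 2, 0, 0, 0, 2, 2, 1], [0, 2, 2, 0, 2, 2, 0, 0, 1], [0, 2, 0, 0, 0, 0, 0, 0, 0], [2, 1, 2, 1, 0, 2, 2, 0, 2], [0, 2, 0, 2, 1, 2, 1, 2, 2], [0, 2, 0, 2, 0, 2, 1, 1, 1], [0, 0, 2, 1, 0, 2, 1, 1, 0], [0, 0, 1, 0, 1, 0, 2, 2, 1], [0, 1, 0, 2, 0, 2, 0, 2, 1]]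
    [10010, 2000, 7539] (by decide +kernel)

theorem a27 : Ok 4478975 3740114254432759034020056 :=
  ok_of [[0, 2, 0, 0, 1, 2, 2, 2, 0], [1, 0, 1, 1, 2, 0, 0, 2, 1], [1, 0, 2, 2, 0, 0, 0, 2, 2], [0, 2, 0, 1, 0, 0, 0, 0, 0], [1, 0, 1, 1, 0, 0, 0, 2, 1], [0, 2, 0, 1, 1, 1, 0, 0, 1], [1, 1, 1, 1, 2, 0, 1, 2, 1], [1, 0, 1, 1, 2, 0, 0, 0, 1], [1, 0, 1, 2, 0, 0, 0, 2, 0]]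
    [[0, 0, 1, 0, 2, 2, 1, 0, 1], [1, 0, 2, 1, 2, 1, 0, 2, 1], [1, 1, 0, 2, 2, 2, 2, 2, 0], [1, 1, 2, 0, 0, 2, 0, 0, 2], [2, 2, 2, 2, 0, 2, 2, 1, 2], [0, 0, 2, 0, 2, 2, 0, 0, 1], [0, 0, 2, 2, 1, 0, 1, 2, 0], [0, 1, 2, 2, 0, 0, 0, 2, 2], [2, 1, 1, 2, 2, 1, 0, 2, 2]]
    [11173, 19209, 6325, 1361, 16086] (by decide +kernel)

theorem a28 : Ok 5598719 2380072707368388564811992 :=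
  ok_of [[1, 2, 0, 0, 1, 2, 0, 0, 2], [2, 2, 1, 0, 0, 2, 1, 0, 1], [0, 1, 1, 2, 1, 1, 2, 2, 1], [1, 2, 2, 1, 0, 1, 2, 0, 2], [0, 1, 0, 2, 1, 0, 0, 0, 0], [0, 1, 0, 1, 2, 1, 2, 2, 0], [1, 1, 2, 0, 2, 1, 2, 2, 2], [2, 0, 1, 0, 2, 2, 0, 0, 1], [2, 2, 1, 2, 0, 2, 1, 0, 2]]
    [[1, 0, 1, 1, 2, 1, 2, 2, 1], [1, 1, 1, 2, 0, 2, 1, 1, 1], [2, 2, 1, 2, 0, 1, 1, 0, 0], [0, 2, 2, 2, 0, 0, 2, 0, 2], [1, 2, 2, 0, 2, 2, 1, 0, 0], [0, 0, 2, 2, 1, 1, 2, 2, 0], [0, 0, 2, 2, 2, 0, 0, 1, 1], [1, 0, 0, 2, 1, 0, 1, 1, 2], [1, 2, 2, 1, 1, 2, 0, 0, 2]]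
    [11864, 18361, 4505, 4883, 8135, 4506] (by decide +kernel)

theorem a29 : Ok 20155391 3060093480899530125017790 :=
  ok_of [[1, 2, 1, 2, 2, 1, 0, 2, 0], [2, 0, 2, 2, 0, 0, 0, 0, 1], [1, 1, 1, 0, 1, 0, 0, 0, 2], [2, 1, 2, 1, 0, 1, 0, 2, 1], [2, 0, 1, 0, 2, 2, 0, 1, 1], [0, 1, 0, 2, 2, 0, 2, 0, 0], [1, 0, 2, 0, 1, 1, 0, 1, 2], [0, 0, 0, 0, 2, 0, 2, 0, 0], [1, 1, 1, 1, 0, 0, 0, 0, 0]]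
    [[2, 2, 0, 0, 0, 0, 1, 0, 1], [2, 0, 2, 0, 1, 2, 1, 2, 1], [1, 0, 2, 1, 1, 1, 0, 1, 0], [1, 0, 1, 2, 1, 0, 1, 2, 2], [1, 0, 2, 1, 0, 1, 1, 1, 0], [1, 2, 1, 0, 2, 1, 0, 2, 1], [2, 2, 0, 1, 1, 2, 2, 2, 2], [2, 2, 0, 2, 0, 0, 0, 0, 1], [2, 1, 1, 1, 2, 2, 1, 2, 1]]
    [15492, 15999, 11791, 5316, 14989] (by decide +kernel)

theorem a30 : Ok 146731253759 27540841328095771103920830 :=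
  ok_of [[2, 1, 1, 2, 2, 0, 1, 0, 2], [2, 2, 0, 0, 1, 2, 2, 0, 0], [0, 2, 2, 2, 0, 2, 0, 0, 2], [0, 1, 2, 2, 0, 1, 0, 0, 1], [2, 0, 1, 2, 2, 1, 2, 0, 2], [1, 2, 0, 0, 2, 2, 1, 0, 0], [0, 0, 0, 0, 0, 0, 1, 0, 0], [2, 1, 0, 0, 1, 2, 2, 1, 0], [0, 2, 1, 2, 0, 2, 0, 0, 0]]
    [[2, 2, 2, 1, 2, 0, 2, 2, 2], [1, 0, 0, 0, 1, 1, 2, 1, 0], [1, 1, 0, 2, 1, 0, 1, 0, 1], [0, 2, 2, 0, 2, 1, 2, 1, 2], [0, 2, 1, 2, 0, 2, 1, 2, 1], [2, 2, 1, 0, 2, 0, 0, 1, 2], [1, 1, 2, 1, 0, 2, 2, 2, 2], [1, 1, 1, 0, 0, 0, 0, 1, 1], [0, 1, 0, 0, 2, 0, 0, 0, 2]]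
    [10224, 13001, 7239, 12425, 14912, 11506, 15440, 4607] (by decide +kernel)

theorem a31 : Ok 647 113336795589625251889746 :=
  ok_of [[0, 0, 1, 1, 2, 1, 2, 2, 2], [1, 1, 2, 1, 1, 1, 0, 1, 1], [2, 2, 1, 2, 1, 1, 1, 2, 0], [2, 2, 2, 1, 1, 2, 1, 1, 0], [1, 1, 1, 0, 0, 1, 2, 1, 0], [2, 0, 2, 2, 0, 2, 0, 0, 2], [1, 2, 1, 0, 1, 2, 0, 1, 2], [1, 0, 0, 0, 1, 1, 1, 0, 2], [2, 2, 0, 0, 2, 2, 2, 2, 2]]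
    [[0, 2, 2, 2, 1, 0, 1, 0, 2], [1, 1, 2, 2, 1, 2, 0, 0, 2], [1, 2, 1, 2, 2, 1, 2, 2, 2], [1, 1, 2, 0, 1, 0, 0, 2, 2], [0, 1, 2, 1, 0, 1, 2, 1, 2], [2, 1, 0, 2, 1, 0, 1, 1, 0], [0, 1, 2, 1, 2, 0, 1, 2, 2], [1, 2, 2, 1, 0, 0, 2, 1, 0], [2, 1, 2, 1, 0, 0, 2, 2, 0]]
    [17164, 2322] (by decide +kernel)

theorem a32 : Ok 647 114083888724784435495182 :=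
  ok_of [[2, 1, 2, 2, 0, 0, 2, 2, 1], [0, 2, 1, 0, 2, 1, 2, 1, 1], [1, 0, 2, 1, 0, 1, 1, 2, 2], [0, 2, 1, 2, 1, 1, 1, 0, 0], [2, 2, 0, 0, 2, 1, 2, 2, 1], [2, 0, 1, 0, 0, 2, 1, 1, 1], [0, 2, 0, 1, 2, 0, 0, 0, 0], [2, 1, 1, 2, 2, 1, 0, 1, 0], [2, 1, 2, 1, 1, 0, 2, 2, 0]]
    [[1, 0, 1, 2, 0, 2, 1, 1, 0], [0, 1, 0, 1, 1, 1, 1, 2, 0], [2, 1, 1, 2, 1, 2, 1, 1, 1], [2, 1, 2, 2, 2, 2, 0, 1, 2], [1, 0, 1, 0, 0, 1, 2, 2, 1], [1, 2, 1, 2, 0, 0, 1, 2, 0], [2, 0, 0, 2, 2, 2, 0, 0, 2], [2, 0, 2, 0, 2, 2, 0, 1, 2], [0, 1, 0, 0, 0, 1, 0, 2, 1]]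
    [14214, 896] (by decide +kernel)

theorem a33 : Ok 1295 113336795589973144240722 :=
  ok_of [[2, 1, 2, 1, 0, 2, 1, 0, 2], [2, 1, 2, 2, 0, 2, 1, 0, 0], [2, 1, 1, 2, 2, 2, 2, 1, 2], [0, 2, 0, 1, 0, 1, 0, 0, 0], [1, 0, 1, 2, 0, 2, 1, 2, 2], [0, 0, 0, 2, 0, 0, 0, 2, 0], [2, 0, 0, 1, 2, 0, 0, 1, 0], [0, 1, 0, 2, 0, 1, 0, 0, 0], [1, 0, 1, 1, 0, 0, 2, 1, 2]]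
    [[2, 2, 2, 0, 0, 2, 1, 0, 2], [2, 1, 2, 1, 0, 0, 0, 0, 1], [1, 2, 2, 0, 0, 1, 1, 2, 2], [2, 0, 0, 2, 1, 1, 1, 2, 0], [2, 2, 0, 1, 0, 0, 1, 0, 1], [2, 1, 1, 0, 1, 0, 1, 2, 1], [0, 2, 0, 0, 2, 2, 2, 0, 2], [0, 1, 2, 1, 0, 0, 2, 2, 0], [1, 0, 1, 0, 0, 2, 0, 2, 1]]
    [8166, 7979] (by decide +kernel)

theorem a34 : Ok 20735 113336795589973146600018 :=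
  ok_of [[2, 1, 1, 0, 1, 2, 0, 0, 1], [0, 2, 2, 2, 1, 2, 2, 0, 0], [2, 1, 2, 1, 0, 2, 0, 0, 2], [1, 0, 2, 0, 2, 1, 2, 2, 0], [0, 2, 2, 2, 2, 0, 2, 0, 2], [1, 0, 1, 2, 1, 2, 0, 0, 2], [1, 2, 1, 2, 0, 1, 2, 0, 1], [2, 1, 2, 0, 1, 1, 2, 2, 2], [2, 2, 1, 2, 0, 2, 1, 0, 2]]
    [[2, 1, 2, 0, 2, 1, 2, 0, 1], [2, 2, 2, 0, 1, 0, 0, 1, 1], [1, 2, 2, 1, 0, 0, 0, 2, 1], [1, 1, 2, 1, 0, 0, 0, 2, 0], [1, 1, 2, 1, 1, 1, 0, 1, 2], [0, 0, 0, 0, 1, 0, 0, 1, 0], [1, 1, 2, 0, 1, 2, 1, 1, 2], [1, 0, 1, 1, 1, 2, 1, 1, 2], [0, 1, 2, 2, 2, 2, 1, 0, 0]]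
    [2410, 4806, 13872, 3495] (by decide +kernel)

theorem a35 : Ok 15551 113336795589915165721116 :=
  ok_of [[1, 2, 1, 2, 2, 0, 0, 0, 1], [1, 2, 2, 0, 1, 0, 1, 2, 2], [1, 2, 1, 2, 0, 1, 1, 0, 2], [1, 0, 0, 0, 0, 2, 0, 2, 0], [0, 0, 1, 0, 2, 2, 1, 2, 0], [2, 0, 1, 0, 2, 2, 1, 0, 2], [2, 2, 0, 0, 1, 2, 1, 1, 2], [1, 1, 0, 1, 1, 0, 0, 0, 2], [1, 0, 0, 0, 2, 0, 1, 0, 1]]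
    [[2, 2, 0, 2, 0, 0, 2, 0, 1], [1, 2, 1, 0, 2, 1, 0, 2, 1], [1, 1, 0, 0, 2, 0, 0, 2, 1], [1, 1, 2, 1, 0, 2, 1, 1, 2], [2, 2, 0, 0, 1, 0, 1, 2, 0], [0, 2, 2, 2, 1, 0, 0, 0, 1], [2, 0, 2, 0, 1, 1, 1, 2, 0], [2, 2, 2, 1, 0, 1, 1, 1, 1], [1, 0, 2, 0, 2, 1, 2, 2, 2]]
    [1205, 1109, 17738, 9907] (by decide +kernel)

theorem a36 : Ok 15551 113336795589393325426152 :=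
  ok_of [[1, 1, 2, 2, 0, 1, 2, 2, 0], [0, 2, 2, 1, 1, 1, 1, 1, 2], [2, 2, 2, 0, 1, 1, 1, 2, 2], [0, 2, 0, 2, 1, 0, 0, 1, 0], [1, 1, 0, 0, 2, 0, 1, 0, 2], [2, 1, 0, 1, 2, 1, 1, 0, 1], [1, 0, 0, 1, 1, 1, 0, 1, 1], [2, 0, 2, 2, 1, 2, 2, 0, 0], [1, 1, 2, 2, 0, 0, 0, 1, 0]]
    [[0, 0, 2, 0, 1, 1, 1, 0, 1], [1, 0, 2, 0, 2, 2, 0, 1, 2], [2, 1, 2, 0, 2, 0, 1, 1, 0], [0, 1, 0, 0, 1, 0, 1, 1, 1], [2, 1, 2, 1, 0, 1, 0, 1, 2], [0, 2, 1, 2, 0, 1, 1, 1, 0], [0, 1, 2, 2, 0, 0, 1, 2, 0], [1, 0, 2, 2, 0, 0, 0, 1, 1], [0, 0, 2, 0, 2, 0, 2, 1, 0]]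
    [11578, 4744, 9306, 9572] (by decide +kernel)

theorem a37 : Ok 31103 113336795588871488668836 :=
  ok_of [[0, 2, 0, 1, 0, 1, 0, 2, 0], [2, 0, 2, 0, 2, 1, 1, 2, 1], [2, 0, 0, 0, 1, 1, 2, 0, 2], [0, 1, 0, 1, 1, 2, 1, 1, 0], [1, 0, 1, 2, 2, 0, 2, 1, 1], [2, 2, 1, 1, 1, 1, 0, 0, 0], [1, 1, 1, 2, 1, 1, 1, 0, 1], [2, 1, 0, 1, 1, 1, 2, 2, 2], [1, 2, 1, 1, 2, 2, 2, 2, 0]]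
    [[2, 0, 0, 2, 2, 2, 2, 0, 2], [2, 2, 1, 1, 2, 0, 1, 2, 1], [2, 0, 1, 1, 1, 1, 2, 1, 2], [2, 0, 0, 0, 0, 0, 1, 1, 2], [2, 1, 0, 0, 1, 2, 0, 0, 2], [0, 1, 0, 1, 0, 2, 1, 0, 0], [1, 0, 0, 1, 2, 2, 0, 1, 1], [1, 1, 2, 1, 0, 0, 1, 0, 0], [0, 1, 0, 0, 2, 2, 1, 2, 2]]
    [16647, 4333, 10860] (by decide +kernel)

theorem a38 : Ok 497663 113336795588871509902500 :=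
  ok_of [[2, 0, 0, 0, 0, 0, 0, 0, 0], [0, 2, 0, 1, 1, 0, 2, 2, 1], [1, 0, 1, 2, 1, 1, 0, 1, 0], [0, 0, 0, 1, 1, 0, 2, 2, 1], [0, 0, 0, 1, 0, 0, 2, 2, 1], [0, 0, 2, 2, 2, 2, 2, 2, 0], [0, 0, 1, 0, 0, 0, 1, 1, 1], [0, 0, 1, 2, 0, 0, 2, 1, 2], [0, 0, 2, 1, 1, 0, 0, 2, 0]]
    [[2, 0, 2, 0, 2, 2, 0, 0, 1], [1, 0, 1, 1, 1, 1, 1, 2, 1], [0, 2, 0, 2, 2, 1, 1, 2, 1], [1, 2, 1, 2, 0, 2, 2, 1, 0], [1, 0, 2, 0, 0, 2, 2, 2, 2], [2, 0, 0, 2, 0, 1, 0, 0, 0], [0, 1, 1, 2, 2, 2, 1, 1, 1], [0, 0, 2, 1, 2, 2, 2, 2, 2], [2, 1, 2, 0, 0, 1, 1, 1, 2]]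
    [3269, 16035, 11814, 2396, 8163] (by decide +kernel)

theorem a39 : Ok 7775 566683977944705319765480 :=
  ok_of [[2, 0, 2, 0, 0, 2, 1, 1, 2], [2, 2, 0, 0, 2, 0, 0, 1, 2], [0, 1, 2, 2, 0, 2, 1, 0, 1], [2, 1, 1, 0, 1, 2, 0, 0, 1], [0, 2, 1, 1, 2, 1, 2, 2, 2], [0, 0, 2, 1, 0, 0, 2, 1, 2], [0, 0, 0, 2, 2, 0, 0, 1, 0], [0, 0, 0, 0, 2, 1, 2, 1, 1], [2, 2, 2, 1, 1, 2, 1, 1, 1]]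
    [[1, 2, 2, 1, 1, 2, 2, 0, 0], [0, 2, 0, 1, 2, 2, 0, 0, 1], [1, 0, 2, 2, 2, 0, 2, 0, 1], [2, 2, 1, 0, 1, 2, 2, 2, 1], [0, 2, 2, 1, 2, 1, 0, 2, 1], [1, 1, 2, 1, 2, 0, 2, 2, 1], [1, 1, 1, 2, 1, 1, 0, 2, 2], [2, 1, 0, 2, 2, 2, 2, 0, 0], [2, 2, 0, 0, 1, 0, 2, 2, 0]]
    [18995, 4485, 19572] (by decide +kernel)

theorem a40 : Ok 7775 567804617647705015321116 :=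
  ok_of [[1, 2, 0, 2, 0, 0, 2, 2, 0], [1, 1, 1, 2, 2, 2, 1, 0, 2], [1, 1, 0, 0, 2, 2, 2, 1, 2], [1, 1, 1, 2, 2, 2, 2, 0, 2], [1, 2, 0, 1, 1, 2, 1, 0, 1], [0, 2, 0, 2, 1, 0, 2, 0, 0], [2, 2, 1, 0, 2, 0, 2, 0, 1], [1, 0, 0, 2, 1, 1, 2, 0, 1], [2, 2, 0, 0, 2, 2, 0, 0, 0]]
    [[2, 2, 2, 2, 0, 2, 2, 1, 2], [1, 1, 0, 0, 0, 2, 0, 2, 1], [1, 1, 1, 1, 1, 2, 1, 2, 0], [2, 0, 1, 1, 0, 1, 2, 1, 0], [2, 1, 2, 1, 0, 1, 1, 0, 1], [1, 2, 1, 1, 0, 1, 1, 1, 1], [0, 1, 0, 2, 2, 2, 0, 0, 1], [2, 0, 1, 1, 2, 0, 2, 0, 2], [0, 1, 0, 2, 1, 2, 0, 2, 0]]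
    [433, 8893, 18700, 2254] (by decide +kernel)

end Cfsg.Agent.H651.O9
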