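import Cfsg.Agent.H651.O9.Rep

/-!
# Classes of the orthogonal group in dimension 9 over the field with three elements, part 2 (helper651)
-/

set_option autoImplicit false
set_option exponentiation.threshold 30000
set_option maxRecDepth 100000

namespace Cfsg.Agent.H651.O9

theorem a41 : Ok 15551 566683977945748996818084 :=
  ok_of [[0, 2, 0, 1, 0, 0, 1, 1, 2], [1, 1, 1, 1, 0, 0, 1, 2, 2], [1, 2, 1, 2, 1, 0, 0, 1, 1], [0, 2, 2, 1, 2, 1, 0, 0, 2], [2, 2, 2, 2, 1, 2, 1, 2, 0], [1, 2, 1, 2, 0, 2, 0, 2, 2], [2, 1, 1, 2, 1, 1, 2, 2, 0], [1, 0, 0, 0, 1, 0, 1, 0, 0], [2, 1, 1, 1, 0, 2, 0, 0, 2]]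
    [[0, 0, 1, 1, 2, 0, 0, 0, 2], [2, 2, 0, 0, 1, 0, 0, 1, 2], [0, 0, 2, 0, 1, 2, 1, 1, 0], [1, 0, 1, 0, 0, 0, 2, 2, 1], [2, 1, 1, 1, 0, 0, 2, 2, 2], [1, 2, 2, 1, 2, 1, 1, 1, 2], [1, 1, 2, 1, 1, 1, 0, 1, 2], [2, 2, 0, 2, 1, 0, 0, 0, 2], [2, 2, 1, 0, 0, 0, 2, 1, 1]]
    [12456, 16566, 19008] (by decide +kernel)

theorem a42 : Ok 248831 566683977945749018051748 :=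
  ok_of [[0, 2, 0, 1, 0, 1, 1, 0, 0], [2, 0, 1, 1, 0, 0, 0, 2, 2], [1, 0, 1, 0, 2, 2, 0, 1, 1], [1, 0, 1, 0, 2, 1, 2, 1, 2], [0, 1, 1, 0, 1, 0, 1, 1, 2], [0, 2, 0, 2, 1, 0, 0, 2, 0], [2, 1, 0, 0, 1, 2, 0, 1, 2], [0, 2, 1, 1, 1, 2, 1, 1, 2], [2, 1, 1, 1, 0, 0, 0, 1, 1]]
    [[0, 0, 1, 1, 2, 1, 2, 0, 0], [2, 0, 2, 0, 2, 0, 0, 0, 0], [2, 2, 1, 0, 0, 1, 2, 0, 1], [0, 1, 2, 2, 1, 0, 0, 2, 1], [2, 1, 1, 2, 1, 0, 0, 1, 1], [2, 2, 1, 0, 0, 1, 0, 0, 1], [1, 2, 2, 1, 0, 0, 0, 0, 2], [2, 1, 1, 0, 1, 2, 2, 0, 2], [0, 0, 1, 0, 2, 0, 0, 0, 1]]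
    [12364, 17474, 8510, 16081] (by decide +kernel)

theorem a43 : Ok 46655 340010386766614457156934 :=
  ok_of [[2, 1, 1, 0, 2, 2, 0, 2, 0], [0, 1, 2, 0, 1, 1, 2, 1, 0], [2, 0, 0, 2, 2, 2, 0, 1, 2], [1, 2, 0, 2, 1, 2, 1, 0, 1], [0, 1, 0, 2, 2, 0, 2, 2, 2], [0, 2, 2, 2, 0, 0, 0, 1, 2], [1, 0, 1, 2, 1, 2, 0, 2, 2], [2, 1, 2, 1, 0, 2, 0, 0, 1], [2, 0, 2, 2, 2, 2, 0, 1, 0]]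
    [[2, 1, 1, 2, 0, 1, 0, 0, 2], [1, 0, 1, 2, 1, 2, 0, 2, 2], [2, 1, 0, 0, 0, 2, 2, 1, 1], [2, 0, 1, 1, 2, 0, 0, 0, 1], [1, 2, 0, 0, 1, 1, 2, 0, 0], [0, 0, 2, 1, 0, 2, 2, 1, 2], [1, 0, 0, 1, 0, 0, 2, 2, 2], [1, 1, 0, 2, 0, 0, 1, 0, 2], [1, 0, 2, 0, 0, 1, 0, 0, 2]]
    [18940, 7207, 19262, 6136] (by decide +kernel)

theorem a44 : Ok 46655 340010386768179974505798 :=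
  ok_of [[2, 0, 0, 2, 1, 0, 1, 1, 2], [1, 1, 2, 2, 2, 0, 1, 2, 2], [0, 0, 1, 0, 1, 1, 2, 1, 0], [2, 1, 2, 0, 1, 2, 0, 2, 1], [0, 0, 2, 1, 1, 2, 2, 0, 2], [0, 0, 0, 1, 1, 1, 0, 0, 1], [2, 2, 2, 1, 1, 0, 1, 0, 0], [2, 2, 1, 2, 0, 2, 0, 1, 0], [0, 2, 1, 2, 1, 2, 2, 1, 2]]
    [[1, 0, 2, 2, 1, 2, 0, 2, 0], [0, 2, 1, 0, 0, 0, 0, 2, 0], [0, 1, 0, 2, 1, 1, 2, 1, 0], [0, 0, 2, 0, 0, 2, 0, 2, 0], [2, 1, 0, 2, 1, 2, 0, 2, 2], [2, 1, 2, 2, 1, 1, 0, 2, 1], [1, 1, 1, 2, 0, 0, 1, 1, 1], [0, 0, 2, 0, 0, 2, 0, 0, 0], [2, 2, 1, 2, 1, 2, 0, 1, 0]]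
    [16618, 5308, 11650, 5184] (by decide +kernel)

theorem a45 : Ok 93311 340010386766614460697498 :=
  ok_of [[1, 0, 0, 1, 1, 2, 1, 1, 0], [1, 2, 0, 0, 0, 2, 1, 2, 2], [2, 0, 1, 0, 0, 1, 1, 0, 0], [0, 2, 1, 0, 0, 1, 2, 0, 0], [1, 0, 0, 2, 0, 2, 0, 1, 0], [0, 0, 2, 0, 0, 1, 0, 0, 0], [0, 1, 0, 1, 1, 1, 0, 2, 2], [1, 0, 1, 1, 1, 0, 2, 1, 0], [2, 0, 1, 2, 2, 2, 0, 2, 1]]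
    [[0, 0, 2, 0, 0, 1, 0, 2, 0], [0, 2, 1, 1, 0, 1, 1, 0, 2], [1, 0, 1, 2, 0, 1, 1, 2, 1], [1, 1, 0, 0, 2, 2, 2, 1, 2], [2, 2, 2, 2, 1, 0, 2, 1, 1], [0, 0, 1, 0, 1, 2, 1, 1, 0], [0, 1, 1, 1, 0, 2, 2, 1, 0], [2, 1, 0, 1, 2, 2, 1, 1, 2], [2, 2, 2, 1, 1, 2, 0, 1, 0]]
    [15803, 8971, 8229] (by decide +kernel)

theorem a46 : Ok 1492991 340010386766614481931162 :=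
  ok_of [[0, 1, 0, 0, 2, 2, 0, 1, 1], [0, 1, 2, 1, 2, 1, 0, 2, 1], [1, 2, 0, 1, 2, 1, 0, 1, 2], [1, 2, 0, 1, 2, 2, 0, 2, 0], [2, 2, 1, 0, 1, 0, 0, 2, 2], [0, 1, 0, 1, 2, 2, 0, 0, 1], [0, 2, 2, 0, 1, 1, 2, 1, 0], [0, 0, 0, 0, 0, 0, 0, 2, 0], [2, 2, 0, 1, 2, 1, 0, 0, 1]]
    [[0, 0, 2, 1, 0, 1, 1, 2, 2], [0, 1, 0, 1, 1, 1, 1, 0, 1], [1, 1, 0, 1, 1, 0, 0, 2, 2], [0, 1, 2, 0, 1, 2, 1, 1, 0], [2, 2, 2, 1, 0, 0, 0, 2, 0], [2, 1, 0, 0, 2, 0, 2, 1, 1], [0, 0, 0, 0, 2, 2, 0, 0, 2], [2, 0, 2, 1, 1, 1, 2, 0, 0], [1, 0, 0, 1, 0, 0, 1, 2, 0]]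
    [11842, 10969, 8113, 7914, 4565] (by decide +kernel)

theorem a47 : Ok 3732479 3060093480899530121479494 :=
  ok_of [[0, 2, 1, 0, 1, 2, 1, 2, 2], [0, 2, 0, 0, 1, 1, 0, 2, 1], [1, 1, 1, 1, 2, 2, 0, 0, 0], [1, 0, 1, 2, 1, 2, 0, 2, 1], [0, 0, 2, 1, 1, 2, 1, 0, 1], [2, 0, 1, 0, 2, 1, 1, 1, 0], [0, 2, 0, 2, 2, 2, 0, 0, 2], [1, 0, 0, 1, 1, 1, 0, 2, 2], [1, 1, 0, 2, 2, 2, 1, 1, 1]]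
    [[2, 2, 0, 2, 0, 0, 2, 1, 0], [1, 0, 2, 0, 1, 0, 1, 0, 0], [0, 0, 0, 2, 1, 0, 2, 2, 2], [2, 0, 1, 2, 1, 0, 2, 2, 0], [0, 0, 0, 0, 1, 2, 1, 1, 0], [2, 2, 0, 1, 1, 0, 0, 2, 1], [1, 1, 0, 2, 1, 0, 0, 1, 2], [1, 1, 2, 1, 2, 2, 2, 1, 0], [0, 1, 0, 0, 2, 0, 0, 2, 1]]
    [1036, 12367, 11845, 18949, 9320] (by decide +kernel)

theorem a48 : Ok 3732479 3060093480901095638828358 :=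
  ok_of [[0, 2, 2, 2, 0, 2, 2, 0, 2], [2, 1, 1, 0, 2, 0, 1, 2, 1], [2, 0, 2, 0, 1, 0, 0, 1, 0], [2, 2, 2, 0, 2, 2, 1, 2, 1], [2, 0, 1, 0, 2, 0, 0, 1, 0], [2, 1, 1, 2, 1, 0, 0, 1, 2], [2, 1, 1, 2, 1, 2, 1, 1, 2], [1, 1, 2, 2, 0, 2, 1, 1, 0], [1, 0, 0, 1, 2, 1, 0, 2, 0]]
    [[0, 2, 1, 0, 0, 2, 1, 0, 0], [2, 2, 0, 2, 2, 0, 1, 0, 1], [2, 1, 1, 2, 1, 2, 1, 1, 2], [2, 1, 2, 2, 2, 0, 0, 2, 0], [2, 1, 0, 2, 1, 0, 2, 1, 2], [0, 1, 2, 1, 0, 1, 1, 2, 2], [0, 0, 2, 1, 1, 2, 1, 0, 1], [2, 1, 1, 0, 2, 2, 1, 1, 2], [1, 0, 2, 0, 1, 1, 1, 2, 2]]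
    [548, 3671, 12821, 17335, 5428] (by decide +kernel)

theorem a49 : Ok 7464959 3060093480899530125020058 :=
  ok_of [[0, 2, 1, 2, 0, 0, 1, 1, 0], [2, 0, 1, 2, 0, 0, 1, 1, 0], [0, 0, 2, 2, 2, 0, 0, 0, 1], [2, 2, 0, 2, 1, 0, 1, 2, 0], [1, 1, 1, 1, 1, 1, 1, 0, 0], [1, 1, 1, 2, 2, 0, 0, 0, 0], [2, 2, 2, 0, 0, 2, 0, 1, 1], [0, 0, 1, 0, 0, 2, 1, 0, 0], [2, 2, 1, 2, 1, 2, 2, 2, 2]]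
    [[1, 1, 1, 1, 1, 2, 1, 0, 2], [2, 2, 2, 2, 0, 2, 2, 1, 1], [2, 1, 2, 2, 1, 1, 1, 0, 1], [0, 0, 2, 1, 1, 1, 1, 1, 1], [0, 0, 1, 2, 0, 2, 1, 1, 0], [0, 0, 2, 2, 2, 2, 2, 1, 2], [2, 1, 1, 2, 1, 0, 2, 1, 0], [1, 2, 2, 1, 0, 2, 1, 0, 2], [2, 2, 1, 1, 2, 0, 1, 1, 2]]
    [1021, 3100, 4008, 7686, 623] (by decide +kernel)

theorem a50 : Ok 119439359 3060093480899530316123034 :=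
  ok_of [[1, 2, 0, 0, 1, 2, 0, 0, 2], [1, 1, 0, 1, 1, 1, 1, 2, 2], [1, 0, 1, 2, 1, 0, 1, 2, 1], [0, 0, 0, 1, 0, 0, 0, 0, 0], [1, 2, 0, 0, 0, 1, 1, 2, 2], [1, 1, 0, 1, 2, 0, 0, 0, 1], [2, 0, 0, 2, 0, 2, 1, 0, 0], [1, 0, 0, 1, 0, 1, 0, 1, 0], [2, 2, 0, 1, 1, 2, 0, 0, 1]]
    [[1, 1, 1, 2, 2, 1, 2, 1, 2], [2, 2, 2, 1, 0, 0, 1, 0, 0], [1, 2, 0, 0, 1, 1, 0, 0, 0], [2, 1, 2, 2, 1, 1, 1, 0, 1], [0, 2, 1, 1, 1, 0, 0, 2, 1], [0, 0, 1, 2, 1, 2, 0, 1, 2], [0, 2, 0, 2, 1, 0, 1, 1, 2], [1, 0, 1, 1, 2, 2, 2, 1, 2], [2, 1, 0, 0, 2, 2, 1, 0, 1]]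
    [2311, 711, 17428, 19469, 11039] (by decide +kernel)

theorem a51 : Ok 647 113336812688998158827844 :=
  ok_of [[2, 1, 2, 0, 2, 1, 1, 0, 2], [2, 1, 1, 0, 0, 1, 1, 2, 1], [0, 1, 2, 2, 0, 1, 0, 0, 2], [2, 2, 0, 1, 0, 0, 2, 1, 0], [0, 2, 1, 0, 2, 2, 1, 0, 1], [2, 1, 0, 2, 0, 1, 2, 2, 0], [2, 1, 2, 1, 0, 0, 0, 2, 2], [0, 2, 1, 2, 2, 1, 0, 2, 2], [2, 1, 2, 2, 0, 0, 0, 2, 1]]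
    [[2, 1, 2, 0, 2, 1, 0, 1, 2], [1, 0, 2, 0, 2, 2, 1, 0, 1], [1, 1, 1, 1, 0, 1, 1, 2, 2], [1, 0, 1, 1, 1, 0, 1, 0, 2], [1, 1, 2, 0, 2, 2, 1, 2, 1], [2, 1, 2, 1, 1, 2, 1, 0, 0], [2, 0, 2, 0, 0, 0, 2, 2, 1], [1, 2, 2, 1, 0, 0, 1, 0, 2], [2, 2, 2, 2, 0, 0, 2, 0, 0]]
    [12968, 2204] (by decide +kernel)

theorem a52 : Ok 647 113336795589915162771456 :=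
  ok_of [[1, 1, 1, 2, 0, 2, 0, 0, 0], [2, 0, 2, 0, 2, 2, 0, 0, 1], [1, 1, 1, 1, 2, 2, 0, 0, 0], [1, 1, 0, 2, 1, 2, 0, 1, 0], [1, 1, 2, 0, 0, 1, 2, 0, 2], [2, 0, 2, 1, 1, 1, 0, 1, 0], [2, 0, 1, 1, 2, 2, 2, 1, 2], [1, 0, 1, 2, 2, 2, 0, 1, 0], [2, 2, 2, 1, 0, 1, 0, 2, 1]]
    [[2, 0, 0, 0, 0, 2, 1, 1, 2], [0, 1, 1, 1, 1, 2, 0, 0, 0], [2, 0, 1, 1, 0, 2, 2, 0, 2], [2, 0, 1, 2, 1, 2, 2, 0, 1], [2, 1, 0, 2, 0, 2, 1, 2, 2], [0, 1, 1, 2, 1, 1, 2, 2, 2], [0, 1, 1, 0, 0, 2, 1, 0, 0], [1, 0, 2, 2, 2, 0, 1, 0, 2], [2, 1, 0, 0, 0, 1, 1, 1, 1]]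
    [14433, 12621] (by decide +kernel)

theorem a53 : Ok 3887 113336795589915162182280 :=
  ok_of [[1, 1, 2, 2, 1, 1, 1, 1, 1], [2, 1, 2, 0, 1, 1, 1, 1, 2], [2, 0, 1, 1, 0, 2, 0, 2, 2], [2, 2, 0, 1, 0, 2, 0, 0, 1], [2, 1, 2, 2, 2, 2, 1, 2, 0], [1, 2, 0, 2, 1, 1, 1, 1, 1], [2, 1, 0, 1, 2, 0, 2, 1, 2], [1, 1, 0, 2, 0, 2, 2, 0, 2], [2, 2, 1, 1, 0, 1, 0, 0, 0]]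
    [[1, 1, 0, 2, 1, 0, 1, 2, 0], [2, 1, 1, 1, 0, 1, 0, 1, 0], [1, 0, 2, 2, 2, 1, 2, 2, 2], [1, 1, 2, 2, 0, 1, 2, 1, 1], [2, 0, 2, 1, 1, 2, 0, 1, 1], [0, 0, 0, 2, 0, 0, 1, 1, 2], [0, 0, 1, 2, 2, 0, 1, 2, 2], [1, 0, 2, 1, 0, 2, 2, 1, 1], [0, 1, 0, 1, 0, 1, 0, 1, 1]]
    [5333, 3225] (by decide +kernel)

theorem a54 : Ok 46655 113336795589915165720576 :=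
  ok_of [[1, 0, 1, 1, 0, 0, 2, 0, 2], [2, 0, 0, 2, 2, 2, 1, 0, 1], [2, 0, 1, 1, 0, 1, 1, 0, 2], [1, 0, 0, 2, 1, 1, 1, 0, 2], [2, 1, 2, 0, 1, 2, 0, 2, 1], [1, 1, 1, 0, 0, 0, 0, 1, 1], [1, 0, 1, 2, 1, 1, 1, 1, 2], [0, 1, 2, 0, 1, 2, 1, 2, 1], [0, 2, 1, 2, 2, 0, 1, 1, 1]]
    [[1, 1, 0, 0, 0, 1, 0, 0, 1], [2, 1, 0, 2, 1, 2, 2, 1, 0], [1, 1, 0, 0, 0, 1, 0, 1, 1], [0, 1, 2, 2, 1, 0, 1, 0, 1], [2, 1, 2, 0, 2, 1, 0, 1, 1], [2, 1, 2, 2, 1, 1, 0, 2, 2], [2, 1, 0, 2, 1, 2, 0, 2, 2], [2, 1, 2, 2, 2, 2, 0, 2, 1], [2, 2, 2, 1, 2, 1, 0, 0, 0]]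
    [15098, 3660, 13614, 11629] (by decide +kernel)

theorem a55 : Ok 46655 113336795589393325425612 :=
  ok_of [[0, 2, 2, 0, 0, 1, 0, 1, 0], [0, 1, 2, 1, 1, 1, 1, 0, 0], [0, 1, 1, 1, 2, 0, 2, 1, 0], [2, 1, 1, 2, 2, 0, 2, 0, 1], [1, 0, 2, 2, 2, 0, 1, 0, 2], [0, 0, 2, 2, 0, 2, 2, 1, 0], [1, 2, 2, 2, 0, 0, 0, 2, 0], [1, 2, 0, 0, 1, 2, 0, 2, 2], [2, 2, 0, 0, 2, 1, 0, 1, 2]]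
    [[1, 0, 0, 2, 1, 2, 1, 2, 1], [0, 0, 1, 0, 2, 2, 0, 0, 2], [1, 0, 1, 0, 1, 2, 1, 1, 0], [2, 1, 2, 2, 1, 2, 1, 2, 2], [2, 1, 2, 0, 2, 1, 2, 1, 0], [1, 2, 0, 1, 1, 2, 0, 2, 1], [2, 2, 1, 0, 1, 0, 2, 0, 2], [0, 2, 1, 1, 2, 0, 0, 2, 2], [1, 0, 0, 0, 2, 2, 1, 2, 2]]
    [6017, 2393, 3224, 1508] (by decide +kernel)

theorem a56 : Ok 279935 113336795588871488667648 :=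
  ok_of [[1, 1, 0, 0, 0, 0, 0, 0, 1], [2, 2, 1, 2, 0, 1, 1, 0, 0], [1, 2, 2, 1, 1, 2, 1, 0, 0], [2, 2, 2, 0, 0, 2, 0, 0, 2], [2, 1, 0, 2, 1, 1, 1, 0, 0], [0, 1, 2, 2, 1, 0, 0, 0, 2], [0, 0, 0, 0, 0, 0, 2, 0, 0], [0, 1, 1, 2, 1, 2, 0, 2, 2], [2, 2, 2, 2, 1, 1, 0, 0, 2]]
    [[2, 1, 0, 2, 0, 2, 2, 1, 2], [2, 2, 2, 1, 2, 2, 0, 0, 1], [0, 1, 2, 0, 2, 2, 1, 2, 0], [2, 0, 1, 1, 1, 1, 2, 1, 1], [2, 1, 1, 2, 2, 1, 2, 2, 1], [0, 0, 2, 0, 0, 0, 2, 2, 1], [0, 2, 2, 1, 2, 0, 1, 1, 0], [0, 1, 1, 1, 1, 1, 1, 1, 0], [2, 1, 0, 0, 2, 0, 1, 1, 2]]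
    [670, 16132, 8507, 15242] (by decide +kernel)

theorem a57 : Ok 156764159 113336795588871509901312 :=
  ok_of [[0, 1, 2, 1, 2, 0, 1, 2, 2], [1, 2, 2, 2, 0, 1, 2, 2, 2], [1, 0, 1, 1, 1, 0, 0, 0, 1], [2, 0, 1, 0, 0, 2, 1, 1, 1], [0, 0, 0, 2, 0, 2, 1, 1, 2], [2, 1, 1, 1, 1, 1, 2, 0, 2], [2, 2, 1, 0, 0, 1, 0, 0, 2], [1, 1, 2, 2, 1, 1, 0, 0, 0], [2, 1, 1, 2, 0, 0, 1, 2, 2]]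
    [[1, 0, 0, 1, 1, 2, 2, 1, 2], [0, 1, 1, 1, 2, 0, 2, 0, 1], [1, 2, 2, 0, 2, 1, 0, 1, 2], [1, 2, 1, 0, 1, 2, 0, 2, 2], [0, 0, 0, 2, 0, 1, 0, 1, 0], [2, 2, 1, 0, 0, 2, 2, 1, 0], [0, 1, 1, 0, 1, 1, 0, 1, 1], [0, 0, 2, 2, 0, 0, 2, 1, 0], [2, 1, 1, 2, 2, 2, 2, 2, 2]]
    [15925, 11190, 189, 2070, 14189, 8184] (by decide +kernel)

theorem a58 : Ok 5183 340010403867089024385078 :=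
  ok_of [[1, 0, 0, 0, 2, 0, 0, 1, 0], [0, 2, 0, 2, 1, 1, 0, 2, 1], [2, 2, 2, 0, 0, 2, 0, 2, 2], [1, 1, 2, 1, 1, 1, 0, 1, 1], [2, 1, 1, 1, 1, 1, 0, 1, 1], [2, 1, 1, 0, 1, 2, 1, 0, 1], [1, 2, 1, 2, 0, 0, 1, 2, 0], [1, 2, 2, 2, 2, 2, 0, 0, 2], [2, 1, 1, 1, 0, 1, 0, 1, 2]]
    [[0, 1, 0, 2, 2, 1, 2, 2, 0], [2, 1, 0, 1, 2, 0, 1, 2, 2], [0, 1, 2, 0, 0, 2, 1, 1, 2], [0, 1, 1, 0, 0, 1, 0, 1, 0], [0, 2, 1, 0, 0, 2, 0, 0, 0], [2, 1, 2, 2, 2, 2, 0, 0, 1], [0, 1, 1, 2, 2, 0, 2, 2, 0], [1, 0, 0, 1, 0, 2, 1, 1, 2], [0, 1, 1, 1, 1, 0, 1, 2, 1]]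
    [120, 8981, 17136, 13017] (by decide +kernel)

theorem a59 : Ok 5183 340010386767310242447414 :=
  ok_of [[1, 2, 2, 1, 0, 1, 1, 0, 2], [0, 1, 2, 1, 2, 2, 1, 1, 1], [0, 0, 1, 1, 2, 0, 0, 0, 2], [1, 1, 0, 0, 1, 2, 0, 2, 0], [2, 1, 2, 0, 2, 2, 0, 0, 0], [1, 2, 1, 1, 1, 2, 1, 1, 0], [1, 0, 1, 0, 0, 1, 2, 0, 0], [2, 2, 1, 0, 2, 1, 0, 0, 0], [1, 2, 2, 2, 2, 1, 2, 0, 0]]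
    [[2, 2, 0, 2, 2, 2, 2, 2, 0], [1, 1, 2, 0, 1, 2, 2, 2, 1], [2, 2, 2, 2, 0, 2, 2, 2, 0], [1, 0, 1, 2, 1, 0, 1, 2, 2], [1, 0, 0, 1, 0, 1, 0, 1, 0], [2, 0, 2, 1, 2, 1, 0, 2, 2], [2, 1, 1, 2, 1, 2, 0, 2, 0], [2, 1, 2, 1, 2, 1, 1, 0, 0], [1, 0, 2, 1, 1, 1, 0, 1, 1]]
    [6556, 14273, 18970] (by decide +kernel)

theorem a60 : Ok 31103 340010386767658134208566 :=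
  ok_of [[1, 2, 0, 2, 0, 2, 1, 1, 0], [0, 0, 0, 0, 0, 0, 2, 2, 2], [2, 2, 1, 0, 0, 2, 1, 0, 2], [2, 1, 1, 1, 2, 2, 0, 1, 2], [2, 1, 2, 2, 2, 0, 1, 1, 1], [1, 2, 2, 0, 1, 2, 0, 2, 1], [2, 0, 2, 0, 1, 0, 1, 1, 1], [2, 0, 2, 1, 1, 2, 2, 0, 1], [1, 2, 0, 0, 0, 2, 1, 1, 1]]
    [[2, 0, 2, 1, 1, 2, 2, 0, 1], [2, 0, 1, 1, 1, 0, 0, 0, 2], [1, 0, 1, 1, 0, 2, 1, 0, 1], [0, 2, 0, 2, 1, 1, 2, 0, 1], [1, 0, 2, 2, 0, 1, 2, 0, 2], [0, 2, 1, 0, 0, 2, 2, 2, 1], [0, 0, 0, 1, 1, 0, 2, 2, 1], [1, 0, 2, 1, 2, 0, 2, 2, 0], [1, 0, 2, 2, 0, 2, 2, 2, 0]]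
    [3846, 15896, 10270] (by decide +kernel)

end Cfsg.Agent.H651.O9
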