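import Cfsg.Agent.H651.O9.Rep

/-!
# Classes of the orthogonal group in dimension 9 over the field with three elements, part 3 (helper651)
-/

set_option autoImplicit false
set_option exponentiation.threshold 30000
set_option maxRecDepth 100000

namespace Cfsg.Agent.H651.O9

theorem a61 : Ok 373247 340010386766614478389626 :=
  ok_of [[2, 1, 0, 2, 0, 0, 1, 2, 1], [0, 1, 0, 1, 0, 0, 0, 2, 0], [1, 2, 2, 0, 1, 1, 0, 0, 0], [1, 2, 0, 2, 1, 1, 1, 1, 1], [1, 1, 0, 1, 2, 2, 1, 1, 0], [1, 1, 0, 1, 2, 2, 1, 2, 2], [1, 1, 2, 0, 2, 1, 0, 2, 0], [2, 0, 2, 0, 1, 1, 1, 0, 1], [2, 0, 2, 0, 2, 0, 1, 0, 1]]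
    [[1, 2, 2, 1, 0, 1, 0, 0, 1], [0, 1, 0, 0, 0, 0, 0, 0, 0], [0, 2, 1, 1, 1, 2, 0, 1, 0], [0, 2, 2, 0, 1, 2, 1, 2, 1], [0, 0, 0, 2, 0, 0, 1, 1, 2], [0, 1, 2, 0, 2, 2, 1, 0, 1], [0, 2, 1, 2, 0, 1, 2, 1, 2], [0, 2, 1, 2, 0, 2, 1, 2, 2], [0, 1, 0, 2, 2, 0, 0, 2, 2]]
    [18009, 17109, 13669, 4398, 9491, 3916] (by decide +kernel)

theorem a62 : Ok 373247 340010386768179995738490 :=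
  ok_of [[1, 0, 2, 2, 0, 0, 0, 2, 1], [2, 0, 1, 0, 1, 2, 1, 1, 0], [1, 2, 0, 2, 1, 2, 2, 0, 2], [1, 1, 0, 2, 1, 0, 2, 1, 0], [2, 2, 0, 1, 0, 0, 0, 1, 2], [0, 1, 0, 2, 1, 2, 2, 2, 0], [1, 1, 1, 2, 0, 1, 1, 0, 0], [1, 0, 2, 2, 2, 0, 2, 1, 0], [1, 1, 1, 2, 2, 0, 0, 1, 2]]
    [[2, 2, 1, 1, 1, 2, 2, 0, 1], [0, 1, 1, 0, 1, 2, 2, 1, 1], [0, 2, 2, 1, 2, 1, 0, 2, 2], [0, 2, 1, 2, 1, 2, 2, 0, 1], [2, 0, 0, 1, 2, 0, 2, 0, 0], [0, 1, 2, 0, 2, 1, 1, 2, 2], [0, 2, 1, 2, 0, 1, 2, 1, 2], [0, 2, 1, 1, 1, 1, 2, 1, 1], [0, 1, 2, 1, 2, 2, 1, 2, 0]]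
    [672, 11157, 10089, 8638, 19384] (by decide +kernel)

theorem a63 : Ok 2239487 340010386766614481929542 :=
  ok_of [[2, 1, 2, 1, 0, 1, 0, 1, 1], [2, 2, 2, 1, 0, 1, 0, 0, 0], [1, 1, 0, 1, 0, 2, 0, 2, 1], [0, 0, 1, 2, 1, 1, 1, 1, 2], [0, 0, 0, 0, 0, 1, 0, 2, 0], [2, 2, 1, 1, 1, 2, 0, 2, 2], [0, 1, 2, 2, 1, 1, 1, 2, 2], [1, 1, 0, 2, 1, 2, 1, 0, 0], [2, 0, 2, 2, 2, 2, 2, 0, 0]]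
    [[2, 0, 1, 0, 2, 2, 1, 0, 1], [1, 2, 2, 1, 2, 2, 2, 1, 2], [1, 1, 0, 1, 0, 1, 0, 0, 1], [2, 2, 0, 1, 2, 0, 0, 2, 1], [1, 0, 0, 2, 2, 0, 2, 0, 0], [2, 0, 0, 0, 0, 0, 2, 2, 1], [2, 1, 2, 0, 0, 1, 2, 1, 1], [0, 1, 2, 0, 0, 2, 2, 0, 0], [0, 0, 0, 2, 1, 0, 2, 0, 2]]
    [6022, 16571, 12021, 1189] (by decide +kernel)

theorem a64 : Ok 1254113279 340010386766614673032518 :=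
  ok_of [[2, 1, 0, 2, 1, 1, 1, 0, 0], [2, 2, 2, 2, 2, 2, 2, 2, 2], [2, 2, 0, 1, 1, 2, 1, 0, 0], [2, 0, 0, 0, 2, 1, 2, 1, 1], [2, 1, 1, 2, 2, 1, 0, 0, 0], [2, 1, 2, 1, 0, 2, 0, 2, 2], [2, 0, 1, 0, 2, 0, 1, 0, 0], [2, 1, 2, 1, 0, 0, 0, 1, 2], [2, 0, 1, 0, 2, 0, 2, 0, 2]]
    [[2, 1, 2, 0, 2, 0, 1, 2, 2], [2, 2, 2, 0, 0, 0, 0, 2, 1], [2, 1, 1, 2, 1, 0, 1, 2, 0], [1, 0, 1, 1, 1, 1, 2, 1, 1], [2, 2, 0, 2, 1, 0, 2, 0, 2], [2, 2, 2, 1, 2, 2, 0, 2, 2], [0, 1, 2, 0, 1, 0, 1, 1, 2], [2, 1, 1, 1, 0, 1, 2, 0, 0], [2, 1, 1, 1, 0, 0, 1, 0, 2]]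
    [18848, 5838, 10994, 5335, 1508, 7079] (by decide +kernel)

theorem a65 : Ok 647 38339257414586206454354 :=
  ok_of [[1, 0, 2, 2, 1, 0, 0, 0, 1], [1, 2, 0, 2, 0, 1, 2, 2, 0], [0, 1, 0, 2, 0, 0, 2, 2, 1], [0, 0, 2, 0, 0, 1, 2, 2, 1], [0, 2, 2, 0, 1, 0, 0, 1, 0], [0, 2, 2, 2, 0, 0, 0, 0, 2], [0, 1, 0, 1, 1, 1, 0, 2, 2], [0, 0, 2, 0, 1, 1, 2, 0, 1], [2, 1, 2, 1, 1, 1, 2, 2, 1]]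
    [[1, 1, 1, 2, 1, 2, 1, 2, 1], [1, 2, 2, 1, 0, 2, 0, 1, 2], [2, 2, 0, 0, 0, 2, 2, 0, 2], [0, 0, 1, 1, 1, 0, 0, 2, 2], [1, 2, 1, 0, 2, 2, 0, 1, 0], [0, 1, 1, 2, 2, 2, 2, 0, 0], [2, 0, 0, 1, 0, 2, 0, 1, 0], [1, 0, 0, 2, 2, 2, 0, 2, 1], [0, 1, 0, 1, 2, 0, 0, 2, 1]]
    [9387, 3579, 16409] (by decide +kernel)

theorem a66 : Ok 647 37778943263737395937874 :=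
  ok_of [[1, 2, 0, 0, 0, 1, 1, 1, 0], [1, 0, 2, 1, 0, 0, 1, 1, 0], [0, 1, 2, 1, 1, 2, 1, 0, 1], [0, 2, 1, 0, 1, 2, 2, 1, 1], [0, 1, 1, 1, 0, 2, 2, 0, 1], [2, 0, 1, 0, 0, 1, 0, 2, 0], [0, 2, 2, 0, 2, 2, 0, 2, 2], [2, 1, 2, 1, 0, 0, 0, 1, 2], [1, 2, 1, 0, 2, 0, 0, 0, 0]]
    [[1, 0, 1, 1, 2, 2, 1, 2, 1], [0, 0, 1, 0, 1, 2, 1, 1, 0], [2, 2, 0, 0, 2, 0, 0, 2, 1], [2, 1, 2, 2, 1, 2, 2, 1, 2], [2, 2, 0, 0, 1, 1, 2, 1, 1], [2, 2, 0, 1, 1, 0, 0, 0, 1], [1, 1, 0, 0, 2, 0, 0, 2, 2], [1, 1, 1, 0, 2, 1, 0, 1, 0], [0, 1, 1, 0, 0, 2, 1, 0, 1]]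
    [11166, 18125, 3424] (by decide +kernel)

theorem a67 : Ok 5831 37778948963779620701078 :=
  ok_of [[2, 2, 1, 2, 1, 0, 0, 0, 0], [0, 1, 0, 2, 1, 0, 2, 2, 1], [2, 2, 0, 0, 0, 1, 1, 2, 0], [2, 1, 0, 0, 1, 0, 1, 1, 0], [2, 2, 2, 0, 2, 0, 2, 1, 0], [1, 2, 0, 1, 1, 2, 0, 2, 2], [0, 1, 2, 0, 2, 0, 1, 0, 0], [2, 2, 2, 2, 2, 1, 0, 2, 1], [0, 2, 2, 1, 2, 0, 1, 1, 1]]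
    [[0, 0, 2, 2, 1, 1, 2, 2, 0], [1, 2, 2, 2, 1, 0, 0, 2, 0], [0, 1, 1, 1, 2, 1, 0, 1, 0], [1, 2, 0, 2, 2, 2, 1, 1, 1], [2, 2, 2, 2, 1, 1, 0, 1, 0], [1, 0, 1, 2, 0, 0, 2, 1, 2], [1, 2, 0, 0, 1, 2, 0, 0, 2], [2, 1, 2, 2, 2, 2, 0, 0, 1], [2, 1, 0, 2, 2, 0, 0, 0, 0]]
    [13934, 12514] (by decide +kernel)

theorem a68 : Ok 5831 37778931863131108475798 :=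
  ok_of [[1, 0, 2, 2, 0, 0, 1, 0, 2], [2, 2, 0, 1, 2, 2, 1, 2, 2], [1, 1, 0, 1, 1, 2, 1, 0, 0], [0, 0, 1, 2, 2, 2, 0, 0, 0], [0, 1, 2, 0, 2, 2, 1, 0, 2], [2, 2, 2, 0, 1, 0, 0, 1, 1], [1, 1, 0, 0, 0, 0, 0, 1, 2], [2, 1, 1, 0, 2, 0, 2, 1, 1], [2, 0, 1, 1, 1, 2, 1, 2, 0]]
    [[0, 2, 0, 2, 1, 0, 2, 0, 0], [1, 1, 2, 1, 0, 0, 2, 2, 2], [1, 0, 0, 0, 1, 1, 0, 0, 1], [1, 0, 0, 0, 1, 2, 2, 1, 1], [2, 1, 2, 2, 0, 0, 2, 2, 2], [0, 2, 2, 0, 1, 0, 0, 1, 0], [0, 0, 0, 2, 0, 1, 1, 1, 2], [2, 2, 1, 2, 0, 2, 2, 2, 2], [2, 2, 1, 0, 2, 2, 0, 2, 0]]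
    [19358, 4685] (by decide +kernel)

theorem a69 : Ok 46655 37778948964127515411026 :=
  ok_of [[0, 1, 1, 1, 0, 2, 2, 1, 0], [2, 2, 1, 1, 1, 2, 2, 1, 0], [1, 0, 0, 0, 0, 2, 0, 1, 0], [1, 1, 2, 0, 2, 0, 2, 0, 1], [2, 2, 1, 0, 1, 0, 2, 1, 0], [0, 2, 0, 0, 1, 2, 2, 1, 1], [0, 1, 0, 0, 0, 1, 2, 2, 2], [0, 0, 1, 0, 1, 0, 1, 1, 1], [2, 0, 1, 2, 1, 1, 1, 2, 0]]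
    [[1, 2, 2, 2, 0, 0, 0, 0, 0], [1, 1, 1, 1, 1, 2, 2, 0, 2], [0, 1, 1, 0, 0, 1, 2, 0, 0], [1, 1, 0, 0, 2, 0, 0, 2, 1], [0, 0, 2, 1, 2, 1, 1, 0, 2], [0, 0, 2, 1, 2, 2, 1, 0, 0], [2, 1, 0, 2, 0, 2, 1, 1, 0], [0, 1, 1, 0, 0, 1, 0, 0, 0], [2, 2, 0, 0, 1, 2, 1, 0, 2]]
    [14223, 3543, 1592, 3653] (by decide +kernel)

theorem a70 : Ok 46655 37778931862957164069458 :=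
  ok_of [[2, 1, 0, 0, 2, 2, 0, 2, 0], [1, 0, 0, 2, 2, 2, 2, 0, 2], [1, 2, 1, 1, 1, 0, 1, 0, 0], [1, 2, 1, 0, 2, 2, 1, 0, 0], [1, 1, 1, 1, 2, 0, 1, 1, 0], [0, 0, 2, 2, 2, 1, 0, 1, 0], [2, 0, 1, 2, 0, 1, 1, 1, 0], [2, 2, 1, 1, 1, 2, 0, 2, 2], [2, 2, 2, 1, 1, 0, 2, 0, 2]]
    [[1, 1, 0, 1, 1, 1, 1, 2, 2], [2, 1, 0, 2, 1, 1, 1, 1, 1], [0, 0, 0, 1, 1, 0, 0, 2, 0], [1, 2, 2, 2, 1, 1, 2, 0, 2], [0, 1, 1, 2, 0, 1, 2, 2, 0], [0, 2, 1, 1, 1, 2, 0, 0, 0], [1, 2, 1, 1, 1, 0, 1, 1, 2], [1, 2, 2, 0, 1, 0, 2, 1, 2], [0, 1, 0, 0, 0, 0, 0, 0, 1]]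
    [137, 674, 2499, 3989] (by decide +kernel)

theorem a71 : Ok 11663 37778931863652947003234 :=
  ok_of [[1, 2, 1, 0, 2, 2, 2, 0, 0], [2, 1, 1, 2, 2, 0, 0, 1, 1], [1, 0, 0, 2, 2, 1, 1, 1, 0], [2, 2, 0, 0, 0, 1, 1, 2, 0], [1, 0, 2, 1, 2, 0, 2, 1, 1], [2, 2, 1, 0, 1, 2, 0, 0, 0], [1, 2, 1, 0, 1, 1, 0, 2, 0], [1, 1, 1, 1, 1, 2, 0, 1, 2], [1, 1, 2, 0, 1, 0, 1, 2, 1]]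
    [[2, 1, 2, 1, 2, 0, 0, 2, 1], [0, 2, 0, 2, 1, 2, 2, 2, 0], [2, 2, 1, 0, 1, 0, 2, 0, 1], [0, 1, 2, 0, 0, 0, 2, 2, 1], [2, 0, 2, 2, 1, 0, 0, 1, 1], [1, 1, 2, 0, 1, 0, 0, 2, 1], [2, 1, 0, 2, 1, 2, 2, 0, 2], [1, 2, 1, 2, 0, 0, 0, 1, 2], [1, 0, 0, 0, 0, 0, 2, 0, 1]]
    [12113, 13011, 19601] (by decide +kernel)

theorem a72 : Ok 839807 37778931864000840532562 :=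
  ok_of [[1, 1, 2, 1, 1, 1, 0, 0, 1], [1, 1, 2, 2, 2, 1, 1, 0, 2], [1, 1, 0, 2, 2, 1, 0, 2, 0], [2, 1, 2, 1, 0, 0, 0, 2, 2], [0, 0, 0, 2, 2, 2, 0, 0, 1], [2, 0, 0, 1, 2, 0, 1, 0, 0], [0, 2, 0, 0, 1, 1, 2, 0, 2], [1, 2, 0, 0, 1, 2, 2, 1, 0], [0, 0, 2, 0, 1, 0, 2, 1, 0]]
    [[1, 0, 1, 1, 0, 2, 0, 0, 1], [1, 2, 2, 2, 0, 0, 2, 2, 1], [0, 2, 2, 0, 0, 1, 1, 1, 2], [0, 1, 2, 2, 0, 2, 1, 0, 1], [1, 2, 1, 0, 1, 2, 1, 0, 1], [2, 1, 1, 2, 2, 2, 1, 2, 1], [0, 0, 0, 1, 2, 1, 1, 2, 1], [1, 1, 2, 2, 1, 1, 2, 2, 2], [0, 1, 1, 1, 2, 2, 2, 2, 2]]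
    [14137, 7786, 8976, 6611] (by decide +kernel)

theorem a73 : Ok 209951 37778931863479003777514 :=
  ok_of [[2, 2, 0, 2, 0, 2, 2, 0, 2], [2, 2, 0, 1, 0, 0, 2, 1, 0], [0, 2, 1, 2, 0, 1, 2, 1, 2], [0, 2, 2, 2, 1, 1, 1, 1, 0], [1, 2, 1, 2, 2, 2, 1, 2, 1], [0, 1, 1, 1, 2, 0, 0, 0, 2], [0, 0, 2, 2, 0, 0, 1, 0, 1], [1, 0, 0, 2, 2, 2, 0, 2, 1], [1, 1, 0, 0, 1, 2, 0, 1, 2]]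
    [[1, 2, 1, 0, 1, 2, 0, 1, 1], [2, 0, 2, 0, 1, 1, 2, 0, 1], [2, 1, 1, 0, 2, 1, 1, 0, 1], [0, 2, 2, 1, 1, 1, 0, 2, 0], [2, 2, 2, 2, 2, 2, 2, 2, 2], [1, 0, 1, 2, 0, 0, 1, 2, 1], [0, 1, 2, 1, 1, 0, 2, 2, 0], [2, 2, 2, 0, 0, 1, 1, 0, 1], [2, 2, 1, 1, 0, 0, 1, 1, 1]]
    [16390, 13874, 4318, 10905] (by decide +kernel)

theorem a74 : Ok 3779135 37778931862957163480606 :=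
  ok_of [[1, 2, 0, 2, 0, 0, 1, 1, 0], [0, 2, 1, 2, 1, 2, 0, 0, 2], [1, 0, 0, 0, 2, 2, 0, 1, 2], [0, 2, 2, 2, 0, 2, 0, 0, 2], [2, 2, 2, 2, 1, 2, 0, 2, 2], [1, 0, 0, 0, 1, 0, 2, 2, 1], [2, 2, 0, 1, 0, 1, 2, 1, 0], [2, 0, 2, 2, 1, 2, 2, 2, 2], [0, 1, 0, 0, 2, 0, 2, 0, 1]]
    [[2, 2, 2, 1, 0, 2, 2, 2, 2], [1, 0, 0, 0, 1, 1, 0, 2, 1], [1, 2, 1, 0, 1, 2, 2, 1, 0], [2, 2, 2, 1, 1, 2, 1, 2, 2], [0, 0, 1, 2, 0, 1, 1, 1, 0], [2, 0, 0, 2, 1, 0, 1, 0, 0], [0, 0, 1, 1, 1, 2, 0, 2, 0], [2, 2, 2, 0, 0, 2, 0, 2, 2], [1, 2, 2, 1, 2, 2, 0, 2, 0]]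
    [4520, 15434, 3287, 8036] (by decide +kernel)

theorem a75 : Ok 3779135 37778931864522680829470 :=
  ok_of [[0, 2, 2, 2, 0, 2, 1, 2, 0], [2, 1, 1, 1, 0, 1, 1, 0, 0], [0, 1, 2, 2, 0, 1, 2, 0, 1], [1, 0, 1, 1, 0, 1, 0, 0, 2], [0, 2, 0, 0, 0, 1, 2, 2, 2], [1, 2, 0, 1, 1, 1, 2, 2, 1], [0, 1, 0, 0, 1, 1, 2, 0, 2], [0, 0, 1, 2, 1, 0, 1, 2, 1], [0, 0, 1, 2, 2, 1, 2, 1, 2]]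
    [[1, 0, 0, 0, 0, 1, 0, 0, 0], [1, 1, 2, 1, 0, 1, 0, 0, 0], [1, 1, 1, 2, 2, 0, 2, 2, 1], [0, 2, 0, 0, 1, 2, 1, 2, 1], [1, 0, 0, 1, 0, 0, 2, 0, 0], [0, 2, 2, 2, 1, 0, 1, 0, 2], [0, 2, 2, 2, 1, 2, 1, 1, 2], [2, 1, 2, 1, 2, 0, 0, 0, 1], [2, 2, 2, 1, 1, 2, 1, 1, 1]]
    [5673, 3489, 5335, 208] (by decide +kernel)

theorem a76 : Ok 302330879 37778931862957184714270 :=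
  ok_of [[0, 0, 2, 0, 1, 1, 2, 0, 1], [2, 0, 1, 2, 0, 2, 2, 2, 0], [2, 2, 2, 2, 0, 1, 2, 2, 0], [1, 0, 0, 1, 2, 2, 0, 2, 2], [2, 2, 2, 0, 1, 0, 1, 0, 2], [0, 2, 1, 0, 0, 0, 0, 0, 0], [2, 2, 0, 2, 0, 1, 1, 2, 0], [2, 0, 2, 2, 0, 0, 2, 1, 0], [0, 2, 1, 0, 0, 1, 0, 0, 2]]
    [[2, 1, 1, 2, 2, 1, 1, 1, 2], [0, 2, 0, 2, 0, 0, 1, 0, 0], [1, 0, 1, 0, 0, 0, 2, 2, 1], [0, 2, 1, 1, 0, 0, 0, 1, 2], [2, 0, 1, 2, 2, 1, 1, 0, 2], [0, 1, 2, 1, 1, 1, 2, 2, 2], [2, 1, 2, 0, 1, 1, 1, 1, 1], [0, 1, 2, 1, 2, 2, 0, 2, 0], [0, 0, 1, 0, 1, 0, 0, 1, 1]]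
    [9599, 11182, 4696, 8033, 111, 15215] (by decide +kernel)

theorem a77 : Ok 302330879 37778931864522702063134 :=
  ok_of [[2, 0, 1, 1, 1, 1, 2, 1, 2], [2, 2, 1, 0, 0, 0, 0, 0, 1], [2, 2, 1, 1, 1, 1, 0, 2, 0], [0, 2, 1, 0, 1, 1, 0, 2, 2], [2, 2, 2, 1, 0, 1, 0, 2, 0], [2, 2, 2, 1, 1, 0, 0, 2, 0], [2, 2, 1, 0, 0, 0, 0, 1, 1], [1, 1, 0, 1, 1, 1, 1, 2, 1], [2, 1, 0, 2, 2, 2, 0, 1, 1]]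
    [[1, 2, 0, 1, 2, 0, 1, 1, 0], [2, 2, 0, 0, 1, 0, 1, 0, 2], [2, 0, 1, 2, 2, 0, 2, 2, 0], [0, 1, 2, 1, 2, 0, 1, 2, 1], [1, 1, 1, 0, 0, 1, 2, 1, 0], [2, 2, 2, 0, 0, 2, 0, 0, 1], [0, 1, 0, 2, 0, 1, 0, 0, 0], [1, 0, 1, 2, 1, 2, 2, 0, 1], [1, 0, 1, 0, 0, 1, 0, 1, 1]]
    [3533, 13580, 11673, 496, 19492, 1623, 13222] (by decide +kernel)

theorem a78 : Ok 75582719 37778931862957167022466 :=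
  ok_of [[1, 2, 2, 2, 0, 0, 1, 1, 1], [2, 1, 0, 2, 2, 2, 0, 1, 0], [1, 1, 2, 0, 0, 1, 0, 1, 1], [0, 1, 0, 2, 1, 1, 0, 0, 1], [2, 1, 2, 2, 1, 2, 1, 1, 0], [2, 1, 2, 0, 2, 1, 1, 2, 0], [0, 0, 0, 2, 2, 0, 2, 2, 1], [0, 2, 0, 0, 2, 2, 0, 2, 2], [0, 2, 2, 2, 0, 0, 1, 2, 2]]
    [[0, 2, 1, 2, 1, 0, 1, 2, 2], [2, 2, 0, 0, 2, 1, 1, 1, 1], [2, 2, 0, 0, 0, 1, 0, 0, 2], [2, 2, 0, 0, 0, 1, 1, 0, 1], [2, 2, 0, 2, 0, 0, 0, 2, 2], [1, 1, 0, 1, 1, 1, 1, 2, 2], [1, 1, 0, 1, 1, 2, 2, 2, 2], [0, 0, 1, 1, 2, 0, 0, 2, 2], [0, 1, 0, 0, 2, 1, 1, 1, 1]]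
    [1392, 13321, 1930, 13238] (by decide +kernel)

theorem a79 : Ok 1088391167 37778931862957188256130 :=
  ok_of [[2, 2, 2, 0, 2, 2, 1, 2, 1], [2, 1, 0, 2, 1, 2, 0, 1, 2], [1, 0, 1, 0, 0, 1, 1, 1, 2], [1, 0, 2, 0, 1, 0, 1, 1, 2], [1, 1, 0, 2, 2, 0, 0, 2, 1], [1, 2, 1, 0, 2, 2, 2, 0, 0], [2, 1, 2, 2, 0, 1, 0, 0, 0], [2, 0, 1, 2, 2, 0, 2, 1, 1], [1, 2, 1, 1, 0, 2, 2, 0, 2]]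
    [[1, 2, 2, 1, 2, 0, 0, 2, 2], [1, 2, 0, 1, 2, 2, 0, 1, 0], [1, 0, 1, 0, 0, 0, 0, 0, 0], [1, 2, 0, 2, 2, 0, 1, 2, 1], [0, 1, 1, 2, 0, 0, 1, 2, 2], [1, 0, 0, 0, 1, 1, 0, 1, 1], [2, 1, 2, 2, 0, 2, 1, 1, 2], [1, 0, 0, 0, 1, 2, 1, 2, 2], [2, 1, 0, 2, 2, 2, 2, 0, 2]]
    [4794, 9830, 10312, 17092, 8635, 10017] (by decide +kernel)

theorem a80 : Ok 79234877030399 37778931862957379359106 :=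
  ok_of [[1, 2, 2, 0, 0, 2, 1, 1, 0], [2, 1, 2, 0, 0, 2, 1, 1, 0], [0, 0, 2, 0, 0, 0, 0, 0, 0], [2, 2, 2, 2, 0, 2, 1, 1, 0], [2, 2, 2, 0, 2, 2, 1, 1, 0], [0, 0, 0, 0, 0, 2, 0, 0, 0], [1, 1, 1, 0, 0, 1, 1, 2, 0], [1, 1, 1, 0, 0, 1, 2, 1, 0], [0, 0, 0, 0, 0, 0, 0, 0, 2]]
    [[2, 0, 2, 1, 1, 1, 0, 0, 0], [1, 1, 1, 2, 1, 2, 2, 1, 2], [2, 2, 0, 1, 2, 1, 0, 1, 0], [1, 2, 0, 0, 2, 0, 2, 1, 2], [0, 0, 0, 1, 0, 1, 1, 0, 0], [0, 0, 0, 1, 0, 1, 1, 1, 2], [1, 2, 2, 2, 1, 1, 1, 0, 1], [2, 1, 1, 2, 1, 1, 2, 1, 2], [0, 0, 1, 2, 0, 1, 0, 2, 0]]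
    [18325, 17093, 5401, 11864, 15781, 16976, 8927, 11914] (by decide +kernel)

end Cfsg.Agent.H651.O9
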