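import Cfsg.Agent.H651.O9.Rep

/-!
# Classes of the orthogonal group in dimension 9 over the field with three elements, part 4 (helper651)
-/

set_option autoImplicit false
set_option exponentiation.threshold 30000
set_option maxRecDepth 100000

namespace Cfsg.Agent.H651.O9

theorem a81 : Ok 287 113336808889685122941072 :=
  ok_of [[2, 0, 0, 0, 0, 0, 0, 0, 0], [2, 2, 0, 0, 1, 2, 1, 0, 0], [0, 0, 0, 2, 2, 0, 0, 2, 0], [0, 0, 2, 2, 0, 0, 0, 0, 2], [1, 0, 2, 2, 2, 0, 1, 0, 2], [1, 0, 0, 0, 0, 0, 0, 1, 0], [2, 0, 1, 2, 2, 2, 0, 2, 0], [1, 0, 0, 0, 2, 0, 0, 0, 0], [1, 0, 0, 2, 2, 0, 0, 0, 1]]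
    [[0, 1, 1, 1, 2, 0, 2, 0, 2], [0, 2, 2, 2, 1, 2, 2, 2, 2], [0, 2, 1, 1, 2, 1, 2, 2, 2], [1, 2, 1, 0, 2, 1, 2, 0, 1], [1, 0, 1, 2, 1, 1, 2, 2, 1], [1, 0, 2, 2, 1, 2, 2, 0, 0], [0, 1, 1, 2, 1, 1, 1, 1, 1], [2, 0, 1, 0, 2, 0, 1, 0, 0], [1, 0, 0, 0, 0, 0, 1, 0, 1]]
    [18337, 9500] (by decide +kernel)

theorem a82 : Ok 3455 566683977945826325692506 :=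
  ok_of [[2, 0, 1, 0, 0, 1, 0, 1, 0], [2, 1, 0, 1, 1, 1, 0, 0, 0], [0, 2, 2, 2, 2, 1, 1, 1, 1], [0, 1, 1, 2, 2, 1, 0, 2, 1], [0, 1, 2, 2, 1, 1, 1, 2, 1], [0, 0, 2, 1, 0, 1, 2, 1, 1], [1, 2, 0, 0, 0, 1, 2, 1, 2], [0, 2, 1, 1, 0, 1, 1, 0, 2], [1, 0, 0, 0, 1, 1, 2, 1, 1]]
    [[2, 1, 1, 0, 2, 1, 2, 0, 2], [1, 1, 2, 1, 1, 1, 0, 1, 2], [2, 0, 2, 0, 2, 2, 0, 0, 2], [0, 1, 0, 1, 0, 0, 0, 0, 0], [1, 0, 2, 1, 2, 1, 0, 1, 2], [0, 2, 0, 0, 2, 1, 2, 1, 1], [2, 1, 1, 2, 0, 2, 0, 0, 1], [1, 0, 2, 0, 0, 1, 1, 1, 2], [1, 2, 2, 0, 0, 1, 0, 1, 0]]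
    [19471, 5522, 4192, 9176] (by decide +kernel)

theorem a83 : Ok 6911 113336795589296713433178 :=
  ok_of [[1, 0, 1, 2, 0, 0, 2, 1, 1], [1, 0, 1, 2, 2, 0, 1, 2, 1], [1, 0, 2, 2, 0, 2, 2, 0, 1], [1, 1, 0, 1, 0, 2, 0, 1, 2], [2, 0, 1, 0, 1, 0, 2, 2, 1], [0, 1, 2, 0, 0, 1, 0, 2, 0], [1, 0, 0, 1, 2, 1, 2, 1, 1], [1, 1, 1, 1, 2, 2, 2, 0, 0], [0, 0, 0, 2, 2, 0, 0, 0, 1]]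
    [[0, 1, 2, 1, 2, 1, 1, 0, 1], [1, 2, 0, 2, 2, 1, 0, 2, 2], [1, 2, 2, 1, 2, 1, 2, 2, 1], [0, 2, 0, 2, 0, 1, 1, 0, 0], [0, 0, 0, 2, 1, 0, 2, 2, 2], [0, 2, 2, 1, 0, 1, 1, 2, 1], [0, 1, 1, 0, 1, 1, 1, 0, 2], [1, 0, 1, 1, 0, 2, 0, 2, 2], [0, 0, 1, 0, 2, 2, 2, 2, 0]]
    [19398, 1366, 11824, 15017] (by decide +kernel)

theorem a84 : Ok 20735 340010386767387565425000 :=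
  ok_of [[2, 2, 1, 1, 1, 1, 2, 2, 2], [1, 2, 1, 1, 2, 1, 2, 1, 1], [2, 0, 0, 0, 1, 0, 0, 2, 0], [1, 1, 1, 0, 0, 1, 2, 0, 1], [0, 2, 2, 1, 1, 0, 1, 1, 0], [2, 1, 2, 0, 2, 0, 2, 2, 0], [2, 1, 2, 2, 1, 0, 2, 0, 0], [1, 0, 2, 1, 0, 2, 2, 2, 0], [0, 0, 0, 0, 2, 2, 2, 2, 0]]
    [[0, 1, 1, 0, 2, 2, 1, 0, 1], [1, 1, 1, 0, 1, 2, 2, 0, 0], [0, 2, 2, 2, 1, 1, 2, 1, 2], [1, 0, 0, 1, 2, 1, 1, 1, 0], [0, 2, 0, 2, 2, 2, 0, 1, 1], [0, 0, 2, 2, 0, 1, 2, 0, 2], [1, 0, 2, 1, 1, 2, 2, 0, 1], [1, 2, 0, 1, 2, 1, 0, 0, 1], [2, 1, 2, 1, 0, 0, 2, 1, 2]]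
    [16096, 15696, 9621] (by decide +kernel)

theorem a85 : Ok 1658879 3060093480900303399616872 :=
  ok_of [[1, 0, 0, 0, 0, 0, 0, 0, 0], [2, 1, 0, 2, 1, 2, 0, 1, 1], [2, 0, 2, 0, 1, 2, 2, 2, 0], [1, 0, 0, 1, 1, 2, 1, 1, 0], [0, 0, 2, 1, 0, 1, 2, 1, 2], [1, 0, 1, 1, 0, 0, 2, 0, 1], [0, 0, 1, 0, 0, 1, 2, 2, 1], [1, 0, 2, 1, 2, 0, 2, 1, 1], [2, 0, 2, 2, 1, 1, 2, 2, 1]]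
    [[0, 1, 2, 1, 0, 1, 1, 2, 1], [0, 1, 1, 0, 1, 0, 1, 0, 0], [0, 1, 2, 1, 1, 2, 1, 0, 2], [0, 1, 1, 1, 0, 2, 1, 0, 1], [1, 2, 2, 1, 1, 0, 0, 1, 2], [1, 1, 2, 0, 0, 1, 0, 1, 2], [0, 2, 1, 0, 2, 1, 1, 2, 2], [0, 0, 2, 0, 2, 0, 1, 0, 0], [2, 2, 1, 1, 1, 1, 0, 2, 1]]
    [16569, 16162, 4148, 5730, 19141] (by decide +kernel)

theorem a86 : Ok 863 113336795589876512784510 :=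
  ok_of [[0, 2, 0, 1, 1, 2, 2, 1, 1], [0, 2, 0, 1, 1, 0, 2, 2, 2], [0, 2, 1, 0, 0, 0, 1, 1, 2], [2, 1, 0, 0, 2, 1, 0, 1, 1], [0, 0, 2, 1, 2, 0, 1, 1, 0], [0, 2, 0, 0, 0, 1, 1, 1, 2], [0, 0, 1, 0, 0, 0, 1, 1, 2], [1, 1, 0, 1, 1, 0, 1, 0, 1], [0, 0, 0, 2, 2, 0, 0, 2, 1]]
    [[0, 2, 2, 0, 2, 1, 2, 2, 0], [1, 0, 2, 2, 0, 0, 0, 2, 1], [0, 0, 1, 0, 2, 2, 0, 0, 1], [2, 2, 1, 0, 1, 0, 0, 2, 2], [1, 2, 2, 1, 0, 1, 2, 1, 0], [0, 2, 1, 0, 1, 1, 0, 0, 2], [1, 1, 0, 2, 1, 0, 1, 0, 2], [1, 0, 2, 2, 2, 2, 1, 2, 2], [2, 1, 1, 1, 1, 2, 1, 1, 2]]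
    [14509, 15927] (by decide +kernel)

theorem a87 : Ok 863 114457435291948488327186 :=
  ok_of [[2, 1, 0, 0, 1, 2, 0, 2, 1], [2, 2, 2, 0, 2, 1, 2, 2, 1], [0, 0, 0, 0, 2, 2, 2, 0, 2], [2, 1, 0, 0, 0, 2, 2, 1, 2], [2, 2, 2, 0, 1, 0, 0, 1, 1], [1, 1, 1, 0, 2, 1, 2, 0, 0], [0, 0, 2, 0, 0, 0, 0, 0, 0], [2, 0, 2, 2, 1, 0, 1, 2, 0], [0, 1, 0, 0, 1, 0, 1, 2, 0]]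
    [[0, 0, 2, 2, 0, 0, 0, 2, 2], [0, 1, 1, 1, 1, 2, 0, 2, 0], [2, 0, 0, 2, 0, 0, 1, 0, 0], [2, 2, 0, 1, 2, 1, 2, 0, 0], [1, 1, 2, 2, 1, 1, 2, 0, 0], [0, 2, 0, 0, 1, 0, 2, 2, 1], [0, 1, 1, 2, 0, 1, 1, 2, 2], [1, 1, 2, 0, 0, 0, 0, 0, 1], [1, 0, 2, 1, 1, 0, 0, 2, 0]]
    [5459, 7348, 13510] (by decide +kernel)

theorem a88 : Ok 34559 113336795589064785199230 :=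
  ok_of [[0, 2, 2, 2, 1, 2, 0, 1, 0], [2, 1, 1, 2, 2, 0, 2, 0, 2], [0, 2, 2, 1, 0, 1, 2, 2, 0], [2, 1, 2, 2, 1, 2, 2, 2, 0], [2, 0, 2, 2, 0, 0, 0, 1, 1], [1, 2, 1, 0, 2, 0, 1, 1, 0], [2, 0, 1, 0, 2, 2, 0, 1, 1], [2, 2, 2, 2, 1, 1, 0, 2, 0], [0, 1, 2, 0, 1, 1, 2, 1, 1]]
    [[0, 2, 0, 0, 1, 0, 0, 2, 0], [2, 0, 2, 2, 0, 1, 1, 0, 2], [1, 1, 0, 2, 2, 2, 1, 1, 0], [2, 0, 2, 2, 0, 1, 2, 0, 2], [2, 0, 0, 0, 0, 1, 2, 0, 0], [2, 1, 2, 1, 2, 0, 1, 0, 1], [1, 0, 0, 0, 0, 1, 0, 0, 0], [1, 2, 0, 2, 2, 1, 0, 0, 1], [1, 0, 0, 2, 0, 0, 2, 0, 1]]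
    [2823, 9771, 2598, 14845] (by decide +kernel)

theorem a89 : Ok 6911 340010386767851432509476 :=
  ok_of [[1, 0, 1, 2, 0, 0, 2, 1, 2], [0, 2, 0, 2, 1, 2, 2, 1, 1], [0, 1, 1, 2, 1, 1, 1, 0, 0], [2, 1, 1, 2, 0, 1, 0, 0, 2], [1, 2, 2, 1, 1, 1, 2, 1, 2], [0, 1, 1, 1, 1, 0, 1, 2, 0], [0, 1, 0, 1, 1, 1, 2, 0, 1], [2, 1, 1, 0, 0, 0, 2, 2, 0], [0, 2, 0, 0, 2, 1, 1, 0, 0]]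
    [[0, 2, 0, 0, 2, 1, 1, 1, 0], [2, 1, 2, 1, 1, 1, 1, 2, 1], [0, 1, 2, 2, 2, 1, 2, 0, 0], [2, 1, 1, 2, 0, 1, 0, 0, 2], [2, 0, 0, 2, 1, 2, 1, 2, 2], [2, 2, 1, 1, 2, 1, 0, 1, 2], [0, 1, 2, 2, 0, 1, 0, 1, 2], [0, 0, 2, 2, 1, 0, 2, 0, 1], [1, 0, 0, 2, 1, 2, 1, 1, 1]]
    [15701, 17876, 7151, 10329] (by decide +kernel)

theorem a90 : Ok 6911 340010386767097660440612 :=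
  ok_of [[1, 0, 1, 0, 2, 1, 2, 2, 0], [2, 2, 0, 1, 2, 0, 1, 0, 1], [0, 2, 2, 1, 0, 0, 1, 2, 1], [2, 2, 0, 1, 2, 0, 0, 2, 2], [2, 1, 2, 1, 0, 0, 0, 2, 2], [2, 2, 2, 0, 0, 0, 2, 0, 2], [2, 2, 1, 0, 0, 2, 1, 2, 0], [0, 2, 2, 2, 0, 2, 2, 0, 2], [0, 2, 0, 1, 2, 1, 2, 2, 1]]
    [[0, 1, 0, 1, 2, 0, 1, 0, 0], [1, 1, 0, 2, 0, 0, 0, 0, 1], [0, 1, 1, 1, 2, 1, 2, 0, 0], [2, 0, 0, 1, 1, 1, 0, 2, 1], [0, 2, 2, 2, 1, 2, 0, 0, 0], [0, 1, 0, 0, 1, 2, 1, 2, 2], [2, 2, 0, 0, 0, 2, 2, 0, 2], [2, 2, 2, 0, 0, 1, 2, 0, 1], [1, 2, 0, 0, 0, 1, 2, 0, 0]]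
    [7100, 18801, 3911] (by decide +kernel)

theorem a91 : Ok 276479 340010386767387756527868 :=
  ok_of [[0, 2, 2, 2, 1, 2, 0, 0, 0], [0, 0, 0, 0, 0, 1, 0, 2, 0], [0, 1, 1, 2, 1, 1, 1, 1, 1], [0, 1, 2, 1, 1, 1, 1, 1, 1], [1, 0, 0, 0, 2, 0, 2, 2, 2], [0, 0, 2, 2, 1, 2, 1, 1, 1], [2, 0, 1, 1, 1, 2, 1, 1, 2], [0, 2, 2, 2, 1, 2, 1, 1, 1], [0, 2, 2, 2, 1, 2, 1, 2, 0]]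
    [[1, 0, 1, 2, 1, 2, 0, 0, 2], [1, 2, 0, 2, 1, 1, 0, 0, 0], [0, 2, 1, 0, 0, 2, 2, 0, 0], [1, 1, 0, 0, 0, 0, 0, 1, 1], [2, 0, 0, 1, 1, 1, 0, 1, 1], [1, 1, 2, 2, 0, 2, 1, 1, 0], [1, 1, 0, 1, 0, 0, 2, 0, 2], [1, 2, 0, 1, 2, 0, 2, 1, 1], [2, 2, 0, 2, 2, 1, 2, 1, 0]]
    [8730, 15386, 11661, 10247, 7110] (by decide +kernel)

theorem a92 : Ok 863 37778948963470384234712 :=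
  ok_of [[1, 0, 1, 2, 2, 1, 0, 1, 2], [1, 1, 2, 0, 1, 2, 1, 1, 1], [2, 2, 0, 2, 2, 1, 2, 2, 1], [1, 0, 2, 1, 2, 0, 1, 2, 2], [2, 2, 0, 2, 1, 2, 1, 1, 1], [2, 0, 1, 0, 2, 1, 2, 1, 2], [1, 1, 1, 2, 1, 1, 1, 2, 0], [0, 1, 2, 1, 2, 2, 0, 0, 0], [1, 2, 1, 1, 1, 0, 1, 0, 1]]
    [[2, 2, 0, 1, 1, 2, 1, 1, 1], [0, 1, 0, 1, 2, 0, 1, 0, 0], [1, 0, 1, 2, 1, 0, 2, 1, 1], [0, 1, 1, 1, 0, 1, 1, 0, 1], [2, 0, 1, 0, 2, 1, 1, 1, 0], [0, 0, 0, 2, 1, 0, 1, 0, 0], [2, 1, 0, 1, 2, 1, 0, 2, 2], [2, 1, 2, 0, 1, 0, 1, 2, 2], [1, 0, 1, 0, 0, 0, 2, 1, 0]]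
    [8269, 7277, 2350] (by decide +kernel)

theorem a93 : Ok 863 37778931863459676422576 :=
  ok_of [[2, 1, 1, 2, 1, 0, 0, 1, 1], [1, 1, 0, 2, 0, 0, 0, 0, 2], [0, 0, 1, 1, 0, 1, 0, 2, 2], [2, 2, 2, 2, 2, 1, 0, 2, 2], [2, 2, 1, 2, 0, 2, 0, 0, 0], [0, 1, 2, 1, 0, 2, 1, 2, 2], [1, 1, 0, 1, 2, 2, 1, 2, 2], [2, 1, 0, 2, 2, 2, 1, 0, 0], [1, 2, 2, 1, 2, 0, 1, 2, 1]]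
    [[1, 1, 0, 2, 2, 1, 1, 0, 0], [0, 2, 2, 0, 0, 0, 1, 1, 2], [1, 0, 1, 0, 2, 0, 1, 1, 1], [2, 0, 2, 1, 2, 1, 0, 2, 2], [0, 2, 0, 0, 1, 1, 0, 1, 1], [2, 2, 0, 1, 0, 2, 0, 1, 1], [2, 0, 2, 0, 0, 2, 0, 2, 0], [2, 2, 1, 1, 2, 1, 0, 2, 2], [0, 0, 2, 0, 2, 1, 1, 1, 2]]
    [8060, 15441, 17842] (by decide +kernel)

theorem a94 : Ok 2591 37778931864097475526656 :=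
  ok_of [[2, 1, 2, 0, 0, 0, 1, 1, 0], [1, 0, 2, 1, 0, 0, 2, 2, 0], [2, 2, 2, 2, 2, 1, 0, 2, 2], [1, 1, 2, 0, 1, 2, 0, 0, 0], [2, 1, 1, 0, 1, 1, 1, 1, 1], [2, 1, 2, 2, 0, 2, 2, 2, 1], [1, 0, 1, 1, 1, 1, 1, 2, 2], [1, 1, 2, 0, 2, 0, 0, 0, 1], [0, 0, 0, 0, 2, 2, 1, 2, 2]]
    [[2, 2, 1, 1, 2, 2, 2, 2, 2], [2, 2, 1, 2, 1, 0, 0, 0, 0], [1, 1, 1, 1, 0, 2, 2, 2, 0], [1, 1, 1, 1, 1, 2, 2, 0, 1], [1, 2, 1, 1, 1, 0, 0, 1, 0], [2, 2, 2, 1, 1, 2, 2, 1, 2], [1, 1, 0, 0, 1, 2, 1, 0, 0], [2, 1, 2, 1, 0, 1, 0, 0, 2], [0, 1, 1, 2, 0, 0, 2, 2, 1]]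
    [8666, 520, 18743] (by decide +kernel)

theorem a95 : Ok 62207 37778931863575663542272 :=
  ok_of [[0, 2, 2, 2, 0, 0, 2, 1, 0], [1, 1, 0, 2, 0, 2, 1, 0, 1], [2, 0, 0, 0, 0, 2, 0, 1, 0], [1, 2, 0, 2, 2, 0, 2, 2, 0], [2, 0, 0, 2, 2, 1, 2, 1, 2], [0, 1, 0, 1, 2, 2, 0, 2, 2], [2, 2, 1, 1, 2, 1, 1, 0, 2], [1, 1, 0, 0, 0, 2, 1, 0, 1], [2, 2, 0, 0, 1, 2, 0, 1, 2]]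
    [[1, 1, 2, 0, 1, 0, 0, 0, 1], [2, 0, 0, 2, 2, 0, 1, 1, 1], [1, 2, 2, 1, 1, 0, 0, 0, 1], [1, 2, 0, 2, 2, 2, 0, 1, 0], [1, 1, 2, 2, 2, 1, 2, 0, 2], [1, 1, 2, 2, 1, 1, 1, 1, 2], [1, 2, 2, 0, 1, 0, 2, 2, 0], [2, 1, 1, 0, 0, 2, 1, 2, 1], [0, 1, 0, 0, 0, 2, 1, 2, 0]]
    [13144, 12544, 18255, 1593] (by decide +kernel)

theorem a96 : Ok 62207 37778931863749604409344 :=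
  ok_of [[2, 0, 0, 0, 0, 0, 0, 0, 0], [1, 2, 0, 2, 1, 2, 1, 0, 1], [1, 0, 2, 1, 2, 1, 2, 0, 1], [2, 0, 2, 1, 0, 1, 2, 1, 2], [1, 0, 0, 0, 1, 1, 0, 2, 2], [2, 0, 2, 2, 0, 2, 2, 0, 2], [1, 0, 2, 0, 1, 1, 0, 1, 2], [0, 0, 1, 0, 1, 1, 2, 1, 0], [0, 0, 0, 1, 2, 2, 2, 1, 2]]
    [[1, 2, 1, 0, 2, 2, 2, 0, 0], [0, 2, 2, 0, 0, 0, 1, 1, 1], [2, 0, 2, 2, 1, 0, 0, 2, 2], [2, 1, 0, 0, 1, 0, 1, 1, 0], [0, 1, 0, 1, 2, 1, 1, 2, 1], [0, 2, 0, 1, 2, 0, 1, 1, 2], [0, 1, 1, 0, 2, 2, 2, 0, 1], [2, 1, 2, 2, 1, 2, 2, 1, 1], [2, 2, 2, 1, 2, 1, 1, 1, 1]]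
    [17264, 7571, 7518, 4789] (by decide +kernel)

theorem a97 : Ok 186623 37778931864967222329344 :=
  ok_of [[1, 1, 0, 2, 1, 1, 1, 2, 2], [0, 1, 1, 2, 2, 1, 0, 0, 2], [2, 1, 0, 1, 1, 1, 0, 1, 0], [2, 2, 2, 2, 0, 1, 1, 2, 1], [2, 1, 1, 2, 1, 2, 1, 1, 2], [0, 1, 0, 1, 2, 2, 0, 2, 1], [2, 0, 1, 1, 2, 1, 0, 2, 0], [0, 0, 1, 2, 0, 0, 2, 1, 1], [2, 2, 1, 2, 2, 0, 0, 0, 2]]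
    [[0, 1, 2, 1, 1, 1, 2, 0, 0], [1, 0, 1, 2, 0, 0, 2, 2, 0], [0, 2, 2, 2, 0, 2, 0, 2, 2], [2, 0, 0, 0, 2, 2, 0, 0, 1], [1, 0, 0, 1, 0, 0, 1, 0, 0], [1, 2, 2, 2, 1, 1, 2, 0, 1], [1, 2, 1, 2, 0, 0, 0, 0, 2], [0, 0, 1, 1, 1, 1, 1, 2, 2], [1, 0, 0, 0, 0, 2, 0, 0, 2]]
    [3087, 10741, 9717, 18849] (by decide +kernel)

theorem a98 : Ok 194088959 37778931864967413432320 :=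
  ok_of [[1, 2, 0, 2, 0, 2, 2, 1, 1], [1, 1, 1, 2, 0, 0, 2, 2, 2], [2, 1, 0, 0, 2, 2, 0, 0, 0], [1, 2, 0, 0, 2, 2, 1, 1, 1], [0, 1, 0, 0, 1, 1, 0, 2, 2], [0, 2, 1, 1, 2, 2, 1, 2, 2], [2, 0, 0, 2, 2, 0, 1, 0, 0], [2, 1, 1, 0, 2, 2, 0, 2, 0], [2, 0, 0, 2, 2, 0, 2, 0, 2]]
    [[0, 0, 2, 1, 1, 0, 2, 1, 2], [2, 2, 1, 2, 2, 0, 2, 2, 1], [1, 0, 2, 1, 2, 1, 2, 1, 0], [1, 2, 0, 2, 1, 2, 2, 0, 2], [0, 1, 0, 0, 0, 1, 1, 1, 1], [0, 1, 0, 0, 2, 1, 2, 1, 2], [0, 1, 1, 1, 0, 0, 0, 1, 2], [0, 0, 1, 0, 2, 2, 2, 0, 2], [2, 1, 0, 2, 2, 0, 2, 0, 0]]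
    [1894, 15651, 19560, 7414, 15071, 12139] (by decide +kernel)

theorem a99 : Ok 215 113585834234676630258042 :=
  ok_of [[2, 0, 2, 1, 1, 2, 2, 1, 0], [1, 1, 2, 0, 0, 1, 0, 1, 1], [0, 2, 2, 0, 2, 0, 2, 0, 0], [1, 0, 0, 0, 0, 0, 1, 1, 1], [1, 2, 0, 2, 0, 1, 2, 2, 0], [0, 2, 2, 1, 1, 2, 0, 0, 1], [2, 0, 1, 1, 2, 0, 2, 0, 1], [1, 1, 0, 2, 2, 2, 1, 1, 0], [2, 1, 2, 1, 1, 1, 2, 2, 1]]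
    [[0, 2, 0, 2, 1, 2, 2, 1, 1], [2, 2, 1, 1, 0, 1, 1, 1, 0], [1, 1, 1, 2, 2, 1, 2, 1, 2], [0, 2, 1, 2, 1, 1, 1, 0, 0], [1, 0, 0, 2, 0, 2, 2, 0, 0], [1, 0, 0, 2, 1, 0, 0, 1, 0], [0, 2, 0, 0, 1, 1, 0, 1, 1], [0, 2, 1, 2, 2, 1, 1, 2, 0], [2, 2, 1, 1, 1, 1, 1, 0, 2]]
    [11910] (by decide +kernel)

theorem a100 : Ok 1727 113336795589509287772754 :=
  ok_of [[2, 1, 0, 2, 1, 1, 0, 1, 0], [2, 0, 0, 0, 0, 0, 2, 2, 1], [2, 1, 0, 2, 0, 0, 2, 1, 1], [0, 0, 0, 1, 2, 2, 2, 0, 2], [1, 1, 2, 2, 0, 0, 2, 1, 1], [0, 1, 1, 1, 1, 2, 2, 2, 2], [0, 0, 2, 0, 2, 2, 1, 0, 1], [2, 1, 1, 2, 2, 0, 1, 0, 2], [1, 1, 1, 2, 1, 0, 0, 1, 2]]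
    [[2, 0, 1, 1, 0, 0, 0, 2, 2], [1, 2, 2, 1, 2, 0, 1, 0, 2], [1, 0, 0, 2, 1, 0, 2, 0, 0], [0, 2, 1, 2, 2, 1, 0, 1, 1], [0, 2, 2, 2, 1, 0, 0, 0, 2], [1, 0, 1, 2, 2, 2, 0, 1, 0], [1, 1, 0, 2, 0, 2, 2, 0, 2], [2, 0, 2, 2, 0, 2, 2, 0, 2], [1, 0, 2, 2, 2, 2, 1, 0, 0]]
    [2325, 1739] (by decide +kernel)

end Cfsg.Agent.H651.O9
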