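import Cfsg.Agent.H651.O9.Rep

/-!
# Classes of the orthogonal group in dimension 9 over the field with three elements, part 5 (helper651)
-/

set_option autoImplicit false
set_option exponentiation.threshold 30000
set_option maxRecDepth 100000

namespace Cfsg.Agent.H651.O9

theorem a101 : Ok 179 113751860631092330496180 :=
  ok_of [[2, 1, 2, 1, 0, 0, 0, 1, 2], [2, 2, 0, 1, 2, 0, 0, 1, 1], [0, 0, 2, 1, 0, 1, 2, 2, 0], [0, 0, 2, 1, 2, 2, 1, 1, 2], [2, 2, 1, 0, 0, 1, 0, 1, 1], [0, 2, 0, 1, 1, 2, 2, 1, 2], [0, 0, 0, 1, 2, 0, 2, 2, 1], [0, 1, 0, 1, 0, 2, 1, 1, 2], [2, 0, 1, 0, 0, 1, 1, 0, 1]]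
    [[1, 1, 1, 1, 1, 2, 1, 0, 1], [1, 1, 0, 2, 2, 2, 2, 1, 2], [1, 0, 0, 1, 0, 2, 0, 2, 0], [0, 1, 2, 2, 0, 2, 2, 0, 2], [2, 0, 2, 0, 0, 2, 2, 0, 0], [0, 0, 2, 1, 2, 1, 0, 2, 2], [0, 2, 1, 2, 1, 0, 2, 1, 1], [2, 1, 2, 0, 1, 0, 2, 1, 1], [1, 0, 0, 1, 0, 1, 0, 2, 1]]
    [18715, 15031] (by decide +kernel)

theorem a102 : Ok 5183 114083911523677731422532 :=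
  ok_of [[1, 0, 1, 0, 1, 2, 1, 2, 1], [1, 1, 1, 0, 0, 0, 0, 2, 1], [2, 1, 0, 2, 2, 1, 1, 0, 2], [2, 2, 1, 1, 2, 1, 1, 0, 2], [2, 1, 0, 1, 2, 0, 2, 1, 1], [2, 2, 2, 0, 0, 0, 1, 2, 0], [0, 0, 1, 1, 2, 0, 1, 2, 0], [1, 1, 0, 2, 0, 2, 1, 2, 0], [0, 1, 1, 1, 2, 1, 2, 1, 0]]
    [[2, 0, 0, 2, 1, 2, 2, 1, 1], [1, 2, 0, 0, 0, 1, 2, 1, 1], [2, 2, 2, 2, 2, 2, 2, 2, 1], [0, 2, 0, 2, 2, 2, 1, 2, 0], [1, 1, 1, 0, 0, 2, 2, 0, 1], [1, 0, 1, 1, 0, 0, 2, 1, 0], [1, 2, 2, 1, 0, 2, 0, 2, 1], [1, 0, 0, 0, 2, 0, 1, 1, 2], [2, 1, 1, 2, 1, 0, 1, 2, 1]]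
    [18483, 13236, 13969] (by decide +kernel)

theorem a103 : Ok 41471 113336795590263086384292 :=
  ok_of [[0, 2, 1, 0, 0, 0, 1, 0, 0], [0, 2, 2, 0, 1, 1, 0, 1, 1], [2, 1, 1, 0, 1, 1, 0, 2, 0], [2, 0, 1, 2, 1, 1, 2, 0, 0], [0, 0, 1, 1, 2, 0, 0, 2, 2], [0, 0, 2, 1, 2, 1, 1, 2, 0], [0, 0, 2, 0, 1, 1, 2, 0, 2], [0, 2, 1, 2, 2, 0, 2, 1, 1], [2, 1, 1, 1, 1, 1, 1, 1, 0]]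
    [[2, 1, 2, 0, 0, 0, 1, 1, 0], [0, 0, 2, 1, 1, 0, 1, 1, 0], [1, 1, 2, 0, 0, 1, 0, 0, 1], [1, 0, 0, 0, 1, 1, 0, 2, 2], [1, 2, 2, 0, 0, 0, 2, 2, 0], [1, 0, 0, 1, 1, 1, 0, 0, 2], [1, 2, 0, 0, 1, 2, 0, 1, 2], [2, 2, 0, 0, 0, 0, 0, 0, 2], [2, 2, 2, 0, 0, 1, 1, 2, 2]]
    [2582, 10890, 4116] (by decide +kernel)

theorem a104 : Ok 2159 567306555557714854084626 :=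
  ok_of [[1, 1, 0, 0, 1, 0, 0, 2, 2], [2, 1, 0, 1, 0, 1, 1, 2, 2], [2, 1, 1, 2, 1, 0, 1, 0, 2], [2, 1, 2, 0, 2, 2, 2, 0, 0], [2, 0, 1, 2, 1, 2, 2, 0, 2], [2, 2, 0, 2, 2, 0, 0, 2, 1], [0, 2, 1, 0, 1, 2, 1, 1, 0], [0, 1, 2, 2, 0, 0, 2, 0, 2], [1, 2, 1, 2, 1, 0, 1, 2, 2]]
    [[1, 1, 1, 2, 1, 0, 1, 1, 2], [0, 0, 2, 0, 0, 1, 0, 2, 0], [0, 0, 1, 0, 1, 1, 1, 2, 0], [1, 1, 2, 2, 2, 1, 0, 2, 2], [0, 1, 1, 0, 0, 0, 0, 0, 0], [1, 0, 1, 0, 0, 0, 0, 0, 0], [0, 0, 1, 0, 1, 2, 1, 1, 0], [2, 2, 2, 1, 2, 0, 1, 1, 2], [0, 0, 2, 0, 1, 2, 1, 1, 2]]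
    [4223, 732, 5757] (by decide +kernel)

theorem a105 : Ok 4319 113336795589741216399378 :=
  ok_of [[1, 1, 2, 0, 0, 2, 2, 0, 2], [2, 2, 1, 2, 1, 0, 0, 0, 0], [2, 1, 1, 2, 0, 2, 0, 0, 1], [1, 2, 2, 0, 1, 2, 0, 0, 2], [1, 2, 1, 0, 0, 1, 2, 1, 2], [2, 0, 1, 0, 1, 0, 0, 1, 0], [2, 0, 2, 0, 1, 1, 2, 0, 1], [2, 1, 1, 1, 1, 0, 0, 1, 0], [1, 1, 2, 0, 1, 1, 0, 1, 0]]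
    [[1, 2, 2, 0, 2, 1, 0, 1, 2], [1, 2, 0, 2, 1, 1, 1, 1, 2], [0, 2, 2, 1, 0, 1, 1, 2, 1], [2, 2, 0, 1, 0, 1, 1, 0, 2], [2, 1, 1, 2, 2, 0, 0, 2, 2], [0, 1, 2, 1, 2, 0, 2, 1, 1], [2, 1, 1, 1, 2, 1, 2, 1, 1], [1, 1, 2, 1, 0, 2, 0, 0, 0], [0, 1, 1, 2, 0, 1, 2, 0, 0]]
    [1068, 1758, 860] (by decide +kernel)

theorem a106 : Ok 2591 566683977945401104466244 :=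
  ok_of [[0, 0, 1, 0, 1, 0, 0, 1, 0], [1, 0, 0, 2, 2, 2, 0, 2, 1], [1, 1, 2, 2, 1, 1, 0, 1, 0], [0, 2, 1, 2, 1, 2, 2, 0, 1], [0, 0, 2, 1, 1, 1, 1, 1, 2], [1, 0, 1, 0, 0, 2, 1, 1, 1], [0, 2, 2, 0, 0, 0, 0, 1, 0], [1, 1, 1, 2, 0, 0, 1, 1, 1], [0, 2, 0, 1, 0, 1, 1, 2, 0]]
    [[1, 2, 2, 0, 0, 2, 2, 1, 2], [1, 1, 2, 1, 1, 0, 0, 0, 0], [2, 1, 1, 2, 0, 1, 0, 1, 2], [2, 1, 2, 0, 1, 1, 2, 2, 1], [2, 1, 0, 2, 2, 2, 2, 2, 1], [1, 1, 0, 2, 2, 0, 2, 1, 0], [0, 1, 1, 2, 2, 0, 1, 1, 0], [0, 2, 1, 0, 1, 0, 2, 0, 0], [1, 0, 2, 1, 0, 1, 0, 1, 0]]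
    [14876, 758, 16092, 15342] (by decide +kernel)

theorem a107 : Ok 20735 566683977944357441569956 :=
  ok_of [[2, 1, 1, 2, 2, 0, 1, 2, 0], [0, 0, 2, 2, 2, 0, 0, 1, 1], [2, 1, 2, 0, 1, 0, 1, 2, 1], [2, 1, 1, 1, 0, 1, 0, 0, 0], [2, 1, 0, 0, 2, 1, 0, 0, 1], [0, 2, 0, 1, 1, 1, 2, 1, 0], [1, 0, 2, 1, 2, 1, 0, 1, 1], [0, 2, 0, 0, 2, 0, 0, 2, 0], [2, 0, 1, 2, 1, 1, 0, 1, 1]]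
    [[1, 2, 1, 0, 0, 2, 1, 1, 0], [1, 0, 1, 1, 1, 0, 2, 0, 2], [1, 1, 2, 0, 0, 2, 0, 0, 2], [0, 1, 0, 2, 1, 0, 1, 0, 0], [2, 1, 1, 1, 1, 0, 2, 2, 1], [0, 2, 0, 0, 1, 1, 0, 2, 1], [2, 0, 0, 2, 2, 0, 1, 1, 1], [1, 0, 2, 2, 0, 1, 2, 0, 2], [0, 0, 2, 2, 2, 0, 1, 2, 2]]
    [17935, 2760, 3162] (by decide +kernel)

theorem a108 : Ok 15551 340010386767658137748266 :=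
  ok_of [[0, 1, 2, 2, 0, 2, 0, 0, 1], [1, 0, 0, 0, 2, 1, 2, 1, 2], [1, 0, 1, 1, 0, 0, 0, 2, 1], [2, 2, 0, 2, 1, 1, 1, 2, 1], [0, 1, 1, 2, 2, 1, 0, 0, 2], [0, 0, 0, 1, 0, 2, 2, 2, 1], [2, 1, 0, 1, 1, 1, 2, 0, 0], [1, 0, 1, 0, 1, 0, 2, 2, 1], [2, 0, 0, 1, 1, 1, 1, 1, 0]]
    [[1, 1, 2, 0, 1, 1, 2, 1, 1], [0, 2, 1, 1, 0, 2, 2, 0, 2], [1, 1, 1, 1, 2, 0, 2, 2, 0], [2, 0, 0, 2, 2, 1, 1, 1, 0], [2, 1, 2, 1, 2, 1, 0, 2, 0], [0, 1, 0, 1, 1, 1, 0, 1, 2], [1, 2, 1, 2, 0, 0, 1, 2, 0], [2, 2, 2, 2, 1, 1, 0, 1, 0], [2, 2, 1, 1, 0, 0, 0, 0, 0]]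
    [5821, 16673, 10192] (by decide +kernel)

theorem a109 : Ok 124415 340010386766614503164826 :=
  ok_of [[2, 2, 0, 0, 0, 2, 1, 0, 2], [1, 1, 0, 2, 2, 0, 0, 1, 2], [0, 2, 0, 2, 1, 0, 1, 0, 0], [1, 2, 1, 0, 0, 1, 1, 2, 2], [0, 0, 2, 1, 2, 0, 2, 2, 0], [1, 2, 0, 0, 0, 2, 1, 2, 2], [2, 1, 1, 2, 2, 2, 2, 1, 2], [1, 1, 1, 0, 0, 2, 2, 0, 1], [1, 1, 1, 0, 0, 1, 2, 1, 2]]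
    [[2, 1, 2, 2, 0, 1, 1, 1, 1], [0, 2, 1, 1, 0, 1, 1, 0, 1], [0, 1, 2, 0, 0, 2, 2, 2, 2], [1, 2, 1, 2, 1, 0, 0, 1, 2], [1, 1, 2, 1, 0, 1, 2, 2, 2], [1, 2, 2, 2, 0, 1, 2, 2, 1], [0, 2, 1, 0, 0, 2, 1, 1, 1], [1, 0, 1, 2, 1, 1, 1, 1, 2], [1, 0, 0, 1, 0, 1, 0, 2, 1]]
    [13831, 15668, 3896, 19209] (by decide +kernel)

theorem a110 : Ok 12959 340010386769223648018504 :=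
  ok_of [[2, 1, 2, 2, 0, 1, 0, 2, 0], [1, 0, 1, 1, 2, 0, 0, 2, 2], [2, 1, 2, 1, 2, 0, 0, 0, 1], [1, 2, 2, 1, 0, 1, 2, 0, 2], [1, 1, 1, 2, 2, 2, 2, 1, 0], [0, 1, 0, 2, 0, 0, 0, 2, 0], [0, 0, 2, 2, 2, 0, 1, 2, 0], [0, 2, 2, 1, 0, 0, 1, 2, 1], [2, 0, 1, 0, 0, 0, 1, 2, 0]]
    [[1, 1, 0, 2, 0, 1, 0, 0, 2], [0, 2, 0, 2, 0, 0, 2, 2, 1], [2, 0, 1, 0, 2, 0, 0, 0, 0], [1, 2, 2, 2, 2, 2, 2, 1, 0], [1, 1, 0, 0, 2, 2, 2, 1, 1], [2, 1, 2, 0, 0, 2, 1, 2, 1], [0, 2, 2, 1, 0, 2, 2, 2, 0], [2, 0, 1, 0, 0, 0, 2, 2, 1], [1, 0, 1, 1, 2, 1, 0, 0, 2]]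
    [16200, 18758, 4567] (by decide +kernel)

theorem a111 : Ok 1244159 3060093480900573802070826 :=
  ok_of [[0, 0, 2, 0, 1, 1, 0, 0, 2], [2, 1, 2, 1, 1, 1, 2, 2, 0], [2, 2, 1, 1, 2, 2, 0, 1, 0], [0, 2, 2, 2, 2, 1, 2, 2, 1], [2, 0, 2, 2, 2, 1, 1, 1, 1], [2, 2, 1, 2, 0, 0, 1, 1, 1], [0, 0, 1, 2, 1, 0, 1, 2, 2], [2, 2, 2, 2, 1, 2, 0, 0, 1], [1, 2, 2, 2, 0, 0, 2, 0, 1]]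
    [[2, 2, 2, 0, 1, 1, 1, 1, 0], [1, 2, 1, 2, 0, 1, 2, 0, 1], [2, 1, 0, 1, 0, 1, 1, 2, 2], [2, 2, 2, 0, 0, 1, 2, 1, 0], [2, 1, 2, 1, 0, 0, 1, 0, 2], [2, 1, 1, 2, 1, 0, 1, 0, 2], [0, 1, 0, 2, 0, 2, 2, 2, 2], [1, 0, 2, 1, 0, 2, 1, 2, 1], [1, 2, 1, 1, 0, 0, 1, 0, 2]]
    [15813, 11697, 7191, 15280, 12474] (by decide +kernel)

theorem a112 : Ok 9953279 3060093480899530337356698 :=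
  ok_of [[2, 2, 2, 2, 0, 1, 2, 1, 1], [0, 2, 1, 2, 2, 0, 1, 2, 2], [2, 1, 0, 1, 2, 0, 2, 1, 1], [2, 1, 2, 0, 2, 2, 0, 0, 0], [1, 1, 1, 1, 2, 0, 2, 1, 1], [1, 1, 0, 2, 2, 2, 2, 1, 1], [1, 0, 1, 0, 1, 0, 1, 0, 0], [2, 0, 2, 0, 2, 0, 0, 1, 0], [1, 0, 1, 0, 1, 0, 0, 0, 1]]
    [[0, 2, 1, 2, 1, 1, 1, 1, 1], [2, 1, 2, 0, 1, 0, 2, 1, 1], [1, 1, 2, 1, 2, 0, 1, 1, 1], [1, 1, 1, 1, 2, 0, 1, 2, 2], [0, 0, 0, 2, 2, 0, 2, 0, 0], [0, 2, 0, 1, 2, 2, 2, 0, 2], [0, 2, 0, 0, 0, 1, 0, 2, 0], [2, 0, 2, 2, 2, 1, 2, 0, 0], [1, 0, 1, 0, 0, 2, 2, 0, 1]]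
    [382, 9638, 16494, 1898, 8787] (by decide +kernel)

theorem a113 : Ok 1036799 3060093480902139293466696 :=
  ok_of [[1, 1, 0, 2, 1, 0, 2, 0, 1], [2, 0, 2, 0, 2, 2, 2, 1, 0], [1, 1, 2, 1, 1, 0, 0, 0, 0], [2, 2, 2, 1, 2, 2, 2, 1, 0], [0, 2, 0, 1, 2, 2, 0, 2, 1], [0, 1, 0, 0, 0, 2, 0, 0, 0], [0, 1, 0, 1, 0, 0, 0, 1, 0], [2, 0, 2, 2, 2, 1, 0, 1, 0], [1, 2, 1, 0, 1, 2, 1, 2, 1]]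
    [[2, 2, 1, 0, 1, 0, 1, 0, 2], [2, 2, 1, 2, 0, 0, 1, 1, 1], [2, 0, 0, 2, 0, 0, 1, 1, 1], [0, 0, 1, 2, 0, 0, 1, 1, 0], [0, 0, 1, 0, 2, 1, 2, 2, 0], [1, 0, 0, 1, 2, 0, 1, 1, 1], [0, 0, 1, 0, 0, 2, 0, 1, 0], [0, 1, 0, 0, 2, 2, 0, 0, 1], [2, 1, 1, 2, 1, 1, 2, 0, 0]]
    [4988, 5490, 13165, 19159, 9534] (by decide +kernel)

theorem a114 : Ok 575 114083911523986969067952 :=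
  ok_of [[2, 2, 0, 1, 1, 2, 2, 0, 0], [1, 0, 1, 2, 0, 0, 2, 2, 0], [0, 2, 2, 0, 1, 2, 2, 1, 2], [0, 2, 1, 2, 1, 2, 0, 0, 1], [2, 1, 0, 0, 0, 2, 2, 2, 0], [1, 2, 1, 1, 2, 0, 0, 2, 0], [1, 0, 2, 2, 1, 1, 2, 1, 1], [0, 0, 2, 2, 0, 0, 1, 2, 0], [1, 0, 0, 0, 1, 2, 0, 0, 0]]
    [[1, 0, 1, 2, 2, 1, 2, 0, 2], [1, 1, 1, 1, 2, 1, 0, 0, 1], [2, 1, 0, 1, 0, 1, 1, 1, 0], [2, 2, 1, 0, 0, 0, 0, 0, 1], [0, 1, 1, 0, 1, 1, 0, 2, 1], [0, 0, 2, 2, 0, 2, 1, 0, 1], [1, 1, 0, 2, 0, 1, 1, 2, 0], [2, 2, 2, 1, 0, 1, 1, 0, 0], [2, 1, 0, 1, 1, 1, 1, 0, 2]]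
    [3512, 18185] (by decide +kernel)

theorem a115 : Ok 4607 113336795589644611092480 :=
  ok_of [[1, 1, 1, 0, 2, 0, 0, 1, 1], [1, 2, 1, 1, 1, 0, 0, 1, 0], [2, 2, 2, 0, 1, 0, 1, 0, 1], [2, 2, 0, 2, 2, 2, 2, 2, 0], [0, 1, 1, 1, 0, 0, 0, 1, 1], [0, 1, 1, 1, 0, 1, 2, 1, 0], [2, 0, 2, 0, 1, 1, 2, 1, 0], [1, 2, 1, 1, 0, 1, 2, 2, 1], [1, 1, 2, 2, 2, 2, 0, 1, 1]]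
    [[0, 0, 2, 0, 2, 2, 2, 0, 2], [1, 0, 2, 1, 2, 0, 2, 1, 1], [0, 2, 0, 2, 2, 1, 1, 2, 2], [0, 1, 0, 0, 2, 1, 2, 1, 2], [1, 1, 2, 0, 2, 1, 1, 0, 0], [0, 2, 0, 1, 2, 0, 1, 1, 2], [1, 0, 0, 0, 2, 2, 1, 2, 0], [1, 0, 0, 2, 0, 0, 0, 1, 0], [1, 2, 1, 0, 0, 2, 2, 2, 2]]
    [1230, 7635, 16307, 9788] (by decide +kernel)

theorem a116 : Ok 239 113613505194806250504492 :=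
  ok_of [[0, 1, 1, 0, 0, 2, 1, 1, 2], [0, 0, 2, 0, 0, 0, 1, 1, 1], [1, 2, 2, 2, 2, 0, 0, 2, 0], [2, 2, 2, 0, 0, 0, 0, 2, 1], [2, 2, 2, 0, 0, 1, 0, 2, 1], [2, 1, 0, 2, 1, 1, 2, 2, 1], [2, 2, 1, 2, 0, 0, 0, 2, 0], [2, 0, 0, 2, 0, 0, 2, 0, 0], [2, 0, 0, 1, 0, 1, 2, 0, 2]]
    [[1, 1, 0, 2, 2, 0, 2, 1, 0], [1, 0, 2, 2, 1, 0, 2, 0, 2], [2, 2, 0, 2, 0, 1, 0, 0, 1], [2, 1, 0, 2, 1, 1, 1, 0, 0], [1, 2, 2, 0, 1, 0, 1, 2, 1], [2, 0, 2, 2, 2, 2, 1, 2, 2], [2, 1, 1, 2, 0, 0, 1, 0, 1], [0, 2, 0, 2, 1, 1, 2, 0, 1], [2, 2, 2, 0, 2, 2, 1, 1, 1]]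
    [13669, 10877] (by decide +kernel)

theorem a117 : Ok 479 113890206355969876033782 :=
  ok_of [[2, 1, 2, 2, 0, 1, 1, 0, 0], [2, 0, 1, 1, 0, 0, 0, 1, 2], [1, 2, 2, 2, 2, 0, 1, 0, 0], [1, 1, 0, 0, 2, 0, 0, 1, 2], [1, 2, 0, 2, 2, 0, 2, 1, 2], [2, 2, 1, 2, 0, 0, 2, 0, 0], [0, 1, 2, 1, 0, 2, 1, 1, 0], [2, 0, 1, 1, 2, 0, 0, 1, 2], [2, 0, 1, 1, 2, 0, 2, 1, 1]]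
    [[2, 0, 0, 0, 1, 2, 2, 1, 1], [2, 2, 1, 2, 2, 2, 0, 2, 2], [0, 0, 0, 2, 2, 0, 0, 1, 0], [1, 0, 2, 2, 0, 1, 1, 2, 0], [0, 2, 0, 1, 0, 1, 1, 0, 0], [0, 0, 2, 2, 1, 2, 1, 1, 2], [1, 1, 2, 2, 1, 0, 2, 1, 1], [0, 1, 2, 0, 1, 1, 0, 0, 1], [2, 1, 1, 0, 0, 0, 1, 1, 1]]
    [13743, 14547] (by decide +kernel)

theorem a118 : Ok 191 113502821352818891489838 :=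
  ok_of [[0, 2, 1, 1, 2, 2, 2, 1, 2], [2, 1, 2, 2, 1, 1, 0, 0, 2], [2, 2, 1, 2, 0, 0, 2, 0, 0], [0, 2, 2, 1, 2, 2, 2, 2, 2], [2, 0, 1, 1, 1, 1, 2, 1, 2], [2, 1, 2, 1, 2, 1, 2, 2, 1], [1, 0, 2, 1, 0, 1, 2, 1, 2], [0, 0, 2, 1, 0, 0, 2, 2, 0], [1, 0, 1, 0, 1, 0, 0, 1, 1]]
    [[0, 0, 1, 1, 2, 0, 0, 1, 2], [2, 0, 1, 1, 0, 0, 0, 2, 1], [1, 1, 2, 1, 0, 2, 1, 1, 2], [0, 0, 2, 0, 1, 1, 0, 1, 1], [2, 2, 1, 1, 0, 2, 1, 2, 1], [2, 0, 2, 0, 0, 1, 2, 0, 0], [0, 2, 0, 1, 1, 0, 1, 1, 2], [2, 2, 1, 2, 1, 1, 2, 0, 1], [1, 2, 2, 0, 2, 2, 1, 0, 1]]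
    [17384, 9296] (by decide +kernel)

theorem a119 : Ok 4607 340010386767039683691558 :=
  ok_of [[1, 0, 1, 1, 2, 0, 1, 2, 0], [0, 2, 2, 1, 2, 1, 0, 0, 1], [1, 2, 0, 0, 1, 2, 0, 0, 2], [0, 2, 0, 1, 2, 0, 2, 2, 2], [1, 1, 0, 2, 0, 2, 1, 0, 2], [0, 2, 0, 2, 2, 2, 2, 0, 2], [2, 2, 1, 2, 0, 0, 2, 0, 0], [2, 2, 1, 2, 0, 2, 2, 2, 2], [2, 1, 0, 0, 0, 1, 0, 0, 0]]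
    [[0, 2, 1, 1, 0, 2, 2, 0, 1], [0, 1, 2, 2, 1, 0, 0, 1, 2], [0, 2, 1, 1, 0, 0, 0, 0, 1], [0, 2, 2, 1, 1, 2, 2, 0, 1], [0, 1, 0, 0, 1, 0, 0, 2, 0], [2, 1, 1, 2, 0, 1, 2, 0, 2], [2, 2, 0, 1, 0, 2, 1, 0, 1], [0, 1, 0, 0, 2, 0, 0, 1, 0], [0, 0, 1, 0, 0, 0, 0, 0, 2]]
    [17546, 14968, 521, 8865] (by decide +kernel)

theorem a120 : Ok 36863 340010386767851644846278 :=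
  ok_of [[1, 2, 0, 1, 1, 0, 2, 1, 2], [1, 0, 0, 0, 2, 0, 0, 1, 0], [2, 0, 2, 0, 0, 2, 2, 2, 2], [0, 2, 0, 2, 0, 0, 1, 0, 0], [2, 0, 1, 2, 2, 1, 1, 0, 1], [2, 1, 2, 2, 1, 1, 0, 1, 1], [1, 1, 2, 0, 2, 0, 2, 0, 1], [2, 0, 1, 1, 0, 1, 1, 0, 1], [1, 0, 1, 1, 2, 1, 1, 2, 0]]
    [[2, 1, 0, 0, 0, 2, 1, 2, 2], [0, 2, 2, 0, 1, 1, 1, 0, 1], [2, 0, 1, 2, 2, 0, 2, 2, 0], [2, 2, 1, 1, 2, 0, 1, 2, 2], [1, 2, 0, 1, 2, 1, 1, 0, 2], [0, 2, 0, 1, 0, 1, 1, 0, 0], [1, 1, 0, 1, 2, 1, 0, 2, 0], [2, 1, 1, 0, 1, 1, 0, 0, 0], [0, 1, 1, 0, 0, 1, 1, 2, 0]]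
    [3540, 14840, 5321, 19282, 17567] (by decide +kernel)

end Cfsg.Agent.H651.O9
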