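import Cfsg.Agent.H651.O9.Rep

/-!
# Classes of the orthogonal group in dimension 9 over the field with three elements, part 6 (helper651)
-/

set_option autoImplicit false
set_option exponentiation.threshold 30000
set_option maxRecDepth 100000

namespace Cfsg.Agent.H651.O9

theorem a121 : Ok 1919 340287096372549222924318 :=
  ok_of [[1, 2, 2, 1, 2, 2, 2, 1, 1], [1, 0, 2, 1, 0, 1, 2, 1, 1], [1, 1, 0, 2, 1, 0, 1, 0, 2], [1, 1, 0, 1, 0, 2, 0, 2, 2], [1, 1, 0, 1, 1, 0, 0, 2, 1], [0, 2, 0, 0, 1, 1, 0, 1, 1], [2, 2, 0, 1, 0, 1, 0, 2, 1], [2, 0, 1, 1, 1, 2, 2, 0, 0], [0, 0, 1, 2, 2, 2, 1, 0, 1]]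
    [[1, 2, 0, 1, 2, 0, 1, 2, 2], [1, 2, 0, 2, 1, 0, 1, 1, 0], [2, 2, 2, 1, 0, 1, 2, 2, 1], [1, 0, 0, 1, 2, 0, 2, 2, 2], [2, 2, 1, 0, 1, 1, 2, 1, 2], [2, 2, 0, 1, 2, 1, 1, 1, 2], [1, 2, 1, 0, 1, 1, 0, 2, 0], [0, 1, 1, 1, 2, 0, 0, 0, 2], [2, 2, 2, 0, 0, 2, 2, 1, 2]]
    [426, 6561, 7723, 12972] (by decide +kernel)

theorem a122 : Ok 3839 340563797533364955906060 :=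
  ok_of [[1, 0, 2, 0, 2, 0, 1, 0, 0], [2, 2, 1, 2, 2, 0, 1, 1, 1], [0, 0, 2, 0, 2, 0, 2, 0, 0], [0, 0, 0, 2, 0, 2, 1, 1, 1], [1, 1, 2, 2, 0, 0, 2, 1, 2], [2, 0, 0, 1, 0, 2, 0, 0, 0], [1, 1, 1, 2, 0, 0, 1, 1, 2], [2, 1, 1, 1, 0, 1, 0, 1, 0], [0, 1, 0, 2, 2, 0, 0, 1, 1]]
    [[2, 2, 2, 1, 2, 0, 2, 2, 1], [0, 2, 2, 2, 0, 2, 0, 2, 1], [2, 1, 0, 2, 1, 2, 0, 1, 2], [1, 2, 1, 2, 1, 0, 0, 1, 2], [2, 1, 2, 2, 0, 1, 2, 2, 2], [0, 1, 0, 0, 1, 0, 2, 0, 0], [2, 0, 0, 2, 2, 0, 0, 2, 0], [1, 0, 2, 2, 0, 0, 0, 1, 2], [1, 2, 2, 2, 2, 0, 2, 1, 0]]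
    [18315, 2961, 9217, 11556] (by decide +kernel)

theorem a123 : Ok 1535 340674489820084800652524 :=
  ok_of [[1, 1, 0, 0, 0, 1, 0, 1, 1], [0, 0, 1, 1, 0, 2, 0, 0, 1], [0, 0, 1, 2, 2, 1, 2, 0, 2], [0, 1, 0, 2, 1, 2, 2, 1, 2], [1, 1, 0, 0, 2, 0, 0, 0, 2], [2, 1, 1, 0, 2, 1, 0, 2, 1], [1, 0, 2, 2, 0, 2, 0, 2, 2], [1, 1, 2, 0, 0, 1, 0, 2, 1], [0, 1, 1, 1, 0, 0, 1, 2, 1]]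
    [[1, 0, 1, 1, 1, 2, 2, 0, 0], [2, 1, 0, 2, 1, 2, 2, 0, 1], [0, 0, 2, 2, 2, 0, 1, 2, 0], [1, 1, 1, 0, 1, 1, 2, 2, 0], [2, 0, 2, 2, 0, 0, 0, 1, 1], [2, 2, 0, 2, 1, 0, 1, 0, 1], [0, 2, 1, 1, 2, 0, 0, 2, 1], [1, 0, 1, 1, 0, 2, 0, 1, 2], [0, 0, 0, 1, 0, 2, 0, 0, 1]]
    [10149, 5242, 3941, 5807] (by decide +kernel)

theorem a124 : Ok 863 38526024998522220904790 :=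
  ok_of [[0, 2, 1, 0, 2, 2, 1, 0, 2], [1, 1, 0, 1, 1, 0, 2, 0, 1], [1, 2, 1, 0, 0, 2, 2, 1, 1], [2, 0, 1, 0, 1, 0, 1, 0, 0], [1, 1, 0, 1, 2, 0, 0, 0, 1], [0, 2, 0, 1, 0, 1, 0, 0, 0], [1, 0, 2, 0, 2, 0, 0, 0, 0], [2, 1, 0, 1, 2, 2, 1, 1, 2], [1, 1, 1, 1, 0, 0, 2, 0, 0]]
    [[0, 1, 1, 1, 0, 2, 1, 2, 0], [2, 1, 1, 2, 0, 2, 1, 0, 1], [1, 2, 1, 0, 1, 0, 2, 1, 2], [0, 1, 0, 2, 2, 0, 2, 2, 2], [1, 1, 0, 0, 2, 0, 2, 0, 2], [2, 2, 0, 2, 1, 1, 2, 2, 0], [1, 1, 0, 1, 2, 1, 2, 2, 2], [1, 2, 1, 2, 0, 0, 0, 2, 1], [0, 1, 2, 2, 1, 2, 0, 0, 2]]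
    [4898, 19211, 9316] (by decide +kernel)

theorem a125 : Ok 6911 37778931863884890571742 :=
  ok_of [[0, 0, 0, 2, 2, 2, 2, 0, 1], [0, 2, 2, 1, 2, 2, 1, 1, 2], [1, 1, 0, 0, 0, 1, 0, 1, 2], [2, 2, 0, 0, 2, 0, 0, 0, 2], [2, 0, 2, 0, 0, 0, 2, 2, 1], [1, 1, 0, 1, 1, 0, 1, 0, 1], [1, 1, 2, 1, 1, 0, 1, 1, 1], [2, 2, 0, 2, 0, 1, 0, 0, 1], [0, 1, 0, 1, 1, 2, 1, 0, 0]]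
    [[1, 1, 1, 0, 0, 0, 0, 2, 1], [1, 1, 0, 2, 1, 0, 2, 0, 2], [0, 0, 1, 2, 1, 0, 2, 2, 0], [1, 0, 0, 0, 2, 1, 2, 1, 1], [2, 1, 0, 2, 1, 2, 0, 1, 1], [2, 1, 0, 0, 1, 1, 0, 1, 0], [2, 1, 0, 1, 0, 1, 1, 1, 0], [2, 1, 2, 1, 0, 2, 0, 1, 2], [0, 0, 0, 2, 0, 1, 2, 1, 0]]
    [2489, 3669, 15238] (by decide +kernel)

theorem a126 : Ok 719 37986457734366215143430 :=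
  ok_of [[1, 1, 1, 1, 1, 2, 1, 0, 1], [0, 0, 0, 2, 2, 2, 0, 1, 1], [0, 0, 0, 2, 0, 0, 0, 1, 0], [2, 1, 1, 1, 2, 2, 2, 1, 0], [2, 0, 0, 1, 2, 2, 0, 2, 1], [1, 2, 2, 1, 1, 0, 2, 0, 1], [2, 0, 1, 2, 0, 1, 1, 2, 1], [1, 0, 1, 2, 2, 2, 1, 1, 1], [2, 0, 1, 0, 1, 0, 1, 0, 1]]
    [[0, 0, 2, 2, 1, 0, 1, 2, 0], [2, 1, 0, 0, 0, 1, 1, 1, 0], [1, 1, 0, 2, 1, 2, 1, 1, 1], [0, 1, 2, 1, 2, 1, 0, 2, 1], [2, 0, 0, 1, 2, 2, 0, 2, 2], [2, 2, 0, 1, 1, 1, 1, 1, 0], [2, 0, 1, 1, 2, 0, 0, 2, 2], [0, 2, 0, 0, 1, 0, 2, 2, 1], [2, 2, 0, 0, 0, 1, 2, 1, 1]]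
    [12454, 15523, 8923] (by decide +kernel)

theorem a127 : Ok 719 38193983605601321812154 :=
  ok_of [[2, 0, 1, 1, 1, 0, 1, 0, 2], [2, 0, 0, 2, 0, 1, 2, 2, 1], [0, 2, 0, 0, 1, 0, 0, 2, 0], [2, 1, 1, 2, 0, 0, 0, 2, 1], [0, 1, 2, 0, 2, 0, 0, 2, 0], [1, 2, 1, 1, 2, 0, 2, 0, 0], [0, 0, 2, 2, 1, 2, 2, 2, 2], [1, 1, 2, 1, 0, 2, 1, 1, 2], [1, 2, 0, 1, 2, 2, 1, 0, 1]]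
    [[2, 2, 1, 2, 2, 2, 0, 1, 2], [1, 2, 2, 2, 2, 0, 0, 0, 0], [2, 1, 1, 2, 2, 2, 1, 2, 1], [2, 0, 1, 0, 1, 0, 2, 2, 1], [2, 2, 2, 0, 2, 1, 2, 2, 2], [2, 2, 2, 2, 2, 2, 2, 0, 0], [0, 2, 0, 0, 2, 2, 2, 0, 2], [0, 2, 0, 0, 0, 2, 2, 2, 1], [1, 0, 1, 1, 1, 0, 1, 2, 2]]
    [6053, 16164] (by decide +kernel)

theorem a128 : Ok 863 37778954663415973806422 :=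
  ok_of [[1, 2, 2, 2, 0, 1, 1, 1, 1], [2, 2, 1, 2, 1, 1, 1, 2, 0], [2, 0, 1, 0, 0, 0, 2, 2, 2], [2, 0, 1, 0, 1, 1, 0, 1, 1], [2, 2, 1, 0, 0, 1, 2, 0, 2], [0, 0, 0, 1, 0, 2, 1, 1, 2], [0, 1, 0, 1, 0, 0, 0, 0, 0], [1, 2, 0, 0, 1, 1, 0, 1, 0], [0, 0, 0, 1, 0, 0, 0, 2, 2]]
    [[1, 1, 2, 1, 0, 2, 2, 2, 1], [1, 1, 1, 0, 1, 2, 0, 1, 0], [0, 1, 0, 1, 2, 0, 0, 1, 0], [1, 1, 1, 0, 2, 2, 1, 2, 2], [0, 1, 1, 2, 1, 1, 0, 2, 0], [2, 0, 2, 2, 1, 2, 1, 1, 1], [2, 1, 0, 0, 2, 2, 0, 1, 0], [1, 2, 2, 0, 1, 2, 2, 0, 1], [0, 1, 1, 2, 1, 1, 0, 0, 1]]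
    [18751, 5842] (by decide +kernel)

theorem a129 : Ok 6911 37778931863594996204510 :=
  ok_of [[0, 0, 0, 0, 2, 1, 1, 2, 2], [0, 0, 1, 2, 2, 2, 1, 1, 2], [1, 1, 0, 1, 1, 0, 2, 1, 0], [1, 2, 0, 2, 1, 1, 0, 0, 0], [0, 0, 0, 1, 1, 2, 2, 1, 1], [1, 0, 1, 2, 0, 2, 1, 2, 2], [1, 1, 0, 2, 2, 1, 1, 1, 1], [2, 2, 0, 1, 2, 1, 0, 2, 0], [0, 1, 0, 0, 0, 2, 0, 0, 1]]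
    [[1, 0, 1, 0, 2, 0, 0, 2, 0], [1, 1, 1, 2, 0, 0, 2, 2, 1], [2, 1, 2, 1, 1, 1, 1, 1, 0], [1, 0, 1, 2, 1, 0, 2, 1, 1], [0, 0, 2, 0, 0, 0, 0, 1, 0], [1, 2, 2, 2, 1, 1, 0, 2, 2], [1, 2, 0, 1, 2, 2, 1, 0, 0], [0, 2, 1, 2, 1, 2, 2, 1, 0], [0, 1, 1, 1, 0, 1, 1, 2, 2]]
    [10019, 11000, 5037] (by decide +kernel)

theorem a130 : Ok 1727 37778931864000844071794 :=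
  ok_of [[2, 2, 2, 0, 1, 0, 0, 0, 2], [2, 2, 1, 0, 1, 1, 1, 2, 2], [1, 2, 0, 2, 0, 0, 2, 1, 1], [1, 2, 0, 0, 0, 0, 2, 2, 0], [2, 1, 1, 1, 1, 0, 1, 1, 2], [0, 2, 2, 0, 1, 1, 0, 2, 2], [1, 2, 2, 2, 1, 1, 0, 1, 2], [1, 1, 0, 2, 2, 1, 0, 0, 0], [0, 0, 1, 1, 2, 1, 2, 1, 0]]
    [[2, 1, 2, 1, 2, 0, 0, 2, 1], [2, 1, 0, 2, 0, 2, 1, 2, 2], [2, 1, 2, 1, 1, 0, 2, 1, 0], [1, 1, 2, 1, 0, 0, 2, 2, 1], [1, 2, 0, 0, 1, 1, 2, 2, 1], [1, 0, 1, 1, 0, 0, 2, 0, 1], [0, 2, 0, 1, 0, 2, 1, 0, 0], [2, 2, 2, 0, 0, 0, 2, 1, 0], [1, 0, 1, 0, 0, 0, 1, 0, 2]]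
    [18996, 9181, 4917] (by decide +kernel)

theorem a131 : Ok 13823 37778931862957209487490 :=
  ok_of [[1, 0, 1, 1, 2, 0, 2, 0, 1], [1, 1, 1, 2, 2, 2, 2, 0, 2], [1, 0, 2, 2, 0, 0, 2, 1, 0], [1, 2, 1, 2, 1, 0, 0, 1, 2], [1, 1, 0, 1, 1, 1, 1, 1, 0], [0, 1, 2, 1, 1, 2, 0, 1, 2], [1, 2, 2, 0, 1, 1, 1, 1, 1], [2, 0, 2, 2, 1, 2, 0, 2, 0], [2, 1, 1, 1, 0, 2, 2, 1, 0]]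
    [[0, 1, 0, 0, 1, 1, 2, 0, 1], [0, 0, 2, 0, 0, 1, 2, 0, 0], [0, 2, 0, 1, 0, 2, 0, 2, 0], [0, 0, 2, 2, 2, 1, 2, 0, 0], [0, 1, 0, 2, 1, 0, 2, 2, 1], [1, 1, 0, 1, 2, 0, 0, 1, 1], [2, 0, 1, 0, 2, 2, 0, 2, 2], [2, 2, 1, 0, 1, 2, 1, 1, 2], [2, 1, 1, 2, 1, 2, 1, 2, 0]]
    [14943, 18706] (by decide +kernel)

theorem a132 : Ok 27647 37778931864000865305458 :=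
  ok_of [[0, 2, 2, 0, 1, 1, 2, 1, 0], [0, 2, 1, 0, 1, 0, 1, 1, 2], [1, 2, 2, 0, 2, 1, 0, 2, 2], [0, 0, 1, 2, 2, 1, 1, 2, 0], [2, 0, 2, 2, 2, 1, 0, 2, 0], [2, 2, 2, 1, 2, 2, 0, 1, 2], [2, 0, 1, 2, 0, 2, 1, 2, 2], [0, 2, 2, 2, 1, 2, 2, 0, 0], [2, 1, 1, 0, 0, 2, 2, 2, 1]]
    [[0, 1, 1, 0, 2, 1, 2, 1, 1], [0, 1, 2, 1, 2, 1, 0, 2, 1], [2, 1, 2, 1, 2, 2, 2, 1, 2], [2, 1, 2, 2, 1, 2, 1, 1, 0], [0, 0, 0, 1, 1, 0, 1, 1, 1], [0, 1, 2, 1, 2, 0, 2, 1, 2], [2, 2, 1, 1, 1, 2, 0, 1, 2], [1, 2, 0, 1, 1, 1, 0, 2, 0], [0, 0, 0, 1, 0, 2, 2, 0, 2]]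
    [10616, 1793, 11045, 6289] (by decide +kernel)

theorem a133 : Ok 221183 37778931862957400590466 :=
  ok_of [[1, 0, 1, 0, 0, 2, 1, 1, 1], [2, 1, 2, 2, 2, 2, 0, 1, 2], [0, 0, 1, 2, 1, 1, 2, 0, 0], [1, 0, 1, 2, 1, 1, 2, 2, 1], [2, 1, 2, 1, 2, 0, 0, 1, 2], [1, 0, 1, 2, 2, 2, 2, 2, 2], [1, 1, 1, 1, 1, 1, 2, 2, 1], [2, 0, 1, 1, 1, 2, 0, 0, 0], [0, 0, 0, 1, 0, 2, 1, 0, 1]]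
    [[1, 1, 0, 2, 0, 0, 2, 0, 2], [1, 1, 1, 1, 2, 1, 0, 1, 2], [2, 0, 2, 1, 0, 2, 2, 1, 2], [2, 0, 2, 0, 0, 2, 2, 2, 1], [2, 2, 2, 1, 1, 1, 1, 0, 2], [2, 1, 0, 0, 2, 2, 0, 0, 0], [0, 2, 2, 2, 1, 0, 0, 2, 1], [1, 2, 1, 2, 2, 0, 1, 2, 0], [0, 1, 0, 0, 2, 0, 1, 0, 1]]
    [2507, 14231, 723, 9062] (by decide +kernel)

theorem a134 : Ok 28799 37778931864696625823786 :=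
  ok_of [[0, 1, 0, 0, 0, 1, 0, 2, 0], [0, 1, 0, 1, 2, 1, 1, 1, 0], [2, 2, 0, 0, 1, 0, 0, 0, 2], [2, 1, 0, 0, 1, 1, 0, 1, 0], [1, 1, 2, 2, 2, 1, 0, 2, 2], [0, 1, 2, 0, 0, 1, 0, 2, 0], [0, 1, 1, 0, 1, 2, 1, 2, 1], [2, 0, 0, 0, 2, 1, 1, 2, 2], [1, 1, 2, 0, 0, 2, 1, 1, 0]]
    [[0, 2, 2, 2, 1, 1, 1, 2, 2], [1, 0, 1, 1, 2, 2, 1, 2, 1], [2, 0, 2, 1, 0, 0, 1, 2, 2], [1, 1, 2, 0, 2, 1, 0, 0, 0], [2, 2, 2, 1, 2, 2, 0, 0, 2], [1, 0, 2, 2, 0, 2, 1, 0, 2], [1, 0, 1, 2, 2, 1, 1, 0, 1], [0, 1, 0, 0, 2, 0, 0, 1, 0], [1, 0, 1, 1, 0, 0, 2, 1, 2]]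
    [14153, 6846, 18422, 3363] (by decide +kernel)

theorem a135 : Ok 719 37778942419331793158144 :=
  ok_of [[2, 1, 2, 0, 0, 0, 2, 1, 2], [2, 0, 1, 2, 1, 1, 1, 1, 2], [2, 2, 2, 2, 2, 1, 0, 0, 1], [0, 2, 2, 0, 1, 1, 1, 0, 2], [0, 0, 0, 1, 1, 0, 1, 0, 0], [1, 2, 2, 1, 0, 0, 1, 2, 0], [0, 2, 2, 2, 2, 0, 0, 1, 1], [0, 0, 2, 0, 1, 1, 2, 0, 2], [1, 1, 2, 1, 1, 2, 0, 2, 0]]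
    [[1, 2, 0, 0, 2, 1, 2, 0, 2], [2, 1, 1, 1, 2, 1, 2, 1, 1], [2, 1, 0, 1, 0, 2, 1, 2, 1], [2, 0, 0, 2, 0, 0, 2, 2, 2], [0, 1, 1, 0, 1, 1, 0, 2, 2], [1, 1, 2, 1, 0, 1, 1, 1, 1], [1, 2, 2, 1, 0, 2, 0, 1, 1], [0, 2, 1, 2, 2, 1, 0, 1, 2], [0, 1, 1, 1, 1, 1, 0, 1, 0]]
    [4920, 16296, 16092] (by decide +kernel)

theorem a136 : Ok 575 37944957626788603953440 :=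
  ok_of [[1, 2, 0, 1, 0, 0, 2, 1, 1], [1, 0, 2, 1, 2, 1, 2, 0, 1], [2, 2, 1, 2, 2, 0, 2, 0, 0], [1, 1, 1, 1, 2, 2, 0, 1, 0], [2, 2, 1, 2, 1, 2, 2, 1, 1], [2, 1, 1, 1, 2, 0, 0, 0, 0], [0, 2, 1, 1, 1, 0, 0, 1, 1], [0, 0, 1, 1, 1, 2, 1, 1, 2], [2, 2, 0, 0, 2, 0, 1, 2, 1]]
    [[2, 2, 2, 2, 1, 1, 1, 1, 2], [1, 0, 0, 0, 0, 2, 0, 0, 0], [0, 0, 1, 0, 0, 2, 2, 2, 2], [0, 1, 0, 1, 1, 1, 0, 1, 1], [1, 1, 2, 0, 1, 1, 1, 1, 0], [0, 0, 1, 2, 0, 1, 1, 1, 0], [2, 2, 1, 2, 2, 2, 2, 1, 0], [1, 2, 1, 0, 2, 2, 1, 1, 2], [2, 1, 0, 0, 1, 0, 0, 2, 0]]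
    [14163, 16863, 2883] (by decide +kernel)

theorem a137 : Ok 575 37944957626962550325536 :=
  ok_of [[0, 1, 2, 0, 2, 0, 2, 0, 0], [0, 2, 2, 2, 2, 1, 0, 2, 0], [0, 1, 0, 1, 1, 1, 2, 1, 0], [2, 0, 1, 0, 2, 2, 0, 0, 1], [2, 2, 0, 2, 1, 0, 0, 0, 1], [2, 1, 1, 0, 1, 0, 1, 2, 2], [2, 0, 1, 1, 0, 2, 0, 2, 1], [0, 2, 0, 0, 1, 1, 0, 2, 1], [1, 1, 1, 0, 1, 2, 0, 2, 1]]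
    [[0, 0, 2, 0, 2, 2, 0, 1, 1], [1, 2, 0, 1, 2, 1, 2, 1, 0], [1, 0, 1, 1, 1, 2, 1, 0, 0], [2, 1, 2, 1, 1, 2, 2, 2, 2], [2, 2, 1, 0, 0, 2, 2, 1, 0], [1, 1, 2, 1, 2, 2, 0, 2, 2], [2, 1, 2, 0, 1, 0, 2, 1, 2], [0, 1, 0, 0, 2, 0, 1, 1, 1], [1, 0, 1, 1, 2, 1, 1, 2, 0]]
    [9198, 10342, 2367] (by decide +kernel)

theorem a138 : Ok 719 37778936085970870796288 :=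
  ok_of [[0, 2, 1, 0, 2, 2, 2, 1, 0], [2, 2, 0, 0, 1, 2, 2, 2, 2], [1, 0, 0, 0, 2, 0, 2, 2, 2], [0, 2, 2, 2, 0, 0, 0, 2, 2], [2, 2, 0, 0, 0, 0, 0, 1, 1], [2, 1, 1, 2, 2, 0, 2, 0, 2], [0, 1, 0, 2, 2, 2, 0, 1, 1], [1, 0, 2, 2, 1, 1, 2, 1, 2], [2, 0, 0, 2, 1, 0, 2, 1, 0]]
    [[2, 0, 1, 0, 0, 1, 2, 2, 2], [0, 0, 1, 2, 2, 1, 0, 1, 2], [2, 0, 2, 1, 0, 0, 2, 1, 1], [2, 1, 1, 1, 2, 2, 1, 0, 1], [0, 1, 1, 1, 0, 2, 2, 1, 0], [2, 0, 2, 0, 1, 0, 1, 0, 0], [0, 1, 1, 0, 2, 2, 0, 2, 2], [2, 1, 1, 0, 0, 0, 1, 1, 0], [2, 2, 0, 1, 0, 2, 1, 1, 0]]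
    [2071, 11180, 7947] (by decide +kernel)

theorem a139 : Ok 1439 37778948752518768754688 :=
  ok_of [[2, 1, 0, 2, 2, 2, 0, 2, 0], [0, 0, 2, 2, 2, 1, 0, 0, 0], [1, 2, 0, 1, 2, 1, 2, 0, 1], [0, 0, 0, 0, 2, 2, 2, 0, 1], [2, 1, 1, 2, 0, 0, 0, 1, 1], [2, 0, 0, 0, 1, 1, 0, 0, 2], [0, 1, 1, 2, 2, 2, 0, 2, 0], [2, 0, 1, 1, 2, 0, 2, 0, 2], [1, 0, 1, 0, 0, 2, 1, 0, 2]]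
    [[1, 2, 1, 0, 1, 2, 1, 0, 1], [1, 2, 0, 2, 2, 1, 0, 1, 1], [0, 2, 2, 2, 1, 0, 0, 1, 2], [2, 0, 0, 0, 2, 2, 0, 0, 2], [0, 1, 2, 1, 1, 2, 0, 1, 2], [0, 2, 2, 0, 0, 1, 1, 0, 0], [2, 2, 0, 0, 1, 0, 2, 1, 0], [1, 0, 2, 0, 0, 0, 0, 1, 0], [0, 0, 1, 0, 2, 1, 0, 1, 0]]
    [16587, 18927] (by decide +kernel)

theorem a140 : Ok 23039 37778948752518771113984 :=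
  ok_of [[1, 1, 0, 1, 0, 1, 1, 0, 1], [2, 2, 2, 0, 1, 2, 1, 0, 0], [0, 0, 2, 1, 0, 2, 1, 2, 2], [0, 1, 0, 0, 2, 0, 0, 0, 0], [0, 0, 1, 2, 2, 0, 2, 1, 2], [1, 2, 0, 2, 2, 1, 1, 0, 1], [2, 1, 0, 0, 0, 2, 2, 1, 2], [1, 2, 0, 0, 2, 1, 2, 1, 0], [2, 2, 0, 1, 1, 2, 2, 1, 0]]
    [[2, 1, 2, 1, 0, 1, 0, 2, 1], [2, 1, 0, 0, 2, 1, 1, 0, 2], [0, 2, 0, 1, 2, 0, 2, 0, 0], [0, 2, 0, 0, 2, 2, 1, 0, 1], [2, 2, 2, 0, 0, 1, 0, 2, 1], [0, 2, 2, 2, 1, 2, 2, 0, 0], [0, 2, 0, 1, 1, 1, 1, 2, 0], [2, 2, 2, 1, 0, 1, 2, 2, 1], [2, 2, 2, 2, 2, 1, 2, 2, 0]]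
    [12691, 8195, 16257, 17408, 8452] (by decide +kernel)

end Cfsg.Agent.H651.O9
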