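import Cfsg.Agent.H651.O9.Rep

/-!
# Classes of the orthogonal group in dimension 9 over the field with three elements, part 7 (helper651)
-/

set_option autoImplicit false
set_option exponentiation.threshold 30000
set_option maxRecDepth 100000

namespace Cfsg.Agent.H651.O9

theorem a141 : Ok 23039 38443034916427506975440 :=
  ok_of [[2, 2, 0, 1, 1, 0, 0, 1, 1], [0, 1, 1, 2, 1, 0, 2, 1, 2], [0, 1, 1, 1, 1, 2, 1, 0, 0], [0, 0, 2, 1, 2, 2, 1, 1, 1], [1, 0, 0, 0, 0, 1, 1, 1, 2], [1, 1, 0, 2, 0, 0, 1, 0, 1], [2, 2, 2, 0, 0, 2, 2, 0, 1], [0, 2, 2, 0, 2, 1, 1, 2, 1], [2, 0, 0, 0, 0, 0, 2, 1, 0]]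
    [[0, 2, 1, 0, 0, 0, 2, 0, 0], [1, 1, 0, 2, 0, 1, 1, 0, 1], [1, 0, 1, 0, 0, 0, 2, 2, 1], [1, 0, 1, 2, 0, 0, 2, 1, 2], [0, 2, 1, 1, 0, 0, 0, 1, 1], [0, 0, 0, 0, 1, 1, 2, 0, 2], [1, 2, 0, 2, 1, 1, 1, 1, 1], [0, 2, 1, 2, 1, 0, 1, 2, 2], [1, 0, 2, 2, 2, 0, 2, 1, 1]]
    [14868, 14680, 15164, 4360] (by decide +kernel)

theorem a142 : Ok 167 113627340675305925771432 :=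
  ok_of [[0, 2, 0, 0, 1, 1, 2, 1, 0], [1, 2, 0, 2, 1, 2, 0, 1, 1], [2, 1, 2, 0, 1, 1, 2, 2, 1], [1, 2, 2, 2, 0, 1, 2, 2, 1], [0, 2, 2, 0, 1, 2, 2, 2, 0], [2, 2, 0, 1, 2, 0, 0, 0, 2], [1, 0, 2, 1, 1, 2, 0, 2, 2], [2, 1, 1, 0, 1, 0, 2, 1, 1], [2, 2, 0, 0, 1, 0, 2, 1, 2]]
    [[2, 1, 2, 2, 2, 0, 2, 2, 1], [1, 1, 2, 1, 2, 1, 2, 1, 2], [2, 0, 2, 1, 2, 0, 1, 2, 1], [2, 0, 1, 1, 2, 0, 0, 2, 2], [2, 1, 2, 2, 2, 2, 0, 2, 1], [0, 0, 1, 1, 1, 2, 0, 2, 0], [1, 2, 2, 1, 0, 0, 0, 0, 1], [0, 1, 1, 2, 2, 0, 1, 2, 1], [0, 0, 2, 2, 1, 2, 2, 1, 0]]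
    [9391] (by decide +kernel)

theorem a143 : Ok 167 113627340674494176953076 :=
  ok_of [[2, 1, 1, 2, 1, 0, 0, 2, 2], [2, 2, 2, 2, 2, 1, 1, 0, 2], [2, 2, 2, 1, 0, 2, 2, 2, 2], [2, 1, 2, 0, 0, 0, 2, 2, 0], [1, 1, 2, 2, 1, 1, 2, 2, 2], [1, 1, 2, 0, 2, 0, 0, 0, 1], [1, 1, 0, 1, 0, 2, 2, 0, 1], [0, 2, 0, 0, 0, 2, 0, 1, 0], [0, 2, 2, 2, 1, 1, 1, 1, 1]]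
    [[2, 0, 0, 0, 1, 1, 1, 0, 1], [1, 2, 1, 2, 2, 1, 1, 0, 0], [1, 2, 2, 2, 1, 0, 0, 1, 0], [1, 0, 1, 1, 0, 2, 2, 0, 1], [2, 0, 2, 0, 0, 0, 1, 1, 2], [2, 2, 1, 2, 0, 0, 0, 2, 0], [2, 1, 0, 2, 2, 1, 2, 1, 0], [0, 0, 0, 1, 1, 0, 1, 1, 1], [1, 0, 1, 2, 1, 1, 0, 0, 1]]
    [11239, 3747] (by decide +kernel)

theorem a144 : Ok 191 113502831486034016993472 :=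
  ok_of [[2, 2, 1, 0, 0, 2, 0, 0, 2], [2, 1, 1, 2, 0, 0, 0, 0, 1], [2, 0, 1, 1, 1, 1, 2, 1, 1], [0, 0, 1, 0, 2, 0, 1, 1, 1], [2, 1, 2, 0, 2, 2, 2, 2, 1], [0, 1, 1, 0, 0, 1, 1, 1, 2], [0, 2, 0, 1, 1, 1, 0, 2, 1], [1, 0, 0, 1, 2, 2, 0, 0, 1], [1, 0, 1, 1, 1, 2, 2, 0, 2]]
    [[2, 2, 2, 2, 0, 1, 2, 1, 1], [0, 2, 1, 2, 0, 1, 1, 2, 1], [0, 0, 2, 2, 0, 1, 2, 0, 2], [0, 2, 0, 2, 0, 1, 2, 2, 1], [1, 0, 2, 1, 2, 0, 2, 1, 1], [2, 0, 1, 1, 0, 0, 2, 1, 0], [2, 0, 1, 1, 0, 1, 2, 1, 0], [1, 1, 0, 1, 1, 2, 1, 1, 2], [2, 2, 2, 1, 0, 1, 0, 1, 2]]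
    [18313, 19415] (by decide +kernel)

theorem a145 : Ok 155 113696507099062588146138 :=
  ok_of [[0, 0, 0, 0, 1, 1, 0, 1, 1], [2, 0, 2, 0, 0, 2, 1, 1, 1], [1, 1, 2, 0, 1, 2, 0, 2, 0], [0, 0, 1, 2, 1, 2, 1, 0, 2], [1, 2, 2, 0, 1, 2, 1, 0, 2], [0, 2, 0, 2, 0, 0, 0, 1, 0], [1, 0, 2, 2, 2, 0, 0, 0, 1], [1, 0, 1, 0, 1, 2, 2, 1, 1], [2, 1, 1, 0, 0, 0, 0, 1, 0]]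
    [[0, 2, 1, 0, 2, 0, 2, 2, 1], [2, 2, 2, 0, 2, 0, 2, 0, 2], [1, 0, 0, 2, 2, 2, 0, 0, 1], [1, 2, 0, 2, 0, 2, 2, 1, 1], [2, 2, 1, 0, 0, 1, 2, 1, 0], [0, 2, 2, 0, 1, 1, 0, 1, 2], [1, 2, 0, 1, 2, 1, 0, 0, 1], [2, 2, 0, 0, 0, 1, 0, 2, 2], [0, 0, 1, 1, 2, 0, 2, 2, 0]]
    [5333, 14499] (by decide +kernel)

theorem a146 : Ok 155 113516662321616756146650 :=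
  ok_of [[1, 2, 0, 2, 2, 0, 2, 1, 1], [1, 2, 0, 1, 1, 1, 2, 2, 1], [2, 1, 0, 0, 2, 2, 0, 0, 0], [1, 2, 2, 1, 0, 1, 0, 2, 1], [2, 2, 1, 1, 1, 2, 2, 0, 1], [1, 1, 1, 1, 2, 1, 0, 2, 1], [1, 1, 0, 2, 0, 0, 0, 2, 2], [2, 1, 1, 0, 0, 1, 2, 1, 2], [2, 0, 2, 0, 1, 1, 2, 1, 1]]
    [[0, 2, 2, 2, 2, 1, 1, 0, 0], [2, 1, 2, 1, 2, 0, 0, 1, 1], [0, 1, 2, 2, 2, 0, 1, 2, 0], [1, 1, 2, 2, 0, 0, 1, 2, 2], [2, 1, 0, 1, 2, 0, 2, 1, 1], [2, 0, 2, 1, 1, 2, 0, 0, 2], [2, 0, 1, 0, 1, 1, 0, 0, 1], [1, 0, 2, 1, 1, 1, 1, 1, 1], [0, 0, 1, 2, 2, 1, 1, 2, 1]]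
    [442] (by decide +kernel)

theorem a147 : Ok 239 113890208467167492440730 :=
  ok_of [[0, 0, 1, 1, 0, 0, 2, 0, 2], [1, 2, 2, 0, 2, 0, 1, 2, 2], [1, 0, 0, 2, 2, 2, 2, 0, 2], [2, 2, 0, 0, 0, 1, 0, 2, 1], [2, 0, 1, 0, 2, 2, 1, 0, 1], [1, 1, 0, 2, 1, 1, 2, 2, 0], [0, 0, 2, 0, 1, 1, 1, 2, 0], [1, 0, 1, 0, 1, 0, 2, 2, 2], [2, 0, 1, 0, 0, 1, 0, 2, 2]]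
    [[2, 2, 2, 0, 1, 1, 1, 2, 1], [2, 1, 1, 1, 1, 1, 0, 2, 1], [1, 0, 0, 2, 1, 0, 1, 0, 0], [2, 1, 1, 0, 2, 2, 0, 2, 0], [2, 2, 1, 0, 0, 0, 0, 2, 2], [1, 1, 0, 2, 1, 2, 2, 0, 0], [2, 0, 1, 1, 0, 0, 0, 1, 2], [2, 1, 1, 0, 1, 1, 2, 2, 1], [0, 1, 0, 0, 0, 2, 0, 0, 2]]
    [832, 18335] (by decide +kernel)

theorem a148 : Ok 1343 340300931853048896225286 :=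
  ok_of [[2, 0, 1, 2, 1, 1, 2, 2, 1], [0, 0, 0, 0, 1, 1, 0, 2, 1], [1, 2, 1, 2, 2, 1, 0, 2, 0], [1, 1, 2, 0, 0, 2, 1, 0, 2], [0, 2, 2, 1, 2, 1, 2, 0, 2], [2, 2, 2, 1, 0, 1, 1, 0, 0], [2, 1, 2, 0, 1, 2, 2, 0, 2], [0, 1, 2, 2, 2, 1, 2, 2, 2], [1, 1, 1, 1, 0, 0, 0, 2, 0]]
    [[0, 0, 0, 2, 2, 0, 1, 1, 1], [2, 2, 2, 0, 2, 0, 0, 1, 2], [1, 1, 0, 0, 0, 0, 1, 0, 2], [2, 2, 2, 1, 0, 1, 0, 0, 0], [1, 1, 2, 2, 2, 2, 0, 1, 0], [1, 1, 0, 0, 2, 0, 1, 0, 2], [0, 2, 1, 1, 2, 0, 2, 0, 2], [2, 2, 1, 1, 1, 0, 2, 2, 0], [0, 1, 1, 1, 1, 0, 2, 2, 0]]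
    [9648, 9872, 11025] (by decide +kernel)

theorem a149 : Ok 1343 340882022023482531054162 :=
  ok_of [[1, 2, 0, 0, 2, 2, 0, 1, 0], [1, 0, 1, 2, 2, 0, 1, 2, 2], [1, 2, 0, 1, 1, 1, 1, 1, 2], [2, 1, 1, 0, 2, 2, 2, 2, 1], [0, 1, 0, 0, 0, 2, 1, 1, 2], [0, 2, 2, 1, 0, 1, 2, 1, 2], [2, 1, 2, 1, 2, 0, 0, 2, 2], [2, 2, 2, 1, 2, 2, 1, 2, 0], [1, 0, 2, 1, 2, 2, 2, 0, 1]]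
    [[0, 2, 1, 0, 1, 1, 2, 0, 1], [0, 1, 0, 2, 2, 2, 1, 2, 0], [1, 2, 2, 2, 0, 2, 1, 1, 1], [2, 2, 2, 0, 0, 1, 0, 1, 2], [2, 1, 2, 1, 2, 0, 2, 1, 0], [1, 0, 0, 1, 1, 1, 2, 0, 1], [0, 0, 0, 0, 0, 0, 1, 1, 1], [2, 1, 0, 0, 0, 0, 1, 2, 1], [1, 0, 1, 2, 2, 2, 2, 0, 1]]
    [13350, 5188, 3738] (by decide +kernel)

theorem a150 : Ok 1535 340674499953183961055334 :=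
  ok_of [[0, 1, 0, 2, 0, 0, 2, 2, 1], [1, 2, 1, 1, 2, 1, 1, 1, 0], [2, 1, 0, 2, 2, 0, 2, 1, 1], [1, 1, 2, 2, 1, 1, 0, 2, 0], [2, 0, 1, 1, 2, 2, 1, 2, 2], [2, 1, 0, 0, 0, 1, 1, 1, 0], [2, 2, 1, 0, 2, 1, 0, 1, 0], [2, 2, 1, 1, 1, 2, 2, 0, 1], [2, 1, 1, 0, 2, 2, 0, 0, 2]]
    [[2, 0, 2, 1, 0, 1, 1, 2, 2], [2, 2, 2, 0, 0, 1, 0, 0, 2], [0, 1, 2, 1, 0, 0, 1, 2, 1], [2, 0, 1, 1, 2, 1, 2, 2, 2], [2, 1, 1, 0, 0, 2, 2, 2, 0], [0, 0, 1, 0, 0, 2, 0, 2, 0], [0, 1, 2, 1, 0, 1, 1, 2, 1], [2, 1, 1, 2, 1, 2, 1, 1, 2], [2, 1, 0, 0, 0, 1, 0, 1, 0]]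
    [17637, 10431, 14381] (by decide +kernel)

theorem a151 : Ok 1247 340370098276805558796924 :=
  ok_of [[2, 2, 2, 1, 2, 2, 0, 2, 2], [1, 1, 1, 2, 0, 0, 1, 1, 1], [1, 1, 1, 0, 2, 2, 2, 1, 2], [2, 1, 0, 1, 1, 1, 2, 2, 1], [2, 1, 0, 1, 0, 1, 1, 1, 0], [2, 0, 0, 1, 2, 2, 2, 1, 0], [1, 2, 2, 1, 2, 2, 2, 1, 1], [2, 2, 1, 0, 1, 0, 0, 1, 2], [1, 1, 1, 0, 2, 1, 0, 0, 2]]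
    [[1, 0, 2, 1, 1, 0, 1, 2, 2], [1, 0, 1, 0, 1, 1, 2, 1, 0], [2, 0, 0, 2, 0, 0, 0, 2, 0], [0, 1, 0, 2, 0, 0, 1, 1, 2], [1, 0, 2, 2, 1, 1, 1, 2, 2], [0, 2, 1, 1, 0, 0, 0, 0, 2], [0, 2, 0, 2, 0, 2, 1, 1, 2], [1, 2, 0, 2, 0, 0, 1, 2, 1], [2, 2, 1, 2, 2, 0, 0, 0, 1]]
    [12271, 14496, 5299] (by decide +kernel)

theorem a152 : Ok 1247 340190253499359726797436 :=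
  ok_of [[2, 2, 1, 2, 0, 0, 1, 1, 2], [1, 0, 2, 0, 2, 2, 2, 0, 1], [2, 0, 0, 0, 0, 0, 2, 2, 2], [1, 1, 0, 1, 2, 1, 1, 0, 0], [1, 1, 2, 2, 1, 0, 1, 1, 0], [0, 2, 2, 0, 2, 0, 1, 0, 0], [0, 2, 1, 2, 1, 0, 2, 2, 0], [2, 2, 0, 2, 1, 1, 1, 2, 1], [2, 0, 0, 2, 0, 0, 2, 1, 0]]
    [[1, 0, 2, 0, 2, 2, 2, 1, 0], [1, 2, 1, 1, 0, 0, 2, 2, 2], [1, 0, 0, 0, 2, 2, 1, 0, 1], [2, 0, 0, 2, 0, 1, 1, 1, 1], [0, 0, 1, 0, 0, 0, 1, 1, 2], [0, 0, 1, 2, 1, 2, 0, 1, 2], [0, 1, 0, 0, 0, 1, 1, 1, 2], [2, 1, 2, 0, 2, 1, 2, 0, 2], [0, 1, 0, 0, 0, 0, 2, 0, 2]]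
    [19643, 15049, 7067] (by decide +kernel)

theorem a153 : Ok 1919 340563805978097442226788 :=
  ok_of [[2, 0, 2, 0, 2, 2, 0, 1, 2], [0, 2, 2, 1, 2, 1, 1, 2, 0], [1, 2, 1, 0, 1, 0, 2, 1, 2], [2, 1, 0, 0, 1, 1, 0, 2, 0], [1, 1, 1, 2, 0, 2, 2, 0, 0], [2, 0, 1, 2, 0, 0, 2, 2, 0], [0, 2, 1, 0, 2, 1, 1, 2, 2], [2, 1, 2, 0, 1, 1, 0, 0, 0], [1, 1, 1, 1, 1, 0, 1, 1, 1]]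
    [[1, 1, 2, 0, 2, 1, 1, 1, 2], [0, 1, 2, 1, 2, 0, 2, 1, 1], [0, 0, 0, 2, 1, 1, 1, 0, 2], [2, 2, 2, 0, 1, 1, 1, 2, 1], [1, 1, 0, 1, 1, 0, 2, 0, 1], [0, 0, 1, 2, 2, 1, 0, 0, 2], [1, 0, 2, 1, 1, 2, 2, 0, 1], [0, 0, 0, 2, 0, 0, 2, 2, 2], [0, 1, 1, 2, 1, 2, 1, 1, 0]]
    [4714, 2941, 1840] (by decide +kernel)

theorem a154 : Ok 447 38069476949391602549186 :=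
  ok_of [[2, 0, 1, 1, 2, 1, 1, 0, 0], [1, 1, 0, 2, 0, 2, 0, 2, 1], [0, 2, 1, 1, 0, 0, 0, 0, 2], [0, 0, 0, 2, 0, 0, 1, 1, 1], [1, 2, 2, 1, 0, 1, 0, 0, 2], [2, 2, 2, 2, 0, 1, 1, 2, 2], [2, 2, 0, 1, 0, 0, 0, 1, 2], [0, 0, 2, 1, 2, 2, 2, 0, 0], [2, 1, 2, 2, 0, 0, 0, 0, 2]]
    [[0, 2, 0, 0, 2, 0, 2, 2, 2], [1, 2, 1, 0, 2, 1, 0, 1, 2], [0, 1, 2, 2, 2, 0, 0, 1, 2], [2, 2, 2, 1, 0, 0, 1, 1, 2], [2, 2, 1, 1, 2, 1, 2, 0, 1], [1, 0, 0, 2, 1, 0, 2, 2, 1], [1, 2, 1, 1, 0, 2, 0, 0, 0], [2, 0, 2, 0, 2, 2, 0, 1, 1], [1, 0, 0, 1, 0, 2, 1, 0, 2]]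
    [10398, 329, 13966] (by decide +kernel)

theorem a155 : Ok 447 37875780225913724272670 :=
  ok_of [[2, 1, 1, 2, 1, 0, 0, 0, 1], [1, 1, 0, 1, 1, 1, 2, 1, 2], [1, 2, 1, 0, 0, 0, 2, 1, 2], [0, 1, 1, 2, 2, 1, 0, 0, 2], [2, 0, 0, 1, 0, 0, 0, 2, 0], [1, 1, 1, 1, 2, 2, 2, 2, 1], [2, 1, 1, 1, 0, 2, 0, 0, 0], [0, 1, 0, 1, 2, 2, 2, 0, 1], [2, 1, 1, 2, 1, 2, 0, 2, 2]]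
    [[2, 1, 2, 1, 2, 1, 2, 0, 0], [2, 1, 1, 1, 0, 2, 1, 1, 1], [1, 2, 0, 2, 1, 2, 0, 2, 1], [2, 0, 1, 1, 2, 2, 2, 2, 0], [2, 2, 2, 0, 2, 1, 0, 0, 0], [2, 2, 2, 2, 0, 2, 2, 1, 2], [0, 2, 1, 1, 2, 2, 1, 1, 0], [0, 2, 0, 1, 2, 2, 1, 0, 2], [1, 0, 0, 2, 0, 0, 0, 2, 1]]
    [6477, 10753] (by decide +kernel)

theorem a156 : Ok 511 38443045049526667378754 :=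
  ok_of [[2, 1, 1, 1, 1, 2, 1, 2, 2], [2, 2, 2, 0, 0, 0, 2, 0, 2], [1, 2, 1, 2, 1, 0, 0, 0, 1], [0, 0, 2, 2, 2, 0, 1, 0, 1], [2, 0, 0, 0, 1, 1, 1, 0, 1], [0, 1, 0, 0, 1, 2, 2, 2, 0], [0, 2, 0, 0, 0, 1, 0, 1, 0], [0, 1, 1, 1, 1, 2, 0, 1, 0], [2, 1, 2, 1, 0, 2, 2, 2, 0]]
    [[1, 1, 2, 2, 0, 0, 2, 1, 1], [0, 0, 2, 1, 2, 1, 2, 0, 2], [1, 1, 2, 2, 1, 2, 0, 0, 2], [2, 0, 1, 2, 1, 1, 1, 1, 1], [2, 0, 2, 2, 0, 1, 0, 0, 2], [2, 1, 2, 2, 2, 2, 0, 1, 2], [0, 2, 1, 0, 2, 0, 1, 1, 2], [0, 2, 0, 1, 0, 2, 2, 0, 0], [0, 1, 2, 2, 2, 2, 0, 0, 0]]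
    [6898, 2113, 15126] (by decide +kernel)

theorem a157 : Ok 207 37958804084715734565446 :=
  ok_of [[1, 1, 2, 2, 0, 2, 2, 1, 2], [0, 2, 1, 1, 2, 2, 2, 2, 0], [1, 0, 1, 2, 1, 2, 2, 0, 2], [1, 1, 2, 1, 0, 1, 1, 0, 0], [2, 1, 1, 0, 2, 1, 2, 0, 2], [2, 2, 0, 2, 0, 0, 2, 1, 0], [1, 1, 2, 0, 1, 0, 2, 1, 0], [1, 0, 1, 1, 1, 2, 0, 1, 0], [0, 2, 0, 1, 2, 0, 2, 0, 1]]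
    [[0, 2, 2, 0, 0, 2, 1, 1, 1], [1, 2, 1, 0, 0, 2, 2, 1, 2], [1, 2, 1, 0, 1, 0, 1, 2, 2], [0, 0, 0, 2, 1, 1, 1, 2, 0], [1, 0, 0, 0, 0, 0, 1, 1, 2], [1, 0, 0, 2, 0, 0, 1, 1, 1], [0, 1, 2, 1, 0, 1, 1, 2, 1], [1, 0, 1, 1, 2, 0, 0, 2, 2], [2, 2, 1, 2, 1, 1, 2, 1, 2]]
    [10810, 15455] (by decide +kernel)

theorem a158 : Ok 207 37958793106940387263124 :=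
  ok_of [[2, 1, 1, 2, 2, 0, 0, 2, 1], [0, 2, 1, 2, 2, 1, 1, 0, 1], [0, 0, 2, 2, 0, 1, 0, 0, 1], [1, 1, 0, 0, 0, 1, 0, 1, 1], [2, 0, 2, 0, 1, 2, 2, 1, 1], [2, 1, 1, 0, 1, 1, 2, 0, 0], [0, 2, 1, 2, 2, 2, 1, 1, 1], [2, 2, 0, 0, 2, 2, 2, 1, 1], [1, 0, 0, 2, 0, 2, 0, 2, 2]]
    [[1, 1, 2, 1, 2, 0, 1, 0, 0], [0, 2, 0, 1, 0, 2, 2, 2, 2], [0, 0, 2, 0, 2, 2, 2, 0, 1], [2, 1, 1, 2, 1, 1, 1, 2, 1], [2, 2, 1, 0, 1, 1, 1, 2, 1], [1, 0, 0, 0, 1, 1, 2, 0, 2], [1, 2, 2, 2, 1, 0, 0, 0, 0], [2, 2, 1, 1, 1, 0, 1, 2, 1], [1, 0, 2, 0, 2, 0, 0, 0, 2]]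
    [10066, 9209] (by decide +kernel)

theorem a159 : Ok 319 37917299332685046874442 :=
  ok_of [[0, 1, 1, 2, 2, 1, 0, 1, 2], [1, 0, 1, 0, 1, 2, 1, 2, 2], [2, 0, 0, 0, 2, 2, 2, 0, 1], [2, 1, 1, 2, 1, 2, 2, 2, 1], [2, 2, 0, 2, 0, 2, 2, 0, 1], [1, 0, 1, 2, 0, 0, 2, 1, 1], [1, 2, 0, 2, 0, 1, 2, 1, 1], [0, 2, 1, 0, 1, 1, 1, 2, 0], [0, 2, 2, 2, 2, 2, 1, 1, 1]]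
    [[0, 2, 1, 2, 1, 0, 2, 1, 2], [1, 2, 1, 2, 1, 2, 2, 0, 0], [2, 1, 2, 1, 1, 1, 2, 1, 2], [0, 1, 0, 1, 1, 0, 1, 1, 1], [2, 2, 0, 2, 2, 0, 2, 0, 2], [1, 1, 1, 1, 2, 2, 2, 0, 0], [2, 1, 0, 0, 0, 2, 1, 1, 0], [2, 0, 0, 2, 0, 2, 0, 2, 0], [0, 1, 1, 2, 0, 1, 1, 0, 0]]
    [10141, 15799] (by decide +kernel)

theorem a160 : Ok 415 37778942841235020579128 :=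
  ok_of [[1, 1, 1, 2, 1, 2, 2, 1, 2], [0, 2, 0, 0, 2, 1, 1, 1, 0], [2, 2, 2, 1, 1, 0, 1, 0, 0], [1, 2, 1, 0, 0, 2, 2, 1, 2], [1, 1, 1, 2, 2, 2, 0, 1, 2], [2, 0, 0, 2, 2, 2, 0, 2, 2], [0, 0, 2, 2, 2, 2, 2, 1, 1], [2, 2, 1, 0, 2, 0, 0, 0, 1], [1, 0, 2, 1, 2, 0, 2, 0, 0]]
    [[2, 0, 1, 2, 2, 1, 2, 0, 2], [2, 0, 0, 0, 2, 2, 1, 2, 0], [0, 0, 2, 1, 1, 2, 0, 0, 1], [0, 1, 1, 1, 0, 1, 2, 1, 0], [1, 2, 1, 0, 0, 0, 2, 1, 2], [1, 0, 2, 2, 0, 2, 1, 0, 1], [1, 1, 0, 0, 1, 0, 0, 2, 1], [1, 1, 1, 0, 0, 1, 0, 2, 1], [0, 1, 2, 1, 1, 2, 1, 2, 1]]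
    [8970, 17095, 1197] (by decide +kernel)

end Cfsg.Agent.H651.O9
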