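import Cfsg.Agent.H651.O9.Rep

/-!
# Classes of the orthogonal group in dimension 9 over the field with three elements, part 8 (helper651)
-/

set_option autoImplicit false
set_option exponentiation.threshold 30000
set_option maxRecDepth 100000

namespace Cfsg.Agent.H651.O9

theorem a161 : Ok 415 37958787619183363751936 :=
  ok_of [[1, 0, 2, 0, 1, 1, 2, 1, 0], [2, 0, 1, 1, 0, 2, 0, 0, 2], [2, 1, 2, 1, 2, 1, 0, 0, 0], [0, 0, 0, 1, 0, 1, 1, 1, 1], [0, 1, 0, 0, 0, 2, 2, 2, 2], [1, 2, 0, 0, 2, 1, 0, 2, 2], [1, 2, 2, 1, 2, 2, 2, 1, 2], [2, 2, 1, 0, 0, 1, 0, 0, 2], [1, 0, 2, 1, 0, 2, 0, 1, 0]]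
    [[0, 1, 2, 1, 2, 1, 0, 0, 2], [0, 1, 1, 2, 2, 0, 1, 1, 0], [2, 0, 1, 1, 2, 0, 1, 0, 1], [1, 0, 2, 2, 0, 1, 2, 1, 0], [0, 2, 0, 2, 0, 0, 2, 2, 1], [0, 1, 1, 0, 2, 0, 1, 0, 0], [2, 0, 2, 2, 2, 1, 2, 0, 0], [2, 2, 0, 0, 0, 1, 0, 2, 1], [0, 0, 2, 1, 1, 1, 2, 0, 1]]
    [12812, 4351, 5780] (by decide +kernel)

theorem a162 : Ok 639 38055641469162513367160 :=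
  ok_of [[0, 0, 2, 2, 1, 0, 0, 2, 2], [0, 2, 0, 0, 0, 0, 2, 0, 0], [0, 1, 0, 2, 0, 2, 0, 0, 0], [0, 1, 1, 2, 1, 2, 0, 0, 2], [2, 1, 1, 2, 1, 1, 1, 1, 0], [2, 0, 1, 0, 1, 2, 2, 1, 2], [0, 2, 0, 2, 0, 1, 2, 0, 0], [2, 0, 2, 0, 0, 1, 1, 1, 1], [1, 1, 2, 1, 2, 1, 2, 2, 2]]
    [[1, 1, 0, 1, 0, 0, 1, 0, 2], [0, 2, 2, 0, 1, 0, 1, 1, 1], [1, 2, 0, 2, 0, 1, 1, 2, 2], [0, 0, 2, 2, 2, 1, 0, 1, 0], [0, 0, 2, 2, 1, 0, 0, 0, 2], [2, 2, 0, 0, 0, 2, 2, 0, 1], [0, 1, 2, 0, 2, 1, 1, 2, 2], [2, 2, 2, 1, 2, 2, 0, 2, 2], [0, 1, 2, 1, 2, 0, 1, 0, 0]]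
    [2054, 11039] (by decide +kernel)

theorem a163 : Ok 223 38069476949391602548736 :=
  ok_of [[2, 0, 0, 0, 1, 1, 1, 0, 1], [2, 2, 0, 2, 2, 1, 2, 2, 1], [1, 2, 1, 2, 2, 0, 0, 2, 1], [2, 0, 0, 1, 2, 1, 1, 2, 1], [1, 2, 2, 0, 0, 0, 2, 2, 0], [1, 0, 2, 0, 2, 0, 2, 2, 2], [0, 0, 1, 2, 1, 1, 2, 2, 2], [0, 2, 2, 2, 1, 0, 2, 1, 0], [2, 0, 0, 0, 2, 2, 2, 2, 0]]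
    [[2, 0, 1, 0, 0, 0, 1, 1, 1], [2, 2, 0, 0, 0, 2, 0, 2, 1], [1, 2, 1, 1, 1, 2, 2, 2, 0], [0, 2, 2, 2, 0, 1, 1, 2, 0], [1, 1, 2, 1, 1, 0, 1, 1, 1], [1, 2, 2, 1, 1, 2, 1, 1, 2], [1, 2, 2, 1, 1, 1, 2, 2, 0], [2, 2, 0, 1, 0, 2, 0, 0, 1], [2, 2, 0, 1, 1, 2, 0, 2, 2]]
    [10089, 704] (by decide +kernel)

theorem a164 : Ok 223 38069476949391602549156 :=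
  ok_of [[0, 1, 2, 1, 2, 1, 0, 1, 1], [0, 2, 2, 1, 1, 2, 1, 2, 0], [0, 0, 0, 1, 1, 1, 2, 0, 2], [2, 2, 2, 1, 1, 2, 1, 1, 0], [2, 1, 1, 0, 2, 1, 2, 1, 0], [1, 2, 0, 2, 1, 0, 1, 2, 2], [2, 0, 0, 1, 1, 1, 0, 0, 2], [1, 0, 0, 2, 1, 0, 0, 1, 0], [2, 1, 1, 2, 0, 1, 2, 1, 1]]
    [[0, 2, 0, 1, 1, 0, 1, 1, 2], [0, 0, 1, 1, 2, 0, 0, 1, 1], [0, 0, 0, 2, 2, 1, 1, 2, 1], [0, 2, 2, 2, 2, 2, 1, 1, 0], [1, 2, 0, 2, 2, 1, 2, 1, 0], [1, 0, 1, 2, 2, 2, 1, 1, 1], [0, 1, 2, 2, 0, 2, 0, 0, 1], [0, 1, 2, 2, 2, 1, 2, 2, 1], [2, 1, 1, 1, 1, 0, 0, 2, 1]]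
    [478, 6355] (by decide +kernel)

theorem a165 : Ok 287 38152478431300185423872 :=
  ok_of [[0, 0, 0, 0, 2, 1, 1, 2, 1], [0, 1, 2, 1, 2, 1, 2, 0, 2], [1, 0, 0, 0, 0, 1, 2, 0, 0], [0, 0, 1, 0, 0, 1, 2, 2, 1], [2, 2, 2, 0, 2, 2, 1, 1, 0], [0, 2, 2, 0, 1, 0, 1, 0, 0], [2, 2, 1, 2, 0, 2, 0, 2, 0], [2, 0, 0, 2, 2, 2, 0, 2, 1], [2, 1, 1, 2, 0, 0, 1, 1, 0]]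
    [[2, 0, 0, 2, 2, 2, 0, 1, 1], [1, 1, 1, 2, 0, 1, 1, 0, 0], [2, 0, 1, 1, 0, 1, 0, 1, 2], [2, 1, 2, 2, 0, 1, 1, 0, 0], [2, 2, 2, 1, 2, 0, 0, 1, 0], [2, 1, 1, 2, 1, 2, 1, 1, 1], [0, 1, 1, 2, 1, 2, 1, 0, 1], [1, 2, 2, 1, 1, 2, 1, 0, 0], [1, 2, 0, 1, 0, 1, 2, 2, 1]]
    [1396, 16812] (by decide +kernel)

theorem a166 : Ok 3455 37778931863691617043080 :=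
  ok_of [[1, 1, 0, 0, 0, 0, 1, 0, 2], [1, 2, 2, 1, 1, 0, 2, 1, 0], [0, 2, 1, 1, 0, 0, 1, 0, 2], [1, 1, 0, 1, 1, 1, 1, 1, 0], [0, 0, 1, 2, 0, 2, 1, 2, 2], [2, 0, 0, 1, 2, 2, 2, 1, 0], [0, 2, 2, 0, 1, 2, 1, 1, 0], [0, 0, 2, 1, 1, 0, 1, 2, 2], [1, 2, 1, 0, 2, 2, 0, 1, 1]]
    [[2, 0, 0, 1, 0, 0, 1, 1, 1], [1, 0, 0, 1, 1, 1, 0, 0, 1], [0, 2, 2, 0, 1, 1, 2, 1, 0], [0, 1, 2, 2, 2, 0, 1, 0, 1], [1, 2, 2, 2, 1, 1, 2, 1, 0], [2, 1, 0, 0, 0, 1, 2, 1, 1], [0, 1, 1, 0, 1, 1, 1, 0, 2], [0, 0, 0, 2, 2, 0, 1, 1, 1], [2, 1, 1, 1, 1, 2, 1, 1, 1]]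
    [6557, 14745, 71] (by decide +kernel)

theorem a167 : Ok 193535 37778931864039636795392 :=
  ok_of [[1, 0, 0, 1, 2, 1, 1, 2, 2], [0, 1, 2, 0, 1, 1, 0, 2, 1], [2, 0, 2, 0, 2, 1, 2, 2, 0], [2, 2, 0, 0, 0, 1, 2, 0, 2], [0, 2, 2, 0, 2, 2, 0, 1, 2], [1, 0, 0, 1, 2, 2, 2, 0, 1], [1, 1, 2, 0, 0, 0, 0, 2, 2], [2, 1, 0, 0, 2, 2, 1, 1, 1], [0, 1, 0, 0, 0, 0, 2, 0, 2]]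
    [[1, 2, 2, 0, 1, 1, 0, 2, 0], [0, 2, 0, 0, 1, 2, 1, 1, 0], [1, 2, 2, 0, 0, 1, 2, 1, 2], [1, 2, 0, 0, 0, 1, 2, 1, 1], [2, 0, 2, 2, 2, 0, 1, 0, 2], [0, 0, 2, 0, 0, 0, 0, 0, 0], [2, 2, 0, 0, 1, 0, 1, 2, 0], [0, 2, 2, 0, 0, 1, 0, 2, 0], [1, 0, 2, 0, 2, 0, 1, 2, 0]]
    [12394, 3205, 2511, 17231] (by decide +kernel)

theorem a168 : Ok 159 38332342630190843757186 :=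
  ok_of [[0, 2, 1, 2, 0, 0, 2, 1, 2], [0, 2, 1, 0, 2, 1, 2, 1, 2], [0, 1, 0, 1, 0, 0, 2, 0, 0], [2, 0, 0, 0, 0, 0, 1, 1, 1], [2, 0, 0, 0, 2, 2, 1, 2, 0], [2, 2, 2, 1, 2, 1, 1, 1, 0], [0, 0, 2, 2, 0, 2, 0, 2, 1], [0, 0, 0, 2, 2, 2, 2, 0, 1], [1, 1, 2, 2, 1, 0, 1, 0, 0]]
    [[2, 2, 0, 2, 0, 0, 0, 1, 1], [1, 0, 1, 1, 2, 0, 1, 0, 2], [1, 1, 1, 2, 0, 2, 0, 1, 0], [0, 1, 2, 0, 0, 1, 2, 2, 1], [2, 0, 0, 1, 1, 2, 1, 2, 1], [1, 1, 2, 2, 0, 0, 1, 1, 0], [1, 0, 1, 0, 2, 2, 2, 1, 0], [0, 0, 2, 1, 2, 1, 0, 0, 2], [2, 1, 1, 1, 1, 1, 1, 1, 0]]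
    [1041, 15879] (by decide +kernel)

theorem a169 : Ok 159 37778940307979557208706 :=
  ok_of [[2, 2, 1, 0, 0, 0, 0, 1, 2], [0, 1, 0, 2, 2, 2, 1, 0, 1], [1, 2, 2, 1, 2, 2, 2, 2, 0], [0, 1, 2, 1, 0, 1, 1, 2, 1], [1, 1, 1, 2, 1, 0, 2, 2, 2], [0, 0, 2, 1, 1, 2, 1, 0, 2], [1, 0, 0, 1, 0, 1, 0, 0, 0], [0, 1, 2, 0, 1, 2, 2, 1, 1], [0, 2, 0, 0, 1, 2, 1, 1, 2]]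
    [[0, 2, 1, 0, 0, 1, 1, 1, 2], [1, 1, 2, 2, 2, 2, 1, 1, 1], [2, 1, 1, 0, 2, 2, 2, 2, 1], [0, 0, 0, 2, 1, 0, 0, 0, 0], [1, 1, 2, 0, 1, 2, 0, 0, 0], [1, 2, 2, 2, 2, 2, 1, 0, 1], [0, 1, 2, 0, 0, 2, 0, 0, 0], [2, 2, 0, 1, 0, 0, 2, 0, 1], [1, 0, 0, 0, 1, 0, 1, 2, 0]]
    [18019, 1441] (by decide +kernel)

theorem a170 : Ok 159 38055641469858294597186 :=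
  ok_of [[1, 0, 1, 0, 2, 1, 1, 2, 2], [0, 1, 0, 1, 0, 0, 1, 1, 1], [0, 2, 0, 1, 2, 2, 2, 0, 1], [2, 2, 1, 0, 0, 2, 2, 0, 1], [2, 2, 0, 0, 2, 2, 2, 1, 1], [2, 2, 1, 0, 0, 0, 1, 2, 0], [1, 2, 2, 1, 0, 0, 1, 0, 2], [0, 1, 2, 0, 1, 0, 0, 1, 0], [1, 2, 2, 0, 0, 1, 1, 1, 1]]
    [[0, 0, 0, 1, 1, 1, 0, 1, 1], [2, 1, 2, 1, 2, 2, 1, 1, 0], [0, 1, 1, 2, 1, 1, 0, 1, 0], [1, 0, 1, 2, 1, 1, 0, 2, 0], [0, 1, 1, 1, 1, 0, 2, 0, 2], [0, 1, 0, 2, 1, 1, 2, 0, 2], [2, 0, 0, 2, 2, 1, 2, 1, 1], [2, 2, 0, 0, 0, 1, 0, 1, 2], [1, 2, 2, 1, 2, 2, 2, 2, 1]]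
    [7028, 9199] (by decide +kernel)

theorem a171 : Ok 143 37778931863652946477794 :=
  ok_of [[0, 2, 0, 0, 0, 2, 0, 2, 0], [0, 1, 0, 1, 1, 2, 1, 2, 1], [0, 0, 0, 2, 1, 1, 2, 0, 2], [2, 0, 1, 2, 0, 0, 1, 2, 2], [1, 2, 0, 0, 2, 1, 0, 1, 2], [1, 1, 1, 0, 2, 1, 0, 2, 0], [1, 0, 1, 0, 0, 2, 2, 2, 2], [2, 1, 0, 2, 0, 1, 1, 2, 2], [0, 2, 0, 2, 2, 2, 1, 1, 0]]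
    [[1, 1, 1, 2, 0, 2, 0, 2, 0], [0, 0, 0, 2, 1, 1, 0, 0, 2], [2, 1, 1, 2, 0, 0, 1, 0, 2], [1, 1, 0, 2, 0, 1, 1, 0, 1], [1, 0, 2, 0, 1, 2, 1, 2, 1], [1, 1, 0, 1, 1, 1, 2, 1, 2], [0, 2, 1, 2, 2, 0, 1, 2, 1], [0, 1, 1, 2, 1, 1, 1, 1, 1], [0, 0, 1, 0, 0, 1, 2, 1, 0]]
    [19246, 13658] (by decide +kernel)

theorem a172 : Ok 11519 37778931862957161776706 :=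
  ok_of [[2, 0, 2, 1, 2, 1, 1, 0, 2], [0, 0, 1, 1, 2, 2, 1, 2, 1], [2, 1, 1, 2, 1, 0, 1, 0, 2], [0, 1, 2, 1, 2, 1, 1, 0, 1], [0, 2, 2, 2, 1, 2, 2, 2, 2], [0, 2, 0, 1, 1, 1, 0, 2, 2], [2, 2, 0, 1, 1, 0, 1, 0, 1], [2, 1, 2, 2, 0, 2, 2, 0, 0], [2, 1, 1, 1, 1, 1, 1, 1, 0]]
    [[0, 1, 2, 1, 2, 2, 1, 0, 0], [1, 0, 1, 2, 2, 1, 0, 1, 2], [0, 1, 2, 2, 0, 2, 0, 2, 2], [2, 0, 1, 1, 1, 0, 0, 2, 1], [1, 1, 2, 0, 0, 1, 2, 1, 0], [2, 2, 0, 1, 1, 2, 2, 2, 1], [1, 1, 2, 2, 2, 0, 2, 1, 2], [2, 2, 0, 0, 0, 0, 0, 1, 2], [1, 2, 1, 2, 2, 2, 1, 1, 1]]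
    [455, 12178, 13061] (by decide +kernel)

theorem a173 : Ok 179 37778931864503350002186 :=
  ok_of [[1, 1, 0, 0, 2, 2, 1, 1, 0], [2, 1, 0, 0, 2, 0, 1, 2, 1], [1, 2, 0, 0, 0, 2, 1, 1, 0], [0, 2, 2, 2, 0, 1, 0, 2, 1], [2, 2, 0, 0, 0, 1, 1, 2, 0], [0, 1, 1, 1, 0, 0, 0, 2, 2], [1, 0, 2, 0, 0, 2, 0, 1, 0], [1, 0, 0, 2, 0, 2, 0, 1, 0], [0, 2, 0, 0, 1, 0, 2, 0, 1]]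
    [[2, 1, 0, 2, 1, 0, 2, 2, 0], [2, 0, 0, 1, 0, 0, 2, 2, 2], [1, 2, 1, 0, 0, 2, 2, 1, 2], [0, 2, 1, 0, 0, 1, 2, 2, 1], [0, 0, 0, 2, 2, 2, 0, 2, 1], [0, 1, 0, 0, 2, 0, 0, 2, 0], [1, 0, 1, 1, 0, 2, 2, 0, 2], [0, 1, 0, 2, 2, 1, 2, 1, 2], [2, 1, 1, 2, 1, 2, 0, 2, 1]]
    [10568, 8418] (by decide +kernel)

theorem a174 : Ok 14399 37778931864503350003266 :=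
  ok_of [[2, 0, 1, 0, 1, 0, 1, 0, 0], [2, 2, 1, 2, 0, 0, 1, 1, 1], [1, 2, 0, 2, 2, 2, 0, 1, 0], [2, 2, 1, 1, 0, 0, 2, 1, 1], [0, 2, 2, 1, 1, 2, 0, 2, 1], [2, 2, 0, 2, 0, 0, 0, 0, 2], [1, 1, 0, 0, 0, 1, 1, 0, 1], [0, 2, 0, 1, 1, 1, 0, 0, 1], [0, 2, 2, 1, 0, 2, 2, 2, 2]]
    [[0, 0, 1, 0, 0, 1, 0, 1, 0], [1, 0, 2, 1, 2, 1, 1, 0, 2], [2, 2, 0, 0, 0, 0, 0, 2, 1], [0, 2, 2, 0, 2, 2, 1, 0, 1], [0, 0, 0, 0, 0, 1, 0, 1, 0], [2, 0, 0, 2, 1, 1, 0, 1, 2], [2, 0, 1, 0, 1, 2, 2, 1, 1], [2, 2, 1, 0, 0, 1, 0, 2, 1], [1, 2, 0, 0, 0, 2, 0, 0, 0]]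
    [16015, 12139, 11124] (by decide +kernel)

theorem a175 : Ok 179 37778931865276444115736 :=
  ok_of [[1, 2, 1, 1, 2, 2, 0, 1, 2], [1, 1, 2, 2, 0, 1, 1, 1, 0], [2, 1, 0, 1, 1, 0, 2, 1, 1], [1, 1, 2, 0, 2, 1, 1, 0, 0], [0, 2, 1, 0, 1, 0, 1, 0, 0], [1, 2, 0, 0, 0, 1, 2, 1, 2], [2, 0, 1, 2, 1, 2, 2, 1, 0], [2, 2, 2, 1, 1, 1, 1, 0, 2], [1, 1, 1, 2, 0, 1, 0, 1, 2]]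
    [[0, 0, 2, 0, 2, 2, 2, 0, 1], [1, 2, 1, 1, 2, 0, 1, 1, 2], [1, 1, 0, 0, 2, 0, 2, 0, 2], [2, 0, 0, 2, 0, 1, 1, 0, 0], [0, 2, 2, 1, 2, 2, 2, 2, 1], [2, 0, 1, 0, 0, 0, 1, 1, 1], [1, 2, 1, 2, 2, 0, 0, 1, 2], [1, 2, 2, 0, 0, 2, 1, 1, 0], [0, 1, 0, 0, 1, 0, 0, 0, 1]]
    [1276, 2821] (by decide +kernel)

theorem a176 : Ok 14399 37778931865276444116546 :=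
  ok_of [[2, 2, 0, 1, 0, 1, 0, 0, 2], [2, 0, 0, 0, 2, 2, 1, 0, 2], [1, 2, 1, 1, 1, 1, 2, 0, 2], [2, 0, 0, 1, 1, 1, 0, 1, 2], [1, 2, 0, 0, 1, 0, 2, 1, 1], [1, 2, 2, 0, 0, 0, 2, 1, 2], [0, 0, 1, 0, 1, 2, 1, 2, 2], [0, 0, 1, 1, 0, 0, 0, 1, 1], [1, 1, 2, 1, 1, 0, 2, 0, 1]]
    [[2, 1, 2, 0, 1, 2, 0, 2, 1], [0, 1, 0, 1, 1, 2, 2, 1, 1], [0, 0, 0, 1, 2, 0, 0, 1, 0], [0, 2, 0, 0, 2, 0, 1, 1, 2], [0, 1, 0, 2, 2, 1, 1, 2, 2], [2, 0, 1, 2, 1, 1, 0, 0, 0], [0, 0, 0, 0, 1, 2, 2, 1, 1], [0, 2, 2, 0, 2, 2, 0, 1, 2], [0, 1, 0, 1, 0, 0, 0, 2, 2]]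
    [18567, 12040] (by decide +kernel)

theorem a177 : Ok 223 38069476949391602942402 :=
  ok_of [[2, 0, 2, 0, 1, 0, 1, 0, 0], [0, 0, 0, 2, 2, 0, 2, 0, 0], [1, 2, 2, 2, 1, 1, 1, 0, 1], [2, 1, 2, 0, 2, 1, 1, 0, 1], [1, 1, 1, 1, 1, 2, 1, 0, 2], [1, 0, 1, 2, 1, 0, 1, 2, 1], [1, 1, 1, 1, 1, 2, 2, 0, 2], [1, 2, 2, 2, 1, 0, 1, 1, 1], [2, 2, 2, 2, 0, 1, 0, 0, 0]]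
    [[0, 2, 1, 1, 1, 2, 0, 0, 0], [1, 1, 2, 2, 1, 2, 1, 2, 0], [1, 1, 1, 1, 2, 1, 0, 1, 1], [2, 2, 2, 2, 0, 1, 2, 1, 1], [2, 0, 0, 2, 0, 0, 1, 1, 1], [1, 0, 2, 1, 1, 2, 2, 0, 1], [1, 1, 0, 1, 1, 1, 2, 1, 1], [0, 0, 2, 1, 2, 2, 2, 2, 1], [2, 2, 2, 1, 0, 2, 0, 0, 1]]
    [2292, 10943] (by decide +kernel)

theorem a178 : Ok 223 38069476949391602942654 :=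
  ok_of [[2, 0, 1, 2, 2, 1, 2, 0, 1], [2, 1, 0, 2, 1, 1, 0, 0, 0], [0, 1, 2, 1, 1, 2, 0, 1, 1], [0, 1, 0, 2, 0, 1, 2, 0, 0], [2, 2, 0, 0, 0, 0, 0, 2, 1], [0, 0, 2, 0, 1, 1, 0, 2, 1], [2, 0, 1, 1, 2, 0, 2, 0, 1], [1, 1, 1, 0, 1, 0, 0, 1, 2], [0, 1, 1, 0, 2, 0, 0, 1, 1]]
    [[0, 0, 2, 1, 1, 0, 1, 1, 0], [1, 0, 0, 1, 0, 1, 1, 0, 0], [2, 1, 0, 2, 0, 2, 1, 2, 1], [2, 2, 1, 0, 2, 1, 0, 1, 0], [1, 2, 2, 1, 2, 1, 1, 0, 0], [1, 0, 2, 2, 2, 2, 2, 2, 0], [2, 2, 0, 1, 0, 0, 0, 1, 2], [1, 1, 0, 0, 1, 2, 0, 1, 0], [2, 2, 2, 0, 2, 1, 0, 0, 1]]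
    [6157, 10157] (by decide +kernel)

theorem a179 : Ok 215 38027985708237103628882 :=
  ok_of [[2, 2, 2, 1, 2, 2, 0, 1, 1], [0, 1, 2, 2, 0, 0, 0, 0, 2], [1, 0, 0, 0, 2, 2, 1, 0, 1], [1, 1, 0, 0, 1, 0, 2, 0, 1], [1, 1, 0, 0, 2, 0, 0, 0, 1], [2, 2, 2, 1, 1, 2, 1, 2, 2], [0, 0, 0, 1, 1, 2, 2, 1, 2], [1, 0, 1, 1, 2, 0, 1, 0, 2], [0, 2, 2, 0, 0, 0, 2, 0, 1]]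
    [[0, 2, 0, 0, 1, 0, 2, 2, 1], [0, 2, 0, 1, 0, 1, 1, 1, 2], [1, 0, 2, 1, 2, 1, 1, 0, 1], [1, 0, 2, 1, 2, 1, 2, 0, 2], [2, 0, 1, 2, 2, 1, 0, 1, 2], [1, 2, 1, 1, 1, 0, 2, 0, 0], [0, 0, 2, 0, 1, 0, 2, 2, 1], [1, 0, 1, 0, 0, 1, 1, 1, 2], [0, 1, 1, 0, 0, 2, 0, 1, 2]]
    [18796, 2308] (by decide +kernel)

theorem a180 : Ok 2591 38152478431145570140754 :=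
  ok_of [[0, 1, 2, 2, 0, 1, 2, 1, 0], [0, 1, 1, 1, 2, 0, 1, 0, 2], [1, 0, 1, 0, 1, 1, 0, 1, 2], [0, 1, 0, 0, 1, 0, 2, 0, 0], [1, 2, 2, 0, 0, 0, 2, 1, 1], [1, 1, 0, 0, 0, 2, 2, 0, 2], [2, 0, 2, 2, 0, 1, 2, 0, 2], [0, 0, 2, 1, 2, 1, 2, 1, 0], [2, 0, 0, 2, 2, 1, 1, 0, 0]]
    [[0, 0, 1, 1, 1, 0, 2, 0, 2], [2, 0, 1, 0, 2, 2, 1, 0, 2], [0, 0, 1, 0, 0, 0, 2, 2, 2], [1, 1, 1, 0, 1, 0, 1, 0, 1], [0, 2, 0, 2, 2, 0, 0, 2, 0], [2, 1, 1, 0, 2, 1, 1, 0, 2], [0, 2, 1, 1, 0, 2, 0, 2, 2], [0, 1, 1, 0, 0, 2, 0, 0, 0], [0, 1, 0, 0, 0, 1, 2, 0, 1]]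
    [6531, 6635, 18030] (by decide +kernel)

end Cfsg.Agent.H651.O9
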