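import Cfsg.Agent.H651.O9.Rep

/-!
# Classes of the orthogonal group in dimension 9 over the field with three elements, part 9 (helper651)
-/

set_option autoImplicit false
set_option exponentiation.threshold 30000
set_option maxRecDepth 100000

namespace Cfsg.Agent.H651.O9

theorem a181 : Ok 15551 37778931863652951721826 :=
  ok_of [[2, 2, 0, 2, 0, 1, 1, 0, 1], [0, 1, 0, 0, 1, 1, 1, 0, 1], [2, 2, 2, 2, 2, 1, 0, 0, 1], [0, 1, 0, 2, 0, 2, 0, 1, 0], [1, 0, 1, 2, 2, 0, 2, 1, 2], [1, 2, 1, 1, 2, 1, 2, 1, 1], [1, 2, 2, 1, 0, 0, 1, 2, 0], [2, 0, 0, 0, 0, 2, 1, 1, 1], [0, 2, 1, 0, 2, 0, 0, 0, 1]]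
    [[1, 1, 2, 0, 0, 0, 1, 2, 0], [1, 2, 2, 1, 2, 2, 2, 1, 1], [2, 2, 2, 1, 1, 0, 0, 0, 0], [2, 1, 2, 1, 0, 0, 2, 0, 1], [2, 0, 2, 2, 0, 2, 0, 0, 1], [1, 1, 0, 1, 1, 0, 1, 0, 1], [2, 2, 2, 1, 2, 0, 2, 2, 1], [1, 0, 1, 1, 2, 1, 2, 2, 1], [0, 1, 2, 1, 2, 0, 0, 0, 0]]
    [13990, 14295] (by decide +kernel)

theorem a182 : Ok 186623 37778931864000886538834 :=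
  ok_of [[1, 1, 0, 0, 1, 0, 1, 2, 0], [2, 1, 0, 2, 2, 2, 0, 2, 0], [0, 1, 1, 0, 2, 2, 0, 0, 1], [0, 0, 1, 1, 1, 2, 2, 0, 0], [1, 0, 2, 2, 2, 1, 2, 0, 0], [0, 0, 1, 1, 0, 2, 0, 1, 1], [2, 2, 0, 2, 1, 0, 2, 1, 0], [1, 1, 1, 2, 2, 1, 2, 2, 0], [2, 0, 0, 0, 0, 0, 2, 0, 1]]
    [[1, 1, 2, 0, 1, 2, 2, 2, 2], [0, 1, 1, 0, 0, 0, 1, 1, 1], [0, 0, 2, 1, 0, 0, 2, 1, 2], [0, 1, 2, 2, 2, 1, 1, 1, 2], [2, 1, 0, 2, 2, 0, 2, 1, 2], [0, 2, 2, 1, 2, 0, 2, 1, 2], [0, 1, 2, 2, 1, 0, 2, 0, 2], [2, 1, 2, 1, 0, 1, 1, 0, 2], [0, 1, 1, 0, 1, 0, 1, 2, 0]]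
    [11386, 9577, 11432] (by decide +kernel)

theorem a183 : Ok 104509439 37778931862957591695746 :=
  ok_of [[0, 1, 0, 1, 2, 1, 2, 2, 0], [1, 1, 0, 0, 2, 1, 2, 2, 2], [2, 0, 1, 1, 1, 2, 1, 1, 2], [2, 1, 1, 1, 1, 1, 1, 2, 0], [0, 1, 0, 2, 1, 1, 0, 0, 1], [0, 2, 1, 1, 1, 0, 0, 2, 1], [0, 2, 0, 1, 0, 1, 1, 1, 2], [0, 2, 1, 1, 2, 1, 1, 1, 1], [2, 2, 1, 2, 0, 1, 0, 2, 1]]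
    [[0, 2, 1, 1, 2, 1, 1, 1, 2], [1, 0, 2, 0, 1, 0, 2, 2, 2], [2, 0, 1, 2, 0, 0, 2, 1, 1], [0, 2, 2, 0, 0, 1, 2, 2, 2], [2, 2, 2, 0, 0, 2, 0, 0, 1], [2, 2, 2, 1, 2, 1, 2, 1, 2], [0, 0, 2, 2, 1, 1, 1, 1, 0], [2, 1, 1, 2, 2, 2, 1, 2, 1], [2, 1, 2, 1, 2, 2, 2, 0, 0]]
    [14564, 6227, 7629, 16790] (by decide +kernel)

theorem a184 : Ok 163 38062559209238401384694 :=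
  ok_of [[0, 2, 2, 1, 2, 2, 0, 0, 0], [0, 2, 0, 1, 0, 1, 0, 1, 0], [0, 0, 1, 0, 1, 0, 1, 1, 1], [1, 1, 2, 1, 0, 0, 2, 2, 2], [2, 0, 1, 1, 1, 0, 0, 1, 1], [0, 0, 2, 0, 1, 1, 0, 1, 1], [1, 0, 0, 1, 2, 2, 2, 0, 1], [1, 2, 2, 2, 1, 1, 1, 0, 2], [2, 1, 1, 0, 0, 2, 1, 0, 0]]
    [[1, 1, 0, 0, 2, 0, 0, 2, 1], [1, 1, 2, 2, 1, 1, 2, 2, 2], [0, 1, 1, 0, 1, 1, 1, 0, 1], [1, 1, 2, 0, 0, 0, 0, 2, 1], [0, 2, 2, 2, 1, 2, 0, 1, 0], [1, 1, 2, 2, 2, 2, 0, 2, 0], [2, 2, 0, 1, 0, 1, 2, 0, 2], [1, 0, 2, 2, 2, 2, 2, 2, 0], [0, 1, 0, 0, 2, 0, 2, 0, 1]]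
    [8587, 8470] (by decide +kernel)

theorem a185 : Ok 163 38062550553882867532022 :=
  ok_of [[2, 1, 1, 1, 0, 1, 0, 2, 0], [1, 1, 2, 0, 0, 2, 1, 2, 0], [2, 1, 1, 0, 0, 2, 2, 2, 0], [2, 1, 1, 0, 2, 2, 1, 0, 0], [1, 2, 0, 0, 1, 2, 0, 1, 1], [1, 2, 0, 0, 1, 2, 0, 1, 2], [1, 1, 1, 0, 0, 2, 1, 2, 0], [0, 1, 0, 2, 1, 1, 2, 1, 0], [1, 1, 0, 0, 2, 0, 2, 2, 0]]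
    [[2, 1, 0, 0, 2, 2, 0, 0, 0], [1, 1, 1, 1, 1, 1, 1, 1, 1], [1, 0, 2, 1, 1, 0, 2, 2, 0], [0, 2, 0, 1, 0, 1, 2, 2, 1], [2, 0, 1, 0, 1, 1, 0, 2, 2], [2, 0, 1, 0, 2, 0, 1, 0, 0], [2, 2, 1, 0, 2, 1, 1, 0, 0], [0, 1, 0, 0, 1, 1, 0, 2, 1], [0, 0, 2, 1, 0, 0, 2, 2, 2]]
    [1621] (by decide +kernel)

theorem a186 : Ok 163 38346177899371685741282 :=
  ok_of [[1, 1, 1, 2, 2, 0, 1, 1, 1], [0, 2, 0, 0, 1, 2, 2, 1, 1], [2, 0, 2, 0, 1, 0, 0, 0, 0], [1, 1, 2, 2, 0, 1, 1, 1, 0], [2, 0, 1, 0, 0, 0, 2, 0, 0], [2, 2, 1, 2, 0, 1, 0, 2, 0], [1, 1, 2, 1, 2, 2, 2, 0, 2], [0, 2, 2, 1, 1, 0, 1, 2, 2], [0, 2, 0, 1, 2, 0, 1, 2, 0]]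
    [[1, 0, 0, 0, 1, 2, 2, 1, 1], [1, 0, 2, 0, 0, 0, 1, 0, 0], [2, 0, 0, 1, 2, 2, 0, 1, 1], [1, 0, 0, 0, 1, 1, 2, 0, 1], [0, 1, 0, 1, 0, 2, 0, 0, 0], [0, 2, 1, 1, 0, 1, 0, 2, 2], [0, 2, 2, 1, 2, 0, 1, 2, 1], [2, 1, 0, 0, 2, 0, 1, 2, 2], [0, 1, 0, 2, 0, 1, 0, 1, 2]]
    [14526, 5279] (by decide +kernel)

theorem a187 : Ok 163 37778940519105117029090 :=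
  ok_of [[0, 0, 1, 1, 2, 0, 2, 1, 0], [0, 1, 1, 1, 0, 1, 0, 0, 1], [2, 1, 2, 0, 0, 0, 2, 1, 2], [1, 2, 2, 1, 1, 1, 2, 1, 1], [1, 2, 2, 0, 2, 1, 2, 0, 1], [1, 1, 1, 1, 2, 1, 2, 0, 1], [1, 0, 0, 2, 2, 1, 1, 2, 1], [1, 0, 1, 0, 1, 0, 2, 0, 0], [1, 2, 2, 1, 0, 1, 2, 1, 2]]
    [[0, 1, 2, 2, 1, 1, 2, 2, 0], [2, 2, 1, 1, 0, 1, 2, 1, 1], [0, 1, 2, 2, 1, 2, 2, 0, 0], [2, 0, 0, 0, 1, 1, 0, 1, 2], [0, 2, 2, 0, 0, 2, 0, 0, 0], [1, 0, 1, 2, 2, 2, 1, 1, 2], [2, 1, 2, 1, 0, 0, 0, 2, 2], [2, 2, 0, 1, 0, 0, 0, 1, 1], [2, 2, 2, 0, 1, 2, 2, 1, 0]]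
    [174, 1794] (by decide +kernel)

theorem a188 : Ok 163 38062567864593935237366 :=
  ok_of [[1, 0, 1, 2, 1, 0, 2, 1, 1], [0, 0, 1, 0, 2, 0, 1, 1, 2], [2, 1, 1, 1, 0, 0, 2, 0, 0], [2, 0, 0, 1, 0, 1, 2, 2, 1], [1, 1, 0, 2, 1, 2, 2, 2, 1], [2, 1, 0, 2, 1, 2, 2, 0, 2], [2, 0, 1, 1, 2, 1, 1, 1, 2], [0, 1, 0, 1, 2, 2, 0, 0, 2], [0, 2, 1, 0, 1, 0, 1, 2, 0]]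
    [[1, 2, 0, 2, 0, 2, 2, 2, 0], [1, 2, 1, 1, 0, 0, 1, 1, 2], [2, 2, 2, 2, 1, 2, 0, 0, 1], [2, 2, 2, 1, 1, 0, 0, 0, 0], [2, 1, 2, 0, 0, 1, 2, 1, 1], [2, 1, 0, 0, 2, 0, 1, 2, 2], [1, 0, 0, 0, 2, 1, 2, 1, 2], [1, 0, 1, 1, 0, 1, 1, 0, 2], [1, 0, 1, 2, 2, 2, 0, 2, 1]]
    [18805, 1615] (by decide +kernel)

theorem a189 : Ok 159 37889615705717614838000 :=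
  ok_of [[1, 1, 2, 1, 1, 0, 0, 0, 0], [1, 2, 1, 2, 1, 2, 0, 0, 0], [0, 0, 2, 2, 0, 0, 1, 0, 2], [2, 0, 2, 2, 2, 1, 0, 2, 0], [2, 1, 0, 0, 2, 0, 1, 2, 2], [2, 2, 1, 2, 1, 0, 2, 0, 0], [1, 1, 0, 1, 0, 2, 2, 1, 0], [1, 0, 0, 0, 1, 2, 2, 1, 1], [0, 2, 0, 0, 0, 1, 0, 2, 2]]
    [[1, 1, 0, 0, 1, 2, 2, 2, 1], [0, 0, 2, 1, 2, 2, 0, 2, 0], [1, 0, 0, 1, 1, 1, 0, 0, 2], [0, 1, 2, 1, 0, 0, 1, 2, 2], [0, 1, 2, 2, 2, 0, 1, 0, 2], [0, 1, 0, 1, 1, 0, 1, 1, 2], [1, 2, 2, 1, 0, 0, 1, 0, 1], [0, 0, 2, 1, 1, 1, 2, 2, 1], [0, 1, 1, 2, 1, 1, 0, 2, 1]]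
    [14711] (by decide +kernel)

theorem a190 : Ok 207 38138654350672356442424 :=
  ok_of [[1, 2, 0, 2, 2, 0, 1, 2, 1], [1, 0, 2, 0, 0, 0, 2, 2, 1], [0, 2, 1, 2, 1, 2, 1, 2, 0], [1, 1, 0, 2, 1, 2, 0, 2, 0], [2, 2, 2, 1, 2, 1, 1, 2, 2], [2, 1, 2, 0, 0, 0, 1, 2, 2], [2, 0, 0, 0, 1, 0, 1, 1, 2], [1, 2, 1, 1, 0, 2, 1, 0, 0], [2, 1, 1, 2, 2, 2, 2, 0, 0]]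
    [[1, 0, 2, 0, 0, 0, 2, 2, 1], [2, 2, 1, 2, 1, 1, 0, 1, 2], [1, 1, 0, 1, 0, 1, 1, 0, 1], [2, 0, 0, 2, 2, 0, 1, 0, 0], [1, 1, 1, 2, 1, 0, 0, 2, 0], [1, 2, 1, 2, 2, 1, 1, 1, 2], [1, 1, 0, 1, 2, 0, 0, 1, 1], [2, 2, 2, 1, 2, 2, 2, 0, 1], [1, 2, 0, 2, 0, 0, 2, 2, 1]]
    [7422] (by decide +kernel)

theorem a191 : Ok 207 37958798595199921554110 :=
  ok_of [[1, 2, 1, 0, 1, 0, 1, 2, 1], [0, 1, 1, 1, 0, 1, 0, 0, 1], [2, 0, 1, 1, 0, 0, 0, 2, 2], [2, 1, 1, 2, 0, 0, 0, 1, 1], [1, 0, 2, 1, 2, 2, 0, 1, 0], [0, 1, 1, 1, 0, 0, 0, 0, 1], [0, 1, 1, 1, 0, 1, 0, 2, 1], [0, 1, 2, 1, 0, 1, 2, 2, 0], [2, 0, 0, 2, 0, 1, 0, 0, 2]]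
    [[1, 1, 0, 2, 1, 2, 0, 0, 0], [2, 0, 1, 1, 0, 0, 1, 0, 1], [1, 0, 1, 2, 2, 2, 1, 1, 2], [1, 1, 0, 2, 2, 0, 0, 1, 1], [2, 2, 2, 0, 1, 2, 1, 1, 2], [0, 0, 0, 1, 0, 0, 0, 2, 0], [1, 1, 1, 0, 2, 1, 1, 1, 2], [0, 1, 1, 1, 0, 0, 1, 0, 2], [0, 1, 2, 0, 2, 0, 2, 0, 2]]
    [2941, 8356] (by decide +kernel)

theorem a192 : Ok 239 38332346852489440526696 :=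
  ok_of [[1, 2, 1, 2, 0, 2, 0, 1, 1], [1, 2, 1, 1, 2, 1, 2, 2, 0], [2, 2, 2, 1, 0, 2, 2, 2, 2], [0, 0, 2, 0, 1, 1, 2, 0, 1], [0, 0, 2, 2, 0, 0, 1, 0, 2], [2, 0, 1, 1, 0, 1, 0, 2, 2], [1, 0, 0, 2, 1, 0, 0, 2, 0], [0, 2, 1, 0, 1, 0, 0, 1, 0], [1, 1, 1, 2, 1, 1, 1, 2, 2]]
    [[0, 2, 0, 2, 0, 1, 2, 0, 0], [0, 1, 0, 0, 1, 1, 1, 0, 2], [0, 1, 0, 0, 0, 0, 0, 0, 0], [1, 2, 2, 0, 2, 2, 2, 2, 1], [0, 1, 1, 2, 0, 1, 2, 2, 0], [0, 0, 1, 2, 2, 0, 1, 1, 0], [0, 1, 0, 2, 1, 2, 2, 1, 1], [0, 0, 2, 0, 1, 0, 0, 2, 0], [0, 1, 1, 2, 2, 1, 2, 1, 1]]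
    [5930, 14737] (by decide +kernel)

theorem a193 : Ok 1919 38332334186231452663808 :=
  ok_of [[0, 0, 1, 1, 2, 2, 2, 2, 0], [1, 1, 0, 1, 0, 1, 0, 2, 2], [2, 2, 1, 1, 0, 2, 1, 2, 1], [2, 0, 2, 1, 0, 1, 1, 1, 0], [2, 2, 2, 1, 0, 2, 2, 2, 1], [0, 0, 1, 1, 0, 2, 0, 0, 1], [2, 1, 0, 0, 1, 2, 0, 0, 1], [0, 1, 1, 1, 1, 1, 1, 2, 2], [2, 2, 2, 0, 1, 2, 2, 0, 2]]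
    [[0, 2, 2, 1, 1, 0, 2, 1, 1], [1, 2, 2, 1, 1, 1, 2, 1, 2], [2, 1, 0, 1, 2, 0, 1, 1, 0], [0, 0, 0, 2, 1, 2, 2, 1, 2], [2, 2, 0, 1, 2, 1, 2, 2, 2], [2, 0, 0, 2, 2, 0, 2, 2, 1], [1, 2, 0, 1, 0, 2, 1, 2, 1], [2, 0, 1, 2, 1, 2, 2, 0, 2], [0, 1, 2, 1, 1, 1, 0, 0, 1]]
    [3582, 8710] (by decide +kernel)

end Cfsg.Agent.H651.O9
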