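import Mathlib.LinearAlgebra.GeneralLinearGroup.Basic
import Mathlib.Data.ZMod.Basic
import Mathlib.Algebra.Module.Equiv.Basic

/-!
# The orthogonal group in dimension 9 over the field with three elements (helper651)

`B` is the symmetric bilinear form with four hyperbolic planes and a vector of norm one, `OB` its isometry group.
-/

set_option autoImplicit false

namespace Cfsg.Agent.H651.O9

/-- the space -/
abbrev V : Type := Fin 9 → ZMod 3

/-- the form -/
def B (x y : V) : ZMod 3 :=
  x 0 * y 1 + x 1 * y 0 + x 2 * y 3 + x 3 * y 2 + x 4 * y 5 + x 5 * y 4 + x 6 * y 7 + x 7 * y 6 + x 8 * y 8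

/-- the isometry group -/
def OB : Subgroup (V ≃ₗ[ZMod 3] V) where
  carrier := {a | ∀ x y, B (a x) (a y) = B x y}
  mul_mem' := by
    intro a b ha hb x y
    rw [LinearEquiv.mul_apply, LinearEquiv.mul_apply, ha, hb]
  one_mem' := fun x y => rfl
  inv_mem' := by
    intro a ha x y
    have h := ha (a⁻¹ x) (a⁻¹ y)
    have e : ∀ z, a (a⁻¹ z) = z := fun z => LinearEquiv.apply_symm_apply a z
    rw [e, e] at h
    exact h.symm

theorem mem_OB {a : V ≃ₗ[ZMod 3] V} : a ∈ OB ↔ ∀ x y, B (a x) (a y) = B x y := Iff.rfl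

end Cfsg.Agent.H651.O9
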