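import Cfsg.Agent.H651.O9.Defs
import Cfsg.Agent.H123.Cls.Pop
import Cfsg.Agent.H123.Cls.Cover
import Mathlib.Algebra.BigOperators.Fin
import Mathlib.Tactic.LinearCombination

/-!
# Functions on `F_3 ^ 9` as pairs of bit masks (helper651)

A function `V → ZMod 3` is given by two masks with `3 ^ 9` bits: the vectors with value `1` and the vectors with value `2`.
-/

set_option autoImplicit false
set_option exponentiation.threshold 30000

namespace Cfsg.Agent.H651.O9

open Cfsg.Agent.H123.Cls (cnd cnd_true cnd_false band band_eq fB fB_eq allN allN_iff)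
open Cfsg.Agent.Lib.BitNetSimple (force force_eq tb tb_eq)

/-! ### the index of a vector -/

/-- the bijection -/
def E : V ≃ Fin (3 ^ 9) := finFunctionFinEquiv

/-- the index -/
def ix (w : V) : ℕ := (E w : ℕ)

theorem ix_lt (w : V) : ix w < 19683 := (E w).2

theorem ix_inj {w w' : V} (h : ix w = ix w') : w = w' := E.injective (Fin.ext h)

/-- the vector with index `e` -/
def vec (e : ℕ) : V := E.symm ⟨e % 3 ^ 9, Nat.mod_lt _ (by norm_num)⟩

theorem ix_vec {e : ℕ} (h : e < 19683) : ix (vec e) = e := by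
  rw [ix, vec, Equiv.apply_symm_apply]
  exact Nat.mod_eq_of_lt h

theorem vec_ix (w : V) : vec (ix w) = w := ix_inj (ix_vec (ix_lt w))

theorem digit (w : V) (i : Fin 9) : ix w / 3 ^ (i : ℕ) % 3 = (w i).val := by
  have h : E.symm (E w) i = w i := by rw [Equiv.symm_apply_apply]
  have h2 : ((E.symm (E w) i : ZMod 3) : ZMod 3).val = (E w : ℕ) / 3 ^ (i : ℕ) % 3 := rfl
  rw [← h, h2]
  rfl

theorem vec_digit {e : ℕ} (h : e < 19683) (i : Fin 9) : ((vec e) i).val = e / 3 ^ (i : ℕ) % 3 := by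
  rw [← digit, ix_vec h]

theorem ix_zero : ix 0 = 0 := by
  have h : vec 0 = 0 := by
    funext i
    have h1 := vec_digit (e := 0) (by norm_num) i
    rw [Nat.zero_div, Nat.zero_mod] at h1
    exact (ZMod.val_eq_zero _).1 h1
  rw [← h]
  exact ix_vec (by norm_num)

/-! ### masks -/

/-- the masks describe the function -/
def Rf (p : ℕ × ℕ) (f : V → ZMod 3) : Prop :=
  ∀ w, p.1.testBit (ix w) = decide (f w = 1) ∧ p.2.testBit (ix w) = decide (f w = 2)

theorem Rf.congr {p : ℕ × ℕ} {f g : V → ZMod 3} (h : Rf p f) (e : ∀ w, f w = g w) : Rf p g := by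
  intro w
  rw [← e w]
  exact h w

theorem Rf.ext {p : ℕ × ℕ} {f g : V → ZMod 3} (hf : Rf p f) (hg : Rf p g) (w : V) : f w = g w := by
  have h1 := (hf w).1.symm.trans (hg w).1
  have h2 := (hf w).2.symm.trans (hg w).2
  generalize f w = a at *
  generalize g w = b at *
  revert h1 h2
  revert a b
  decide

theorem rf_zero : Rf (0, 0) (fun _ => 0) := by
  intro w
  have k1 : false = decide ((0 : ZMod 3) = 1) := by decide
  have k2 : false = decide ((0 : ZMod 3) = 2) := by decide
  exact ⟨(Nat.zero_testBit _).trans k1, (Nat.zero_testBit _).trans k2⟩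

theorem key_add : ∀ a b : ZMod 3,
    ((decide (a = 2) || decide (b = 2)) ^^
          ((decide (a = 1) || decide (b = 2)) ^^ (decide (b = 1) || decide (a = 2)))) =
        decide (a + b = 1) ∧
      ((decide (a = 1) || decide (b = 1)) ^^
          ((decide (a = 1) || decide (b = 2)) ^^ (decide (b = 1) || decide (a = 2)))) =
        decide (a + b = 2) := by decide

theorem key_mul : ∀ a b : ZMod 3,
    (decide (a = 1) && decide (b = 1) || decide (a = 2) && decide (b = 2)) = decide (a * b = 1) ∧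
      (decide (a = 1) && decide (b = 2) || decide (a = 2) && decide (b = 1)) = decide (a * b = 2) := by decide

theorem key_neg : ∀ a : ZMod 3, decide (a = 2) = decide (2 * a = 1) ∧ decide (a = 1) = decide (2 * a = 2) := by
  decide

/-- addition -/
def addM (p q : ℕ × ℕ) : ℕ × ℕ :=
  ((p.2 ||| q.2) ^^^ ((p.1 ||| q.2) ^^^ (q.1 ||| p.2)), (p.1 ||| q.1) ^^^ ((p.1 ||| q.2) ^^^ (q.1 ||| p.2)))

theorem Rf.add {p q : ℕ × ℕ} {f g : V → ZMod 3} (hf : Rf p f) (hg : Rf q g) : Rf (addM p q) (fun w => f w + g w) := by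
  intro w
  obtain ⟨h1, h2⟩ := hf w
  obtain ⟨h3, h4⟩ := hg w
  simp only [addM, Nat.testBit_or, Nat.testBit_xor, h1, h2, h3, h4]
  exact key_add _ _

/-- multiplication -/
def mulM (p q : ℕ × ℕ) : ℕ × ℕ := ((p.1 &&& q.1) ||| (p.2 &&& q.2), (p.1 &&& q.2) ||| (p.2 &&& q.1))

theorem Rf.mul {p q : ℕ × ℕ} {f g : V → ZMod 3} (hf : Rf p f) (hg : Rf q g) : Rf (mulM p q) (fun w => f w * g w) := by
  intro w
  obtain ⟨h1, h2⟩ := hf w
  obtain ⟨h3, h4⟩ := hg w
  simp only [mulM, Nat.testBit_or, Nat.testBit_and, h1, h2, h3, h4]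
  exact key_mul _ _

theorem Rf.neg {p : ℕ × ℕ} {f : V → ZMod 3} (hf : Rf p f) : Rf (p.2, p.1) (fun w => 2 * f w) := by
  intro w
  obtain ⟨h1, h2⟩ := hf w
  simp only [h1, h2]
  exact key_neg _

/-- strict addition -/
noncomputable def addF {α : Type} (a b c d : ℕ) (κ : ℕ → ℕ → α) : α :=
  fB (Nat.xor (Nat.lor a d) (Nat.lor c b)) fun t => fB (Nat.xor (Nat.lor b d) t) fun r =>
    fB (Nat.xor (Nat.lor a c) t) fun s => κ r s

theorem addF_eq {α : Type} (p q : ℕ × ℕ) (κ : ℕ → ℕ → α) :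
    addF p.1 p.2 q.1 q.2 κ = κ (addM p q).1 (addM p q).2 := by
  rw [addF, fB_eq, fB_eq, fB_eq]
  rfl

/-- strict multiplication -/
noncomputable def mulF {α : Type} (a b c d : ℕ) (κ : ℕ → ℕ → α) : α :=
  fB (Nat.lor (Nat.land a c) (Nat.land b d)) fun r => fB (Nat.lor (Nat.land a d) (Nat.land b c)) fun s => κ r s

theorem mulF_eq {α : Type} (p q : ℕ × ℕ) (κ : ℕ → ℕ → α) :
    mulF p.1 p.2 q.1 q.2 κ = κ (mulM p q).1 (mulM p q).2 := by
  rw [mulF, fB_eq, fB_eq]
  rfl

/-- the coefficient given by a digit -/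
def cz (c : ℕ) : ZMod 3 := bif Nat.beq c 0 then 0 else bif Nat.beq c 1 then 1 else 2

/-- linear combinations -/
def lc : List ℕ → List (ℕ × ℕ) → ℕ × ℕ → ℕ × ℕ
  | c :: cs, f :: fs, a => lc cs fs (bif Nat.beq c 0 then a else bif Nat.beq c 1 then addM a f else addM a (f.2, f.1))
  | _, _, a => a

/-- strict version -/
noncomputable def lcF {α : Type} (cs : List ℕ) : List (ℕ × ℕ) → ℕ → ℕ → (ℕ → ℕ → α) → α :=
  List.rec (fun _ a b κ => κ a b) (fun c _ ih fs => List.rec (fun a b κ => κ a b) (fun f fs' _ a b κ =>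
    cnd (Nat.beq c 0) (ih fs' a b κ) (cnd (Nat.beq c 1) (addF a b f.1 f.2 fun r s => ih fs' r s κ)
      (addF a b f.2 f.1 fun r s => ih fs' r s κ))) fs) cs

theorem lcF_eq {α : Type} : ∀ (cs : List ℕ) (fs : List (ℕ × ℕ)) (a : ℕ × ℕ) (κ : ℕ → ℕ → α),
    lcF cs fs a.1 a.2 κ = κ (lc cs fs a).1 (lc cs fs a).2
  | [], fs, a, κ => by
    have e : lc [] fs a = a := by cases fs <;> rfl
    rw [e]; rfl
  | c :: cs, [], a, κ => rfl
  | c :: cs, f :: fs, a, κ => by
    have e : lcF (c :: cs) (f :: fs) a.1 a.2 κ = cnd (Nat.beq c 0) (lcF cs fs a.1 a.2 κ)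
      (cnd (Nat.beq c 1) (addF a.1 a.2 f.1 f.2 fun r s => lcF cs fs r s κ)
        (addF a.1 a.2 f.2 f.1 fun r s => lcF cs fs r s κ)) := rfl
    rw [e, lc]
    cases Nat.beq c 0
    · rw [cnd_false, cond_false]
      cases Nat.beq c 1
      · rw [cnd_false, cond_false]
        have h := addF_eq a (f.2, f.1) (fun r s => lcF cs fs r s κ)
        rw [h, lcF_eq cs fs]
      · rw [cnd_true, cond_true]
        have h := addF_eq a f (fun r s => lcF cs fs r s κ)
        rw [h, lcF_eq cs fs]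
    · rw [cnd_true, cond_true, lcF_eq cs fs]

theorem rf_lc : ∀ (cs : List ℕ) (fs : List (ℕ × ℕ)) (φ : ℕ → V → ZMod 3) (a : ℕ × ℕ) (ψ : V → ZMod 3),
    (∀ i < fs.length, Rf (fs.getD i (0, 0)) (φ i)) → cs.length = fs.length → Rf a ψ →
    Rf (lc cs fs a) (fun w => ψ w + ∑ i ∈ Finset.range fs.length, cz (cs.getD i 0) * φ i w)
  | [], [], φ, a, ψ, _, _, ha => by
    have e : lc [] [] a = a := rfl
    rw [e]
    exact ha.congr fun w => by simp
  | [], _ :: _, _, _, _, _, h, _ => by simp at h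
  | _ :: _, [], _, _, _, _, h, _ => by simp at h
  | c :: cs, f :: fs, φ, a, ψ, hf, hl, ha => by
    have h0 : Rf f (φ 0) := hf 0 (by simp)
    have h1 : Rf (bif Nat.beq c 0 then a else bif Nat.beq c 1 then addM a f else addM a (f.2, f.1))
        (fun w => ψ w + cz c * φ 0 w) := by
      unfold cz
      cases Nat.beq c 0
      · cases Nat.beq c 1
        · exact (ha.add h0.neg)
        · exact (ha.add h0).congr fun w => by simp
      · exact ha.congr fun w => by simp
    have h2 := rf_lc cs fs (fun i => φ (i + 1)) _ _ (fun i hi => by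
      have := hf (i + 1) (by simpa using hi)
      rwa [List.getD_cons_succ] at this) (by simpa using hl) h1
    refine h2.congr fun w => ?_
    rw [List.length_cons, Finset.sum_range_succ']
    simp only [List.getD_cons_succ, List.getD_cons_zero]
    ring

/-- scalar products -/
def dt : List (ℕ × ℕ) → List (ℕ × ℕ) → ℕ × ℕ → ℕ × ℕ
  | f :: fs, g :: gs, a => dt fs gs (addM a (mulM f g))
  | _, _, a => a

/-- strict version -/
noncomputable def dtF {α : Type} (fs : List (ℕ × ℕ)) : List (ℕ × ℕ) → ℕ → ℕ → (ℕ → ℕ → α) → α :=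
  List.rec (fun _ a b κ => κ a b) (fun f _ ih gs => List.rec (fun a b κ => κ a b) (fun g gs' _ a b κ =>
    mulF f.1 f.2 g.1 g.2 fun x y => addF a b x y fun r s => ih gs' r s κ) gs) fs

theorem dtF_eq {α : Type} : ∀ (fs gs : List (ℕ × ℕ)) (a : ℕ × ℕ) (κ : ℕ → ℕ → α),
    dtF fs gs a.1 a.2 κ = κ (dt fs gs a).1 (dt fs gs a).2
  | [], gs, a, κ => by
    have e : dt [] gs a = a := by cases gs <;> rfl
    rw [e]; rfl
  | f :: fs, [], a, κ => rfl
  | f :: fs, g :: gs, a, κ => by
    have e : dtF (f :: fs) (g :: gs) a.1 a.2 κ = mulF f.1 f.2 g.1 g.2 (fun x y => addF a.1 a.2 x y fun r s =>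
      dtF fs gs r s κ) := rfl
    rw [e, dt, mulF_eq, addF_eq a (mulM f g), dtF_eq fs gs]

theorem rf_dt : ∀ (fs gs : List (ℕ × ℕ)) (φ χ : ℕ → V → ZMod 3) (a : ℕ × ℕ) (ψ : V → ZMod 3),
    (∀ i < fs.length, Rf (fs.getD i (0, 0)) (φ i)) → (∀ i < gs.length, Rf (gs.getD i (0, 0)) (χ i)) →
    fs.length = gs.length → Rf a ψ →
    Rf (dt fs gs a) (fun w => ψ w + ∑ i ∈ Finset.range fs.length, φ i w * χ i w)
  | [], [], φ, χ, a, ψ, _, _, _, ha => by
    have e : dt [] [] a = a := rfl
    rw [e]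
    exact ha.congr fun w => by simp
  | [], _ :: _, _, _, _, _, _, _, h, _ => by simp at h
  | _ :: _, [], _, _, _, _, _, _, h, _ => by simp at h
  | f :: fs, g :: gs, φ, χ, a, ψ, hf, hg, hl, ha => by
    have h0 : Rf f (φ 0) := hf 0 (by simp)
    have h0' : Rf g (χ 0) := hg 0 (by simp)
    have h2 := rf_dt fs gs (fun i => φ (i + 1)) (fun i => χ (i + 1)) _ _ (fun i hi => by
      have := hf (i + 1) (by simpa using hi)
      rwa [List.getD_cons_succ] at this) (fun i hi => by
      have := hg (i + 1) (by simpa using hi)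
      rwa [List.getD_cons_succ] at this) (by simpa using hl) (ha.add (h0.mul h0'))
    refine h2.congr fun w => ?_
    rw [List.length_cons, Finset.sum_range_succ']
    ring

/-! ### states -/

/-- the coordinates, extended by zero -/
def co (w : V) (i : ℕ) : ZMod 3 := if h : i < 9 then w ⟨i, h⟩ else 0

theorem co_eq (w : V) (i : Fin 9) : co w i = w i := by
  rw [co, dif_pos i.2]

theorem sum_co (w : V) (f : ℕ → ZMod 3) : ∑ i ∈ Finset.range 9, f i * co w i = ∑ i : Fin 9, f i * w i := by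
  rw [Finset.sum_range]
  exact Finset.sum_congr rfl fun i _ => by rw [co_eq]

/-- the list describes the function `h` -/
def St (st : List (ℕ × ℕ)) (h : V → V) : Prop :=
  st.length = 9 ∧ ∀ i < st.length, Rf (st.getD i (0, 0)) (fun w => co (h w) i)

theorem St.ext {st : List (ℕ × ℕ)} {h h' : V → V} (h1 : St st h) (h2 : St st h') (w : V) : h w = h' w := by
  funext i
  have hi : (i : ℕ) < st.length := by rw [h1.1]; exact i.2
  have h3 := (h1.2 i hi).ext (h2.2 i hi) w
  rwa [co_eq, co_eq] at h3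

/-- the image of a vector under the matrix -/
def mv (R : List (List ℕ)) (w : V) : V := fun i => ∑ j : Fin 9, cz ((R.getD i []).getD j 0) * w j

/-- a matrix -/
def Sq (R : List (List ℕ)) : Prop := R.length = 9 ∧ ∀ r ∈ R, r.length = 9

/-- decidable form -/
noncomputable def chkSq (R : List (List ℕ)) : Bool :=
  band (Nat.beq R.length 9) (List.rec true (fun r _ ih => band (Nat.beq r.length 9) ih) R)

theorem sq_of_chk {R : List (List ℕ)} (h : chkSq R = true) : Sq R := by
  obtain ⟨h1, h2⟩ := band_eq.1 h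
  refine ⟨Nat.eq_of_beq_eq_true h1, ?_⟩
  clear h h1
  induction R with
  | nil => intro r hr; simp at hr
  | cons r R ih =>
    obtain ⟨h3, h4⟩ := band_eq.1 h2
    intro s hs
    rcases List.mem_cons.1 hs with rfl | hs
    · exact Nat.eq_of_beq_eq_true h3
    · exact ih h4 s hs

/-- apply the matrix to the state -/
def st1 (R : List (List ℕ)) (st : List (ℕ × ℕ)) : List (ℕ × ℕ) := R.map fun r => lc r st (0, 0)

/-- strict version -/
noncomputable def stF {α : Type} (R : List (List ℕ)) (st : List (ℕ × ℕ)) : (List (ℕ × ℕ) → α) → α :=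
  List.rec (fun κ => κ []) (fun r _ ih κ => lcF r st 0 0 fun x y => ih fun l => κ ((x, y) :: l)) R

theorem stF_eq {α : Type} (st : List (ℕ × ℕ)) : ∀ (R : List (List ℕ)) (κ : List (ℕ × ℕ) → α),
    stF R st κ = κ (st1 R st)
  | [], κ => rfl
  | r :: R, κ => by
    have e : stF (r :: R) st κ = lcF r st 0 0 (fun x y => stF R st fun l => κ ((x, y) :: l)) := rfl
    rw [e, lcF_eq r st (0, 0), stF_eq st R]
    rfl

theorem St.step {st : List (ℕ × ℕ)} {h : V → V} (hs : St st h) {R : List (List ℕ)} (hR : Sq R) :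
    St (st1 R st) (fun w => mv R (h w)) := by
  refine ⟨by rw [st1, List.length_map, hR.1], fun i hi => ?_⟩
  rw [st1, List.length_map, hR.1] at hi
  have hi' : i < R.length := by rw [hR.1]; exact hi
  have e : (st1 R st).getD i (0, 0) = lc (R.getD i []) st (0, 0) := by
    rw [st1, List.getD_eq_getElem _ _ (by rw [List.length_map]; exact hi'), List.getElem_map,
      List.getD_eq_getElem _ _ hi']
  rw [e]
  have hlen : (R.getD i []).length = st.length := by
    rw [hs.1, List.getD_eq_getElem _ _ hi']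
    exact hR.2 _ (List.getElem_mem hi')
  refine (rf_lc (R.getD i []) st (fun j w => co (h w) j) (0, 0) (fun _ => 0) hs.2 hlen rf_zero).congr fun w => ?_
  rw [zero_add, hs.1, sum_co (h w) (fun j => cz ((R.getD i []).getD j 0))]
  rw [show co (mv R (h w)) i = mv R (h w) ⟨i, hi⟩ from dif_pos hi]
  rfl

/-! ### the form -/

/-- the partner of the basis vectors -/
def swp {α : Type} (d : α) (l : List α) : List α :=
  [l.getD 1 d, l.getD 0 d, l.getD 3 d, l.getD 2 d, l.getD 5 d, l.getD 4 d, l.getD 7 d, l.getD 6 d, l.getD 8 d]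

/-- the partner -/
def pr (x : V) : V := ![x 1, x 0, x 3, x 2, x 5, x 4, x 7, x 6, x 8]

theorem B_eq (x y : V) : B x y = ∑ i : Fin 9, x i * pr y i := by
  simp only [Fin.sum_univ_succ, Fin.sum_univ_zero, pr, B]
  simp [Fin.succ]
  ring

end Cfsg.Agent.H651.O9
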