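import Cfsg.Agent.H651.O9.Run

/-!
# Invariants of the elements of the orthogonal group, and the checks of one representative (helper651)
-/

set_option autoImplicit false
set_option exponentiation.threshold 30000
set_option maxRecDepth 100000

namespace Cfsg.Agent.H651.O9

open Cfsg.Agent.H123.Cls (cnd cnd_true cnd_false band band_eq fB fB_eq popS cmb)
open Cfsg.Agent.Lib.BitNetSimple (force force_eq tb tb_eq)

/-! ### equal values -/

/-- the vectors at which the two states agree -/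
def em : List (ℕ × ℕ) → List (ℕ × ℕ) → ℕ → ℕ
  | p :: l, q :: l', m => em l l' (m ^^^ (m &&& ((p.1 ^^^ q.1) ||| (p.2 ^^^ q.2))))
  | _, _, m => m

/-- strict version -/
noncomputable def emF {α : Type} (l : List (ℕ × ℕ)) : List (ℕ × ℕ) → ℕ → (ℕ → α) → α :=
  List.rec (fun _ m κ => κ m) (fun p _ ih l' => List.rec (fun m κ => κ m) (fun q l'' _ m κ =>
    fB (Nat.xor m (Nat.land m (Nat.lor (Nat.xor p.1 q.1) (Nat.xor p.2 q.2)))) fun x => ih l'' x κ) l') l

theorem emF_eq {α : Type} : ∀ (l l' : List (ℕ × ℕ)) (m : ℕ) (κ : ℕ → α), emF l l' m κ = κ (em l l' m)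
  | [], l', m, κ => by
    have e : em [] l' m = m := by cases l' <;> rfl
    rw [e]; rfl
  | p :: l, [], m, κ => rfl
  | p :: l, q :: l', m, κ => by
    have e : emF (p :: l) (q :: l') m κ =
      fB (Nat.xor m (Nat.land m (Nat.lor (Nat.xor p.1 q.1) (Nat.xor p.2 q.2)))) (fun x => emF l l' x κ) := rfl
    rw [e, fB_eq, emF_eq l l', em]
    rfl

theorem testBit_em (e : ℕ) : ∀ (l l' : List (ℕ × ℕ)) (m : ℕ), l.length = l'.length →
    ((em l l' m).testBit e = true ↔ (m.testBit e = true ∧ ∀ i < l.length,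
      (l.getD i (0, 0)).1.testBit e = (l'.getD i (0, 0)).1.testBit e ∧
      (l.getD i (0, 0)).2.testBit e = (l'.getD i (0, 0)).2.testBit e))
  | [], [], m, _ => by simp [em]
  | [], _ :: _, _, h => by simp at h
  | _ :: _, [], _, h => by simp at h
  | p :: l, q :: l', m, h => by
    rw [em, testBit_em e l l' _ (by simpa using h), Nat.testBit_xor, Nat.testBit_and, Nat.testBit_or, Nat.testBit_xor,
      Nat.testBit_xor]
    have hs : (∀ i < (p :: l).length, ((p :: l).getD i (0, 0)).1.testBit e = ((q :: l').getD i (0, 0)).1.testBit e ∧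
        ((p :: l).getD i (0, 0)).2.testBit e = ((q :: l').getD i (0, 0)).2.testBit e) ↔
        ((p.1.testBit e = q.1.testBit e ∧ p.2.testBit e = q.2.testBit e) ∧
          ∀ i < l.length, (l.getD i (0, 0)).1.testBit e = (l'.getD i (0, 0)).1.testBit e ∧
            (l.getD i (0, 0)).2.testBit e = (l'.getD i (0, 0)).2.testBit e) := by
      constructor
      · intro hh
        refine ⟨hh 0 (by simp), fun i hi => ?_⟩
        have := hh (i + 1) (by simpa using hi)
        rwa [List.getD_cons_succ, List.getD_cons_succ] at this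
      · rintro ⟨h1, h2⟩ i hi
        cases i with
        | zero => exact h1
        | succ i =>
          rw [List.getD_cons_succ, List.getD_cons_succ]
          exact h2 i (by simpa using hi)
    rw [hs]
    cases m.testBit e <;> cases p.1.testBit e <;> cases q.1.testBit e <;> cases p.2.testBit e <;>
      cases q.2.testBit e <;> simp

theorem key_eq : ∀ a b : ZMod 3, decide (a = 1) = decide (b = 1) → decide (a = 2) = decide (b = 2) → a = b := by
  decide

theorem testBit_em_U {l l' : List (ℕ × ℕ)} {h k : V → V} (hl : St l h) (hl' : St l' k) (w : V) :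
    (em l l' U).testBit (ix w) = true ↔ h w = k w := by
  rw [testBit_em (ix w) l l' U (by rw [hl.1, hl'.1])]
  have hU : U.testBit (ix w) = true := by rw [testBit_U]; exact decide_eq_true (ix_lt w)
  constructor
  · rintro ⟨-, h1⟩
    funext i
    have hi : (i : ℕ) < l.length := by rw [hl.1]; exact i.2
    have hi' : (i : ℕ) < l'.length := by rw [hl'.1]; exact i.2
    obtain ⟨h2, h3⟩ := h1 i hi
    obtain ⟨a1, a2⟩ := hl.2 i hi w
    obtain ⟨b1, b2⟩ := hl'.2 i hi' w
    have h4 : co (h w) i = co (k w) i := key_eq _ _ (a1.symm.trans (h2.trans b1)) (a2.symm.trans (h3.trans b2))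
    rwa [co_eq, co_eq] at h4
  · intro h1
    refine ⟨hU, fun i hi => ?_⟩
    have hi' : i < l'.length := by rw [hl'.1, ← hl.1]; exact hi
    obtain ⟨a1, a2⟩ := hl.2 i hi w
    obtain ⟨b1, b2⟩ := hl'.2 i hi' w
    refine ⟨a1.trans (Eq.trans ?_ b1.symm), a2.trans (Eq.trans ?_ b2.symm)⟩
    · show decide (co (h w) i = 1) = decide (co (k w) i = 1)
      rw [h1]
    · show decide (co (h w) i = 2) = decide (co (k w) i = 2)
      rw [h1]

/-- the function with value one where the states agree -/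
theorem rf_em {l l' : List (ℕ × ℕ)} {h k : V → V} (hl : St l h) (hl' : St l' k) :
    Rf (em l l' U, 0) (fun w => if h w = k w then 1 else 0) := by
  intro w
  have h1 := testBit_em_U hl hl' w
  show (em l l' U).testBit (ix w) = decide ((if h w = k w then (1 : ZMod 3) else 0) = 1) ∧
    (0 : ℕ).testBit (ix w) = decide ((if h w = k w then (1 : ZMod 3) else 0) = 2)
  by_cases h2 : h w = k w
  · rw [if_pos h2, h1.2 h2, Nat.zero_testBit]
    exact ⟨by decide, by decide⟩
  · have h3 : (em l l' U).testBit (ix w) = false := by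
      rw [← Bool.not_eq_true, h1]
      exact h2
    rw [if_neg h2, h3, Nat.zero_testBit]
    exact ⟨by decide, by decide⟩

/-- the negative state -/
def ng (l : List (ℕ × ℕ)) : List (ℕ × ℕ) := l.map fun p => (p.2, p.1)

theorem St.neg {l : List (ℕ × ℕ)} {h : V → V} (hl : St l h) : St (ng l) (fun w => -(h w)) := by
  refine ⟨by rw [ng, List.length_map, hl.1], fun i hi => ?_⟩
  rw [ng, List.length_map] at hi
  have e : (ng l).getD i (0, 0) = ((l.getD i (0, 0)).2, (l.getD i (0, 0)).1) := by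
    rw [ng, List.getD_eq_getElem _ _ (by rw [List.length_map]; exact hi), List.getElem_map,
      List.getD_eq_getElem _ _ hi]
  rw [e]
  refine (hl.2 i hi).neg.congr fun w => ?_
  have h2 : ∀ a : ZMod 3, 2 * a = -a := by decide
  rw [h2]
  unfold co
  split
  · rfl
  · exact neg_zero

/-! ### the values -/

/-- the functions of an element: fixed vectors of `r`, `-r`, `r ^ 4`, and the forms `B (w, r ^ j w)` -/
def vl (r : V ≃ₗ[ZMod 3] V) : ℕ → V → ZMod 3
  | 0 => fun w => if r w = w then 1 else 0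
  | 1 => fun w => if r w = -w then 1 else 0
  | 2 => fun w => if (r ^ 4) w = w then 1 else 0
  | j + 3 => fun w => B w ((r ^ j) w)

theorem vl_conj (r : V ≃ₗ[ZMod 3] V) {a : V ≃ₗ[ZMod 3] V} (ha : a ∈ OB) (i : ℕ) (w : V) :
    vl (a * r * a⁻¹) i (a w) = vl r i w := by
  have hp : ∀ (j : ℕ) (v : V), ((a * r * a⁻¹) ^ j) (a v) = a ((r ^ j) v) := by
    intro j v
    have h1 : (a * r * a⁻¹) ^ j = a * r ^ j * a⁻¹ := conj_pow
    rw [h1]
    show a ((r ^ j) (a⁻¹ (a v))) = _
    rw [show a⁻¹ (a v) = v from LinearEquiv.symm_apply_apply a v]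
  have hp1 : ∀ v : V, (a * r * a⁻¹) (a v) = a (r v) := by
    intro v
    have := hp 1 v
    rwa [pow_one, pow_one] at this
  rcases i with _ | _ | _ | j
  · show (if (a * r * a⁻¹) (a w) = a w then (1 : ZMod 3) else 0) = (if r w = w then 1 else 0)
    refine if_congr ?_ rfl rfl
    rw [hp1, a.injective.eq_iff]
  · show (if (a * r * a⁻¹) (a w) = -(a w) then (1 : ZMod 3) else 0) = (if r w = -w then 1 else 0)
    refine if_congr ?_ rfl rfl
    rw [hp1, ← map_neg, a.injective.eq_iff]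
  · show (if ((a * r * a⁻¹) ^ 4) (a w) = a w then (1 : ZMod 3) else 0) = (if (r ^ 4) w = w then 1 else 0)
    refine if_congr ?_ rfl rfl
    rw [hp, a.injective.eq_iff]
  · show B (a w) (((a * r * a⁻¹) ^ j) (a w)) = B w ((r ^ j) w)
    rw [hp]
    exact (mem_OB.1 ha) _ _

/-- the vectors with prescribed values -/
def pat (r : V ≃ₗ[ZMod 3] V) (P : List (ℕ × ℕ)) : Set V := {w | ∀ x ∈ P, vl r x.1 w = cz x.2}

theorem card_pat_conj (r : V ≃ₗ[ZMod 3] V) {a : V ≃ₗ[ZMod 3] V} (ha : a ∈ OB) (P : List (ℕ × ℕ)) :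
    Nat.card (pat (a * r * a⁻¹) P) = Nat.card (pat r P) := by
  have h1 : ∀ w ∈ pat r P, a w ∈ pat (a * r * a⁻¹) P := fun w hw x hx => by
    rw [vl_conj r ha]
    exact hw x hx
  have h2 : ∀ w ∈ pat (a * r * a⁻¹) P, a⁻¹ w ∈ pat r P := fun w hw x hx => by
    have h3 := vl_conj r ha x.1 (a⁻¹ w)
    rw [show a (a⁻¹ w) = w from LinearEquiv.apply_symm_apply a w] at h3
    rw [← h3]
    exact hw x hx
  exact (Nat.card_congr (α := ↥(pat r P)) (β := ↥(pat (a * r * a⁻¹) P))
    { toFun := fun w => ⟨a w.1, h1 w.1 w.2⟩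
      invFun := fun w => ⟨a⁻¹ w.1, h2 w.1 w.2⟩
      left_inv := fun w => Subtype.ext (LinearEquiv.symm_apply_apply a w.1)
      right_inv := fun w => Subtype.ext (LinearEquiv.apply_symm_apply a w.1) }).symm

/-- the patterns -/
def pats : List (List (ℕ × ℕ)) :=
  [[(3, 1), (5, 1), (7, 1), (8, 1)], [(4, 1), (6, 1), (8, 1), (2, 1)], [(3, 1), (5, 2), (8, 1)],
    [(4, 1), (6, 0), (7, 0), (8, 0)], [(3, 1), (6, 0), (7, 0), (8, 0)], [(5, 0), (6, 0), (7, 0), (8, 0), (0, 1)]]

/-- the invariant -/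
noncomputable def key (r : V ≃ₗ[ZMod 3] V) : ℕ :=
  pats.foldr (fun P a => Nat.card (pat r P) + 32768 * a) 0

theorem key_conj (r : V ≃ₗ[ZMod 3] V) {a : V ≃ₗ[ZMod 3] V} (ha : a ∈ OB) : key (a * r * a⁻¹) = key r := by
  unfold key
  congr 1
  funext P b
  rw [card_pat_conj r ha]

/-! ### the numerical invariant -/

/-- select a value -/
noncomputable def sl (p : ℕ × ℕ) (a m : ℕ) : ℕ :=
  bif Nat.beq a 0 then m ^^^ (m &&& (p.1 ||| p.2)) else bif Nat.beq a 1 then m &&& p.1 else m &&& p.2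

theorem testBit_sl {p : ℕ × ℕ} {f : V → ZMod 3} (h : Rf p f) (a m : ℕ) (w : V) :
    (sl p a m).testBit (ix w) = true ↔ (m.testBit (ix w) = true ∧ f w = cz a) := by
  obtain ⟨h1, h2⟩ := h w
  have k0 : ∀ b : ZMod 3, (!(decide (b = 1) || decide (b = 2))) = true ↔ b = 0 := by decide
  unfold sl cz
  cases Nat.beq a 0
  · rw [cond_false, cond_false]
    cases Nat.beq a 1
    · rw [cond_false, cond_false, Nat.testBit_and, h2, Bool.and_eq_true, decide_eq_true_iff]
    · rw [cond_true, cond_true, Nat.testBit_and, h1, Bool.and_eq_true, decide_eq_true_iff]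
  · rw [cond_true, cond_true, Nat.testBit_xor, Nat.testBit_and, Nat.testBit_or, h1, h2, ← k0]
    cases m.testBit (ix w) <;> cases decide (f w = 1) <;> cases decide (f w = 2) <;> simp

theorem sm_sl {p : ℕ × ℕ} {a m : ℕ} (hm : Sm m) : Sm (sl p a m) := by
  intro i hi
  apply hm i
  unfold sl at hi
  cases h1 : Nat.beq a 0 <;> rw [h1] at hi
  · rw [cond_false] at hi
    cases h2 : Nat.beq a 1 <;> rw [h2] at hi
    · rw [cond_false, Nat.testBit_and, Bool.and_eq_true] at hi
      exact hi.1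
    · rw [cond_true, Nat.testBit_and, Bool.and_eq_true] at hi
      exact hi.1
  · rw [cond_true, Nat.testBit_xor, Nat.testBit_and] at hi
    revert hi
    cases m.testBit i <;> simp

/-- the mask of a pattern -/
noncomputable def pm (fl : List (ℕ × ℕ)) : List (ℕ × ℕ) → ℕ → ℕ
  | [], m => m
  | x :: P, m => pm fl P (sl (fl.getD x.1 (0, 0)) x.2 m)

/-- entry of a list of pairs -/
noncomputable def nthP (l : List (ℕ × ℕ)) : ℕ → ℕ × ℕ :=
  List.rec (fun _ => (0, 0)) (fun x _ ih i => Nat.rec x (fun j _ => ih j) i) l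

theorem nthP_eq : ∀ (l : List (ℕ × ℕ)) (i : ℕ), nthP l i = l.getD i (0, 0)
  | [], _ => rfl
  | _ :: _, 0 => rfl
  | _ :: l, i + 1 => nthP_eq l i

/-- strict version -/
noncomputable def pmF {α : Type} (fl : List (ℕ × ℕ)) (P : List (ℕ × ℕ)) : ℕ → (ℕ → α) → α :=
  List.rec (fun m κ => κ m) (fun x _ ih m κ =>
    cnd (Nat.beq x.2 0) (fB (Nat.xor m (Nat.land m (Nat.lor (nthP fl x.1).1 (nthP fl x.1).2))) fun y => ih y κ)
      (cnd (Nat.beq x.2 1) (fB (Nat.land m (nthP fl x.1).1) fun y => ih y κ)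
        (fB (Nat.land m (nthP fl x.1).2) fun y => ih y κ))) P

theorem pmF_eq {α : Type} (fl : List (ℕ × ℕ)) : ∀ (P : List (ℕ × ℕ)) (m : ℕ) (κ : ℕ → α),
    pmF fl P m κ = κ (pm fl P m)
  | [], _, _ => rfl
  | x :: P, m, κ => by
    have e : pmF fl (x :: P) m κ =
      cnd (Nat.beq x.2 0) (fB (Nat.xor m (Nat.land m (Nat.lor (nthP fl x.1).1 (nthP fl x.1).2))) fun y => pmF fl P y κ)
      (cnd (Nat.beq x.2 1) (fB (Nat.land m (nthP fl x.1).1) fun y => pmF fl P y κ)
        (fB (Nat.land m (nthP fl x.1).2) fun y => pmF fl P y κ)) := rfl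
    rw [e, pm, sl, ← nthP_eq]
    cases Nat.beq x.2 0
    · rw [cnd_false, cond_false]
      cases Nat.beq x.2 1
      · rw [cnd_false, cond_false, fB_eq, pmF_eq fl P]; rfl
      · rw [cnd_true, cond_true, fB_eq, pmF_eq fl P]; rfl
    · rw [cnd_true, cond_true, fB_eq, pmF_eq fl P]; rfl

theorem testBit_pm {fl : List (ℕ × ℕ)} {r : V ≃ₗ[ZMod 3] V} (hf : ∀ i < fl.length, Rf (fl.getD i (0, 0)) (vl r i))
    (w : V) : ∀ (P : List (ℕ × ℕ)) (m : ℕ), (∀ x ∈ P, x.1 < fl.length) →
      ((pm fl P m).testBit (ix w) = true ↔ (m.testBit (ix w) = true ∧ w ∈ pat r P))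
  | [], m, _ => by
    rw [pm]
    exact ⟨fun h => ⟨h, fun x hx => by simp at hx⟩, fun h => h.1⟩
  | x :: P, m, hP => by
    rw [pm, testBit_pm hf w P _ (fun y hy => hP y (List.mem_cons_of_mem _ hy)),
      testBit_sl (hf x.1 (hP x List.mem_cons_self)), and_assoc]
    refine and_congr_right fun _ => ?_
    constructor
    · rintro ⟨h1, h2⟩ y hy
      rcases List.mem_cons.1 hy with rfl | hy
      · exact h1
      · exact h2 y hy
    · intro h
      exact ⟨h x List.mem_cons_self, fun y hy => h y (List.mem_cons_of_mem _ hy)⟩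

theorem sm_pm {fl : List (ℕ × ℕ)} : ∀ (P : List (ℕ × ℕ)) (m : ℕ), Sm m → Sm (pm fl P m)
  | [], _, h => h
  | _ :: P, _, h => sm_pm P _ (sm_sl h)

theorem sm_U : Sm U := fun i hi => by
  rw [testBit_U] at hi
  exact of_decide_eq_true hi

theorem pop_pm {fl : List (ℕ × ℕ)} {r : V ≃ₗ[ZMod 3] V} (hf : ∀ i < fl.length, Rf (fl.getD i (0, 0)) (vl r i))
    {P : List (ℕ × ℕ)} (hP : ∀ x ∈ P, x.1 < fl.length) : popS 20 (cmb 20 10) (pm fl P U) = Nat.card (pat r P) := by
  rw [pop_eq (sm_pm P U sm_U), ← Fintype.card_coe, ← Nat.card_eq_fintype_card]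
  refine Nat.card_congr (Equiv.subtypeEquivRight fun w => ?_)
  rw [mem_pts, testBit_pm hf w P U hP]
  exact ⟨fun h => h.2, fun h => ⟨by rw [testBit_U]; exact decide_eq_true (ix_lt w), h⟩⟩

/-- the numerical invariant -/
noncomputable def keyF (M : ℕ) (fl : List (ℕ × ℕ)) (Ps : List (List (ℕ × ℕ))) : ℕ :=
  List.rec 0 (fun P _ ih => force ih fun a => pmF fl P U fun m => force (popS 20 M m) fun n =>
    Nat.add n (Nat.mul 32768 a)) Ps

theorem keyF_eq {fl : List (ℕ × ℕ)} {r : V ≃ₗ[ZMod 3] V} (hf : ∀ i < fl.length, Rf (fl.getD i (0, 0)) (vl r i)) :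
    ∀ Ps : List (List (ℕ × ℕ)), (∀ P ∈ Ps, ∀ x ∈ P, x.1 < fl.length) →
      keyF (cmb 20 10) fl Ps = Ps.foldr (fun P a => Nat.card (pat r P) + 32768 * a) 0
  | [], _ => rfl
  | P :: Ps, h => by
    have e : keyF (cmb 20 10) fl (P :: Ps) = force (keyF (cmb 20 10) fl Ps) (fun a => pmF fl P U fun m =>
      force (popS 20 (cmb 20 10) m) fun n => Nat.add n (Nat.mul 32768 a)) := rfl
    rw [e, force_eq, pmF_eq, force_eq, pop_pm hf (h P List.mem_cons_self),
      keyF_eq hf Ps fun Q hQ => h Q (List.mem_cons_of_mem _ hQ), List.foldr_cons]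
    rfl

/-! ### the checks -/

/-- the functions of the element given by the matrix -/
noncomputable def fls (R : List (List ℕ)) : List (ℕ × ℕ) :=
  (em (st1 R X0) X0 U, 0) :: (em (st1 R X0) (ng X0) U, 0) ::
    (em ((stL R 9 X0).getD 3 []) X0 U, 0) :: (X0 :: stL R 9 X0).map (bq X0)

/-- the swapped states -/
noncomputable def yls (R : List (List ℕ)) : List (List (ℕ × ℕ)) := (X0 :: stL R 9 X0).map (swp (0, 0))

/-- entry of a list of states -/
noncomputable def nthL (l : List (List (ℕ × ℕ))) : ℕ → List (ℕ × ℕ) :=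
  List.rec (fun _ => []) (fun x _ ih i => Nat.rec x (fun j _ => ih j) i) l

theorem nthL_eq : ∀ (l : List (List (ℕ × ℕ))) (i : ℕ), nthL l i = l.getD i []
  | [], _ => rfl
  | _ :: _, 0 => rfl
  | _ :: l, i + 1 => nthL_eq l i

/-- compute all functions -/
noncomputable def allF {α : Type} (R : List (List ℕ)) (κ : List (List (ℕ × ℕ)) → List (ℕ × ℕ) → α) : α :=
  iniF [0, 1, 2, 3, 4, 5, 6, 7, 8] fun x => stLF R 9 x fun ss => emF (nthL ss 0) x U fun a =>
    emF (nthL ss 0) (ng x) U fun b => emF (nthL ss 3) x U fun c => qyF x (x :: ss) fun Y q =>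
      κ Y ((a, 0) :: (b, 0) :: (c, 0) :: q)

theorem allF_eq {α : Type} (R : List (List ℕ)) (κ : List (List (ℕ × ℕ)) → List (ℕ × ℕ) → α) :
    allF R κ = κ (yls R) (fls R) := by
  rw [allF, iniF_eq, stLF_eq, emF_eq, emF_eq, emF_eq, qyF_eq, nthL_eq, nthL_eq]
  rfl

/-- the check of the key and of the bound -/
noncomputable def chkR (R : List (List ℕ)) (ch : List ℕ) (c k : ℕ) : Bool :=
  band (chkSq R) (fB (cmb 20 10) fun M => allF R fun Y f =>
    band (Nat.beq (keyF M f pats) k) (Nat.beq (run M Y f ch []) (Nat.succ c)))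

/-- the check of the key -/
noncomputable def chkK (R : List (List ℕ)) (k : ℕ) : Bool :=
  band (chkSq R) (fB (cmb 20 10) fun M => allF R fun _ f => Nat.beq (keyF M f pats) k)

/-- the matrix of the element -/
def Mt (R : List (List ℕ)) (r : V ≃ₗ[ZMod 3] V) : Prop := ∀ w, r w = mv R w

theorem mt_pow {R : List (List ℕ)} {r : V ≃ₗ[ZMod 3] V} (hr : Mt R r) : ∀ (j : ℕ) (w : V), (mv R)^[j] w = (r ^ j) w
  | 0, _ => rfl
  | j + 1, w => by
    rw [Function.iterate_succ_apply', mt_pow hr j w, ← hr, pow_succ']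
    rfl

theorem sts_mt {R : List (List ℕ)} (hR : Sq R) {r : V ≃ₗ[ZMod 3] V} (hr : Mt R r) (m j : ℕ)
    (hj : j < (X0 :: stL R m X0).length) : St ((X0 :: stL R m X0).getD j []) (fun w => (r ^ j) w) := by
  have h := sts_all hR m j hj
  have e : (fun w => (mv R)^[j] w) = fun w => (r ^ j) w := funext fun w => mt_pow hr j w
  show St _ _
  rw [← e]
  exact h

theorem rf_fls {R : List (List ℕ)} (hR : Sq R) {r : V ≃ₗ[ZMod 3] V} (hr : Mt R r) :
    ∀ i < (fls R).length, Rf ((fls R).getD i (0, 0)) (vl r i) := by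
  intro i hi
  have h1 := sts_mt hR hr 9 1 (by rw [List.length_cons, stL_length]; norm_num)
  have h4 := sts_mt hR hr 9 4 (by rw [List.length_cons, stL_length]; norm_num)
  rcases i with _ | _ | _ | j
  · have h := rf_em h1 st_X0
    exact h
  · have h := rf_em h1 st_X0.neg
    exact h
  · have h := rf_em h4 st_X0
    exact h
  · have hj : j < (X0 :: stL R 9 X0).length := by
      have e : (fls R).length = 3 + (X0 :: stL R 9 X0).length := by
        simp only [fls, List.length_cons, List.length_map]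
        omega
      rw [e] at hi
      omega
    have e : (fls R).getD (j + 3) (0, 0) = bq X0 ((X0 :: stL R 9 X0).getD j []) := by
      rw [fls, List.getD_cons_succ, List.getD_cons_succ, List.getD_cons_succ,
        List.getD_eq_getElem _ _ (by rw [List.length_map]; exact hj), List.getElem_map, List.getD_eq_getElem _ _ hj]
    show Rf ((fls R).getD (j + 3) (0, 0)) _
    rw [e]
    exact rf_bq st_X0 (sts_mt hR hr 9 j hj)

theorem fls_length (R : List (List ℕ)) : (fls R).length = 13 := by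
  simp only [fls, List.length_cons, List.length_map, stL_length]

theorem pats_lt : ∀ P ∈ pats, ∀ x ∈ P, x.1 < 13 := by decide

/-- the invariant of the element -/
theorem key_of_chkK {R : List (List ℕ)} {k : ℕ} (h : chkK R k = true) {r : V ≃ₗ[ZMod 3] V} (hr : Mt R r) :
    key r = k := by
  rw [chkK, band_eq, fB_eq, allF_eq] at h
  obtain ⟨h1, h2⟩ := h
  have h3 := keyF_eq (rf_fls (sq_of_chk h1) hr) pats (by rw [fls_length]; exact pats_lt)
  rw [Nat.eq_of_beq_eq_true h2] at h3
  exact h3.symm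

/-- the invariant and the bound -/
theorem of_chkR {R : List (List ℕ)} {ch : List ℕ} {c k : ℕ} (h : chkR R ch c k = true) {r : V ≃ₗ[ZMod 3] V}
    (hr : Mt R r) : key r = k ∧ ∀ H : Subgroup (V ≃ₗ[ZMod 3] V), H ≤ OB → (∀ σ ∈ H, σ * r = r * σ) →
      Nat.card H ≤ Nat.succ c := by
  rw [chkR, band_eq, fB_eq, allF_eq, band_eq] at h
  obtain ⟨h1, h2, h3⟩ := h
  have hsq := sq_of_chk h1
  refine ⟨?_, fun H hH hc => ?_⟩
  · have h4 := keyF_eq (rf_fls hsq hr) pats (by rw [fls_length]; exact pats_lt)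
    rw [Nat.eq_of_beq_eq_true h2] at h4
    exact h4.symm
  · have h5 := Nat.eq_of_beq_eq_true h3
    rw [← h5]
    refine run_spec (r := r) rfl ?_ ch [] H hH hc ?_ (fun p hp => by simp at hp) (by rw [h5]; exact Nat.succ_ne_zero c)
    · intro Y hY
      rw [yls, List.mem_map] at hY
      obtain ⟨s, hs, rfl⟩ := hY
      obtain ⟨j, hj, rfl⟩ := List.getElem_of_mem hs
      refine ⟨r ^ j, ?_, fun σ hσ => (Commute.pow_right (show Commute σ r from hσ) j).eq⟩
      have h6 := sts_mt hsq hr 9 j hj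
      rw [List.getD_eq_getElem _ _ hj] at h6
      exact h6.swp
    · intro p hp σ hσ w
      obtain ⟨i, hi, rfl⟩ := List.getElem_of_mem hp
      have h7 := rf_fls hsq hr i hi
      rw [List.getD_eq_getElem _ _ hi] at h7
      have h8 : vl r i (σ w) = vl r i w := by
        have h9 := vl_conj r (hH hσ) i w
        rwa [hc σ hσ, mul_inv_cancel_right] at h9
      constructor
      · rw [(h7 _).1, (h7 _).1, h8]
      · rw [(h7 _).2, (h7 _).2, h8]

/-! ### products -/

/-- the lists agree -/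
noncomputable def eqL (l : List (ℕ × ℕ)) : List (ℕ × ℕ) → Bool :=
  List.rec (fun l' => List.rec true (fun _ _ _ => false) l') (fun p _ ih l' => List.rec false (fun q l'' _ =>
    band (Nat.beq p.1 q.1) (band (Nat.beq p.2 q.2) (ih l''))) l') l

theorem eqL_eq : ∀ {l l' : List (ℕ × ℕ)}, eqL l l' = true → l = l'
  | [], [], _ => rfl
  | [], _ :: _, h => Bool.noConfusion (show false = true from h)
  | _ :: _, [], h => Bool.noConfusion (show false = true from h)
  | p :: l, q :: l', h => by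
    obtain ⟨h1, h2⟩ := band_eq.1 h
    obtain ⟨h3, h4⟩ := band_eq.1 h2
    rw [eqL_eq h4, show p = q from Prod.ext (Nat.eq_of_beq_eq_true h1) (Nat.eq_of_beq_eq_true h3)]

/-- the matrix is orthogonal -/
noncomputable def chkO (R : List (List ℕ)) : Bool :=
  band (chkSq R) (iniF [0, 1, 2, 3, 4, 5, 6, 7, 8] fun x => stF R x fun s =>
    cpF (swp (0, 0) x) fun x' => cpF (swp (0, 0) s) fun s' => dtF x x' 0 0 fun a b => dtF s s' 0 0 fun c d =>
      band (Nat.beq a c) (Nat.beq b d))

theorem isom_of_chkO {R : List (List ℕ)} (h : chkO R = true) : Sq R ∧ ∀ w, B (mv R w) (mv R w) = B w w := by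
  rw [chkO, band_eq, iniF_eq, stF_eq, cpF_eq, cpF_eq, dtF_eq _ _ (0, 0), dtF_eq _ _ (0, 0), band_eq] at h
  obtain ⟨h1, h2, h3⟩ := h
  have hsq := sq_of_chk h1
  refine ⟨hsq, fun w => ?_⟩
  have a1 := rf_bq st_X0 st_X0
  have a2 := rf_bq (st_X0.step hsq) (st_X0.step hsq)
  have e : bq X0 X0 = bq (st1 R X0) (st1 R X0) :=
    Prod.ext (Nat.eq_of_beq_eq_true h2) (Nat.eq_of_beq_eq_true h3)
  rw [← e] at a2
  exact a2.ext a1 w

/-- `G P = X P Y` -/
noncomputable def chkP (X Y P G : List (List ℕ)) : Bool :=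
  iniF [0, 1, 2, 3, 4, 5, 6, 7, 8] fun x => stF P x fun s => stF G s fun s1 => stF Y x fun t => stF P t fun t1 =>
    stF X t1 fun t2 => eqL s1 t2

theorem of_chkP {X Y P G : List (List ℕ)} (hX : Sq X) (hY : Sq Y) (hP : Sq P) (hG : Sq G)
    (h : chkP X Y P G = true) (w : V) : mv G (mv P w) = mv X (mv P (mv Y w)) := by
  rw [chkP, iniF_eq, stF_eq, stF_eq, stF_eq, stF_eq, stF_eq] at h
  have h1 := (st_X0.step hP).step hG
  have h2 := ((st_X0.step hY).step hP).step hX
  have e := eqL_eq h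
  have h3 : St (st1 G (st1 P X0)) (fun w => mv X (mv P (mv Y w))) := by
    rw [show st1 G (st1 P X0) = st1 X (st1 P (st1 Y X0)) from e]
    exact h2
  exact h1.ext h3 w

end Cfsg.Agent.H651.O9
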