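import Cfsg.Agent.H651.O9.Key
import Cfsg.Agent.H830.O9.Orth

/-!
# The two elements of order 41 and the statement on one class (helper651)
-/

set_option autoImplicit false
set_option exponentiation.threshold 30000
set_option maxRecDepth 100000

namespace Cfsg.Agent.H651.O9

open Cfsg.Agent.H123.Cls (cnd cnd_true cnd_false band band_eq fB fB_eq popS cmb)

/-- the matrix of the first element -/
def XM : List (List ℕ) :=
  [[0, 1, 0, 0, 1, 1, 0, 0, 1], [1, 0, 0, 0, 2, 2, 0, 0, 2], [0, 0, 2, 1, 2, 0, 1, 2, 1], [2, 1, 1, 2, 0, 0, 2, 0, 1], [0, 0, 1, 1, 2, 1, 2, 0, 0], [0, 0, 0, 2, 2, 1, 2, 2, 0], [1, 2, 2, 2, 0, 2, 0, 2, 0], [0, 0, 2, 1, 1, 2, 1, 2, 0], [0, 0, 0, 0, 0, 1, 0, 2, 2]]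

/-- the matrix of the second element -/
def YM : List (List ℕ) :=
  [[1, 0, 1, 0, 0, 2, 1, 1, 1], [0, 1, 2, 0, 0, 1, 2, 2, 2], [0, 0, 1, 1, 1, 0, 1, 0, 2], [1, 2, 2, 0, 0, 0, 2, 2, 0], [1, 2, 0, 2, 2, 1, 0, 2, 2], [0, 0, 0, 2, 2, 2, 0, 1, 2], [0, 0, 1, 0, 0, 2, 0, 0, 0], [0, 0, 0, 1, 0, 0, 0, 2, 0], [0, 0, 1, 1, 1, 1, 1, 1, 1]]

/-- the matrix of the involution -/
def TM : List (List ℕ) :=
  [[0, 1, 0, 0, 0, 0, 0, 0, 0], [1, 0, 0, 0, 0, 0, 0, 0, 0], [0, 0, 2, 0, 0, 0, 0, 0, 0], [0, 0, 0, 2, 0, 0, 0, 0, 0], [0, 0, 0, 0, 2, 0, 0, 0, 0], [0, 0, 0, 0, 0, 2, 0, 0, 0], [0, 0, 0, 0, 0, 0, 2, 0, 0], [0, 0, 0, 0, 0, 0, 0, 2, 0], [0, 0, 0, 0, 0, 0, 0, 0, 2]]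

theorem chkO_XM : chkO XM = true := by decide +kernel

theorem chkO_YM : chkO YM = true := by decide +kernel

theorem chkO_TM : chkO TM = true := by decide +kernel

theorem exists_x : ∃ g : V ≃ₗ[ZMod 3] V, g ∈ OB ∧ ∀ w, g w = mv XM w :=
  H830.O9.exists_ob XM (isom_of_chkO chkO_XM).1 (isom_of_chkO chkO_XM).2

theorem exists_y : ∃ g : V ≃ₗ[ZMod 3] V, g ∈ OB ∧ ∀ w, g w = mv YM w :=
  H830.O9.exists_ob YM (isom_of_chkO chkO_YM).1 (isom_of_chkO chkO_YM).2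

theorem exists_t : ∃ g : V ≃ₗ[ZMod 3] V, g ∈ OB ∧ ∀ w, g w = mv TM w :=
  H830.O9.exists_ob TM (isom_of_chkO chkO_TM).1 (isom_of_chkO chkO_TM).2

/-- the first element -/
noncomputable def xx : V ≃ₗ[ZMod 3] V := exists_x.choose

/-- the second element -/
noncomputable def yy : V ≃ₗ[ZMod 3] V := exists_y.choose

/-- the involution -/
noncomputable def tt : V ≃ₗ[ZMod 3] V := exists_t.choose

theorem xx_mem : xx ∈ OB := exists_x.choose_spec.1
theorem yy_mem : yy ∈ OB := exists_y.choose_spec.1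
theorem tt_mem : tt ∈ OB := exists_t.choose_spec.1
theorem mt_xx : Mt XM xx := exists_x.choose_spec.2
theorem mt_yy : Mt YM yy := exists_y.choose_spec.2
theorem mt_tt : Mt TM tt := exists_t.choose_spec.2

/-! ### the order -/

/-- the power is the identity -/
noncomputable def chkI (R : List (List ℕ)) (m : ℕ) : Bool :=
  iniF [0, 1, 2, 3, 4, 5, 6, 7, 8] fun x => stLF R (Nat.succ m) x fun ss => eqL (nthL ss m) x

theorem pow_of_chkI {R : List (List ℕ)} (hR : Sq R) {r : V ≃ₗ[ZMod 3] V} (hr : Mt R r) {m : ℕ}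
    (h : chkI R m = true) : r ^ (m + 1) = 1 := by
  rw [chkI, iniF_eq, stLF_eq, nthL_eq] at h
  have h1 := eqL_eq h
  have h2 := sts_mt hR hr (Nat.succ m) (m + 1) (by rw [List.length_cons, stL_length]; omega)
  rw [List.getD_cons_succ] at h2
  have h3 : St ((stL R (Nat.succ m) X0).getD m []) (fun w => w) := by
    rw [show (stL R (Nat.succ m) X0).getD m [] = X0 from h1]
    exact st_X0
  exact LinearEquiv.ext fun w => h2.ext h3 w

theorem chkI_XM : chkI XM 40 = true := by decide +kernel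

theorem chkI_YM : chkI YM 40 = true := by decide +kernel

theorem xx_pow : xx ^ 41 = 1 := pow_of_chkI (isom_of_chkO chkO_XM).1 mt_xx chkI_XM

theorem yy_pow : yy ^ 41 = 1 := pow_of_chkI (isom_of_chkO chkO_YM).1 mt_yy chkI_YM

theorem mul_of_chkP {A Y P G : List (List ℕ)} (hA : Sq A) (hY : Sq Y) (hP : Sq P) (hG : Sq G)
    (h : chkP A Y P G = true) {a y p g : V ≃ₗ[ZMod 3] V} (ha : Mt A a) (hy : Mt Y y) (hp : Mt P p) (hg : Mt G g) :
    g * p = a * (p * y) := by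
  refine LinearEquiv.ext fun w => ?_
  show g (p w) = a (p (y w))
  rw [hp, hg, of_chkP hA hY hP hG h, ha, hp, hy]

/-! ### the classes -/

/-- the invariant and the bound of the centralizer -/
def Bd (r : V ≃ₗ[ZMod 3] V) (c k : ℕ) : Prop :=
  key r = k ∧ ∀ H : Subgroup (V ≃ₗ[ZMod 3] V), H ≤ OB → (∀ σ ∈ H, σ * r = r * σ) → Nat.card H ≤ Nat.succ c

/-- one class of products -/
def Ok (c k : ℕ) : Prop := ∃ p ∈ OB, Bd (xx * (p * yy * p⁻¹)) c k

/-- the check of one class -/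
noncomputable def chkA (G P : List (List ℕ)) (ch : List ℕ) (c k : ℕ) : Bool :=
  band (chkR G ch c k) (band (chkO P) (chkP XM YM P G))

theorem ok_of (G P : List (List ℕ)) (ch : List ℕ) {c k : ℕ} (h : chkA G P ch c k = true) : Ok c k := by
  rw [chkA, band_eq, band_eq] at h
  obtain ⟨h1, h2, h3⟩ := h
  have hG : Sq G := by
    rw [chkR, band_eq] at h1
    exact sq_of_chk h1.1
  obtain ⟨hP, hiso⟩ := isom_of_chkO h2
  obtain ⟨p, hp, hpm⟩ := H830.O9.exists_ob P hP hiso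
  refine ⟨p, hp, of_chkR h1 fun w => ?_⟩
  have h4 := of_chkP (isom_of_chkO chkO_XM).1 (isom_of_chkO chkO_YM).1 hP hG h3 (p⁻¹ w)
  have h5 : mv P (p⁻¹ w) = w := by
    rw [← hpm]
    exact LinearEquiv.apply_symm_apply p w
  rw [h5] at h4
  rw [h4, ← mt_yy, ← hpm, ← mt_xx]
  rfl

end Cfsg.Agent.H651.O9
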