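import Cfsg.Agent.H651.O9.Eng

/-!
# Centralizer bounds in the orthogonal group (helper651)
-/

set_option autoImplicit false
set_option exponentiation.threshold 30000
set_option maxRecDepth 100000

namespace Cfsg.Agent.H651.O9

open Cfsg.Agent.H123.Cls (cnd cnd_true cnd_false band band_eq fB fB_eq allN allN_iff popS cmb popS_eq)
open Cfsg.Agent.Lib.BitNetSimple (force force_eq tb tb_eq)

/-! ### the coordinates -/

/-- the vectors with coordinate `i` equal to `1` -/
noncomputable def c1 (i : ℕ) : ℕ :=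
  Nat.mul (Nat.shiftLeft (Nat.sub (Nat.pow 2 (Nat.pow 3 i)) 1) (Nat.pow 3 i))
    (Nat.div (Nat.sub (Nat.pow 2 19683) 1) (Nat.sub (Nat.pow 2 (Nat.pow 3 (Nat.succ i))) 1))

/-- the vectors with coordinate `i` equal to `2` -/
noncomputable def c2 (i : ℕ) : ℕ :=
  Nat.mul (Nat.shiftLeft (Nat.sub (Nat.pow 2 (Nat.pow 3 i)) 1) (Nat.mul 2 (Nat.pow 3 i)))
    (Nat.div (Nat.sub (Nat.pow 2 19683) 1) (Nat.sub (Nat.pow 2 (Nat.pow 3 (Nat.succ i))) 1))

/-- equality of Booleans -/
noncomputable def eqb (a b : Bool) : Bool := Bool.rec (Bool.rec true false b) b a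

theorem eqb_eq {a b : Bool} (h : eqb a b = true) : a = b := by
  cases a <;> cases b <;> first | rfl | exact absurd h (by decide)

/-- check one block -/
noncomputable def chkB (i o x y : ℕ) : Bool :=
  allN (fun t => force (Nat.mod (Nat.div (Nat.add o t) (Nat.pow 3 i)) 3) fun d =>
    band (eqb (tb x t) (Nat.beq d 1)) (eqb (tb y t) (Nat.beq d 2))) 243

/-- check the masks of a coordinate -/
noncomputable def chkC (i : ℕ) : Bool :=
  fB (c1 i) fun a => fB (c2 i) fun b => allN (fun s => force (Nat.mul 243 s) fun o =>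
    fB (Nat.mod (Nat.shiftRight a o) (Nat.pow 2 243)) fun x => fB (Nat.mod (Nat.shiftRight b o) (Nat.pow 2 243)) fun y =>
      chkB i o x y) 81

theorem testBit_c {i : ℕ} (h : chkC i = true) {e : ℕ} (he : e < 19683) :
    (c1 i).testBit e = decide (e / 3 ^ i % 3 = 1) ∧ (c2 i).testBit e = decide (e / 3 ^ i % 3 = 2) := by
  rw [chkC, fB_eq, fB_eq, allN_iff] at h
  have h1 := h (e / 243) (by omega)
  rw [force_eq, fB_eq, fB_eq, chkB, allN_iff] at h1
  have hlt : e % 243 < 243 := Nat.mod_lt _ (by norm_num)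
  have h2 := h1 (e % 243) hlt
  rw [force_eq, band_eq] at h2
  obtain ⟨h3, h4⟩ := h2
  have h3 := eqb_eq h3
  have h4 := eqb_eq h4
  rw [tb_eq] at h3 h4
  have e1 : Nat.add (Nat.mul 243 (e / 243)) (e % 243) = e := Nat.div_add_mod e 243
  rw [e1] at h3 h4
  have e2 : ∀ x : ℕ, (Nat.mod (Nat.shiftRight x (Nat.mul 243 (e / 243))) (Nat.pow 2 243)).testBit (e % 243) =
      x.testBit e := by
    intro x
    show ((x >>> (243 * (e / 243))) % 2 ^ 243).testBit (e % 243) = _
    rw [Nat.testBit_mod_two_pow, Nat.testBit_shiftRight, decide_eq_true hlt, Bool.true_and, Nat.div_add_mod]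
  rw [e2] at h3 h4
  have e3 : ∀ a b : ℕ, Nat.beq a b = decide (a = b) := fun a b => by
    rw [Bool.eq_iff_iff, decide_eq_true_iff]
    exact Iff.of_eq Nat.beq_eq
  exact ⟨h3.trans (e3 _ _), h4.trans (e3 _ _)⟩

theorem chk0 : chkC 0 = true := by decide +kernel
theorem chk1 : chkC 1 = true := by decide +kernel
theorem chk2 : chkC 2 = true := by decide +kernel
theorem chk3 : chkC 3 = true := by decide +kernel
theorem chk4 : chkC 4 = true := by decide +kernel
theorem chk5 : chkC 5 = true := by decide +kernel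
theorem chk6 : chkC 6 = true := by decide +kernel
theorem chk7 : chkC 7 = true := by decide +kernel
theorem chk8 : chkC 8 = true := by decide +kernel

theorem chk_all {i : ℕ} (h : i < 9) : chkC i = true := by
  interval_cases i
  exacts [chk0, chk1, chk2, chk3, chk4, chk5, chk6, chk7, chk8]

theorem rf_co {i : ℕ} (h : i < 9) : Rf (c1 i, c2 i) (fun w => co w i) := by
  intro w
  obtain ⟨h1, h2⟩ := testBit_c (chk_all h) (ix_lt w)
  have h3 := digit w ⟨i, h⟩
  have e : co w i = w ⟨i, h⟩ := dif_pos h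
  show (c1 i).testBit (ix w) = decide (co w i = 1) ∧ (c2 i).testBit (ix w) = decide (co w i = 2)
  rw [h1, h2, e]
  change ix w / 3 ^ i % 3 = _ at h3
  rw [h3]
  generalize w ⟨i, h⟩ = a
  revert a
  decide

/-- the list of the coordinates -/
noncomputable def X0 : List (ℕ × ℕ) := [0, 1, 2, 3, 4, 5, 6, 7, 8].map fun i => (c1 i, c2 i)

/-- strict version -/
noncomputable def iniF {α : Type} (l : List ℕ) : (List (ℕ × ℕ) → α) → α :=
  List.rec (fun κ => κ []) (fun i _ ih κ => fB (c1 i) fun a => fB (c2 i) fun b => ih fun l => κ ((a, b) :: l)) l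

theorem iniF_eq {α : Type} : ∀ (l : List ℕ) (κ : List (ℕ × ℕ) → α), iniF l κ = κ (l.map fun i => (c1 i, c2 i))
  | [], _ => rfl
  | i :: l, κ => by
    have e : iniF (i :: l) κ = fB (c1 i) (fun a => fB (c2 i) fun b => iniF l fun l => κ ((a, b) :: l)) := rfl
    rw [e, fB_eq, fB_eq, iniF_eq l]
    rfl

theorem st_X0 : St X0 (fun w => w) := by
  refine ⟨rfl, fun i hi => ?_⟩
  have h : i < 9 := hi
  have e : X0.getD i (0, 0) = (c1 i, c2 i) := by
    interval_cases i <;> rfl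
  rw [e]
  exact rf_co h

/-! ### iterated states -/

/-- the states of the iterates -/
def stL (R : List (List ℕ)) : ℕ → List (ℕ × ℕ) → List (List (ℕ × ℕ))
  | 0, _ => []
  | m + 1, st => st1 R st :: stL R m (st1 R st)

/-- strict version -/
noncomputable def stLF {α : Type} (R : List (List ℕ)) (m : ℕ) : List (ℕ × ℕ) → (List (List (ℕ × ℕ)) → α) → α :=
  Nat.rec (fun _ κ => κ []) (fun _ ih st κ => stF R st fun s => ih s fun l => κ (s :: l)) m

theorem stLF_eq {α : Type} (R : List (List ℕ)) : ∀ (m : ℕ) (st : List (ℕ × ℕ)) (κ : List (List (ℕ × ℕ)) → α),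
    stLF R m st κ = κ (stL R m st)
  | 0, _, _ => rfl
  | m + 1, st, κ => by
    have e : stLF R (m + 1) st κ = stF R st (fun s => stLF R m s fun l => κ (s :: l)) := rfl
    rw [e, stF_eq, stLF_eq R m]
    rfl

/-- the states describe the functions `H j`, `j = a, a + 1, …` -/
def Sts (H : ℕ → V → V) (l : List (List (ℕ × ℕ))) : Prop :=
  ∀ j < l.length, St (l.getD j []) (H j)

theorem stL_length (R : List (List ℕ)) : ∀ (m : ℕ) (st : List (ℕ × ℕ)), (stL R m st).length = m
  | 0, _ => rfl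
  | m + 1, st => by rw [stL, List.length_cons, stL_length R m]

theorem sts_stL {R : List (List ℕ)} (hR : Sq R) : ∀ (m : ℕ) (st : List (ℕ × ℕ)) (h : V → V), St st h →
    Sts (fun j w => (mv R)^[j + 1] (h w)) (stL R m st)
  | 0, _, _, _ => fun j hj => by simp [stL] at hj
  | m + 1, st, h, hs => by
    intro j hj
    have h1 := hs.step hR
    cases j with
    | zero => exact h1
    | succ j =>
      rw [stL, List.getD_cons_succ]
      have h2 := sts_stL hR m _ _ h1 j (by
        rw [stL, List.length_cons] at hj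
        omega)
      have e : (fun w => (mv R)^[j + 1] (mv R (h w))) = fun w => (mv R)^[j + 1 + 1] (h w) := by
        funext w
        rw [Function.iterate_succ_apply (mv R) (j + 1)]
      show St _ (fun w => (mv R)^[j + 1 + 1] (h w))
      rw [← e]
      exact h2

theorem sts_all {R : List (List ℕ)} (hR : Sq R) (m : ℕ) : Sts (fun j w => (mv R)^[j] w) (X0 :: stL R m X0) := by
  intro j hj
  cases j with
  | zero => exact st_X0
  | succ j =>
    rw [List.getD_cons_succ]
    exact sts_stL hR m X0 (fun w => w) st_X0 j (by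
      rw [List.length_cons] at hj
      omega)

/-! ### the form on the states -/

theorem St.swp {st : List (ℕ × ℕ)} {h : V → V} (hs : St st h) : St (swp (0, 0) st) (fun w => pr (h w)) := by
  obtain ⟨hl, hs⟩ := hs
  rw [hl] at hs
  refine ⟨rfl, fun i hi => ?_⟩
  have hi9 : i < 9 := hi
  have e : ∀ w, co (pr (h w)) i = co (h w) (O9.swp 0 [0, 1, 2, 3, 4, 5, 6, 7, 8] |>.getD i 0) := by
    intro w
    interval_cases i <;> rfl
  have e2 : (O9.swp (0, 0) st).getD i (0, 0) = st.getD (O9.swp 0 [0, 1, 2, 3, 4, 5, 6, 7, 8] |>.getD i 0) (0, 0) := by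
    interval_cases i <;> rfl
  have e3 : (O9.swp 0 [0, 1, 2, 3, 4, 5, 6, 7, 8] |>.getD i 0) < 9 := by
    interval_cases i <;> decide
  rw [e2]
  exact (hs _ e3).congr fun w => (e w).symm

/-- the form between two states -/
noncomputable def bq (s t : List (ℕ × ℕ)) : ℕ × ℕ := dt s (swp (0, 0) t) (0, 0)

theorem rf_bq {s t : List (ℕ × ℕ)} {h k : V → V} (hs : St s h) (ht : St t k) : Rf (bq s t) (fun w => B (h w) (k w)) := by
  have ht' := ht.swp
  refine (rf_dt s (swp (0, 0) t) (fun i w => co (h w) i) (fun i w => co (pr (k w)) i) (0, 0) (fun _ => 0) hs.2 ht'.2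
    (by rw [hs.1, ht'.1]) rf_zero).congr fun w => ?_
  rw [zero_add, hs.1, B_eq, Finset.sum_range]
  exact Finset.sum_congr rfl fun i _ => by rw [co_eq, co_eq]

/-- strict copy -/
noncomputable def cpF {α : Type} (l : List (ℕ × ℕ)) : (List (ℕ × ℕ) → α) → α :=
  List.rec (fun κ => κ []) (fun p _ ih κ => fB p.1 fun a => fB p.2 fun b => ih fun l => κ ((a, b) :: l)) l

theorem cpF_eq {α : Type} : ∀ (l : List (ℕ × ℕ)) (κ : List (ℕ × ℕ) → α), cpF l κ = κ l
  | [], _ => rfl
  | p :: l, κ => by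
    have e : cpF (p :: l) κ = fB p.1 (fun a => fB p.2 fun b => cpF l fun l => κ ((a, b) :: l)) := rfl
    rw [e, fB_eq, fB_eq, cpF_eq l]

/-- the swapped states and the quadratic functions -/
noncomputable def qyF {α : Type} (s0 : List (ℕ × ℕ)) (l : List (List (ℕ × ℕ))) :
    (List (List (ℕ × ℕ)) → List (ℕ × ℕ) → α) → α :=
  List.rec (fun κ => κ [] []) (fun s _ ih κ => cpF (swp (0, 0) s) fun y => dtF s0 y 0 0 fun a b =>
    ih fun Y q => κ (y :: Y) ((a, b) :: q)) l

theorem qyF_eq {α : Type} (s0 : List (ℕ × ℕ)) : ∀ (l : List (List (ℕ × ℕ)))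
    (κ : List (List (ℕ × ℕ)) → List (ℕ × ℕ) → α), qyF s0 l κ = κ (l.map (swp (0, 0))) (l.map (bq s0))
  | [], _ => rfl
  | s :: l, κ => by
    have e : qyF s0 (s :: l) κ = cpF (swp (0, 0) s) (fun y => dtF s0 y 0 0 fun a b =>
      qyF s0 l fun Y q => κ (y :: Y) ((a, b) :: q)) := rfl
    rw [e, cpF_eq, dtF_eq s0 _ (0, 0), qyF_eq s0 l]
    rfl

/-! ### masks of vectors -/

/-- the set of the vectors of a mask -/
def pts (m : ℕ) : Finset V := Finset.univ.filter fun w => m.testBit (ix w) = true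

theorem mem_pts {m : ℕ} {w : V} : w ∈ pts m ↔ m.testBit (ix w) = true := by simp [pts]

/-- all vectors -/
noncomputable def U : ℕ := Nat.sub (Nat.pow 2 19683) 1

theorem testBit_U (i : ℕ) : U.testBit i = decide (i < 19683) := by
  show (2 ^ 19683 - 1).testBit i = _
  exact Nat.testBit_two_pow_sub_one 19683 i

/-- small masks -/
def Sm (m : ℕ) : Prop := ∀ i, m.testBit i = true → i < 19683

theorem pop_eq {m : ℕ} (hm : Sm m) : popS 20 (cmb 20 10) m = (pts m).card := by
  have e : ∑ i ∈ Finset.range (20 * 2 ^ 10), (m.testBit i).toNat = (pts m).card := by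
    have h1 : ∑ i ∈ Finset.range (20 * 2 ^ 10), (m.testBit i).toNat =
        ∑ i ∈ Finset.range (3 ^ 9), (m.testBit i).toNat := by
      symm
      refine Finset.sum_subset (fun i hi => ?_) (fun i _ hi => ?_)
      · rw [Finset.mem_range] at hi ⊢
        exact lt_of_lt_of_le hi (by norm_num)
      · cases h2 : m.testBit i
        · rfl
        · exact absurd (Finset.mem_range.2 (hm i h2)) hi
    rw [h1, Finset.sum_range, pts, Finset.card_filter]
    rw [← Equiv.sum_comp E (fun i : Fin (3 ^ 9) => (m.testBit (i : ℕ)).toNat)]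
    refine Finset.sum_congr rfl fun w _ => ?_
    show (m.testBit (ix w)).toNat = _
    cases m.testBit (ix w) <;> rfl
  have h2 : (pts m).card ≤ 3 ^ 9 := by
    refine (Finset.card_le_univ _).trans ?_
    rw [Fintype.card_congr E, Fintype.card_fin]
  rw [popS_eq (by norm_num) (by rw [e]; exact lt_of_le_of_lt h2 (by norm_num)), e]

/-- the cell of `e` for the function `p` -/
noncomputable def cl (p : ℕ × ℕ) (e m : ℕ) : ℕ :=
  bif tb p.1 e then m &&& p.1 else bif tb p.2 e then m &&& p.2 else m ^^^ (m &&& (p.1 ||| p.2))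

/-- strict version -/
noncomputable def clF {α : Type} (l : List (ℕ × ℕ)) (e : ℕ) : ℕ → (ℕ → α) → α :=
  List.rec (fun m κ => κ m) (fun p _ ih m κ => cnd (tb p.1 e) (fB (Nat.land m p.1) fun x => ih x κ)
    (cnd (tb p.2 e) (fB (Nat.land m p.2) fun x => ih x κ)
      (fB (Nat.xor m (Nat.land m (Nat.lor p.1 p.2))) fun x => ih x κ))) l

/-- the cell of `e` -/
noncomputable def cls : List (ℕ × ℕ) → ℕ → ℕ → ℕ
  | [], _, m => m
  | p :: l, e, m => cls l e (cl p e m)

theorem clF_eq {α : Type} (e : ℕ) : ∀ (l : List (ℕ × ℕ)) (m : ℕ) (κ : ℕ → α), clF l e m κ = κ (cls l e m)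
  | [], _, _ => rfl
  | p :: l, m, κ => by
    have h : clF (p :: l) e m κ = cnd (tb p.1 e) (fB (Nat.land m p.1) fun x => clF l e x κ)
      (cnd (tb p.2 e) (fB (Nat.land m p.2) fun x => clF l e x κ)
        (fB (Nat.xor m (Nat.land m (Nat.lor p.1 p.2))) fun x => clF l e x κ)) := rfl
    rw [h, cls, cl]
    cases tb p.1 e
    · rw [cnd_false, cond_false]
      cases tb p.2 e
      · rw [cnd_false, cond_false, fB_eq, clF_eq e l]; rfl
      · rw [cnd_true, cond_true, fB_eq, clF_eq e l]; rfl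
    · rw [cnd_true, cond_true, fB_eq, clF_eq e l]; rfl

/-- the two vectors have the same bits -/
def Eqv (p : ℕ × ℕ) (v w : V) : Prop := p.1.testBit (ix w) = p.1.testBit (ix v) ∧ p.2.testBit (ix w) = p.2.testBit (ix v)

theorem sm_cl {p : ℕ × ℕ} {e m : ℕ} (hm : Sm m) : Sm (cl p e m) := by
  intro i hi
  apply hm i
  rw [cl] at hi
  cases h1 : tb p.1 e <;> rw [h1] at hi
  · rw [cond_false] at hi
    cases h2 : tb p.2 e <;> rw [h2] at hi
    · rw [cond_false, Nat.testBit_xor, Nat.testBit_and] at hi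
      revert hi
      cases m.testBit i <;> simp
    · rw [cond_true, Nat.testBit_and, Bool.and_eq_true] at hi
      exact hi.1
  · rw [cond_true, Nat.testBit_and, Bool.and_eq_true] at hi
    exact hi.1

theorem mem_cl {p : ℕ × ℕ} {v w : V} {m : ℕ} (hw : m.testBit (ix w) = true) (h : Eqv p v w) :
    (cl p (ix v) m).testBit (ix w) = true := by
  obtain ⟨h1, h2⟩ := h
  rw [cl, tb_eq, tb_eq, ← h1, ← h2]
  cases h3 : p.1.testBit (ix w)
  · rw [cond_false]
    cases h4 : p.2.testBit (ix w)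
    · rw [cond_false, Nat.testBit_xor, Nat.testBit_and, Nat.testBit_or, h3, h4, hw]; rfl
    · rw [cond_true, Nat.testBit_and, h4, hw]; rfl
  · rw [cond_true, Nat.testBit_and, h3, hw]; rfl

theorem sm_cls : ∀ (l : List (ℕ × ℕ)) (e m : ℕ), Sm m → Sm (cls l e m)
  | [], _, _, h => h
  | p :: l, e, m, h => sm_cls l e _ (sm_cl h)

theorem mem_cls {v w : V} : ∀ (l : List (ℕ × ℕ)) (m : ℕ), m.testBit (ix w) = true → (∀ p ∈ l, Eqv p v w) →
    (cls l (ix v) m).testBit (ix w) = true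
  | [], _, h, _ => h
  | p :: l, m, h, hp => mem_cls l _ (mem_cl h (hp p List.mem_cons_self)) fun q hq => hp q (List.mem_cons_of_mem _ hq)

/-- the zeros of the functions -/
noncomputable def zr : List (ℕ × ℕ) → ℕ → ℕ
  | [], m => m
  | p :: l, m => zr l (m ^^^ (m &&& (p.1 ||| p.2)))

/-- strict version -/
noncomputable def zrF {α : Type} (l : List (ℕ × ℕ)) : ℕ → (ℕ → α) → α :=
  List.rec (fun m κ => κ m) (fun p _ ih m κ => fB (Nat.xor m (Nat.land m (Nat.lor p.1 p.2))) fun x => ih x κ) l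

theorem zrF_eq {α : Type} : ∀ (l : List (ℕ × ℕ)) (m : ℕ) (κ : ℕ → α), zrF l m κ = κ (zr l m)
  | [], _, _ => rfl
  | p :: l, m, κ => by
    have h : zrF (p :: l) m κ = fB (Nat.xor m (Nat.land m (Nat.lor p.1 p.2))) (fun x => zrF l x κ) := rfl
    rw [h, fB_eq, zrF_eq l]
    rfl

theorem mem_zr {w : V} : ∀ (l : List (ℕ × ℕ)) (m : ℕ), m.testBit (ix w) = true →
    (∀ p ∈ l, p.1.testBit (ix w) = false ∧ p.2.testBit (ix w) = false) → (zr l m).testBit (ix w) = true
  | [], _, h, _ => h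
  | p :: l, m, h, hp => by
    obtain ⟨h1, h2⟩ := hp p List.mem_cons_self
    refine mem_zr l _ ?_ fun q hq => hp q (List.mem_cons_of_mem _ hq)
    rw [Nat.testBit_xor, Nat.testBit_and, Nat.testBit_or, h1, h2, h]
    rfl

/-! ### linear functions -/

/-- the digits -/
def dig (e : ℕ) : List ℕ := [0, 1, 2, 3, 4, 5, 6, 7, 8].map fun i => e / 3 ^ i % 3

/-- strict version -/
noncomputable def digF {α : Type} (e : ℕ) (l : List ℕ) : (List ℕ → α) → α :=
  List.rec (fun κ => κ []) (fun i _ ih κ => force (Nat.mod (Nat.div e (Nat.pow 3 i)) 3) fun d => ih fun l => κ (d :: l)) l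

theorem digF_eq {α : Type} (e : ℕ) : ∀ (l : List ℕ) (κ : List ℕ → α), digF e l κ = κ (l.map fun i => e / 3 ^ i % 3)
  | [], _ => rfl
  | i :: l, κ => by
    have h : digF e (i :: l) κ = force (Nat.mod (Nat.div e (Nat.pow 3 i)) 3) (fun d => digF e l fun l => κ (d :: l)) := rfl
    rw [h, force_eq, digF_eq e l]
    rfl

theorem cz_val : ∀ a : ZMod 3, cz a.val = a := by
  intro a
  revert a
  decide

/-- the functions `B (v, h w)` -/
noncomputable def lf (c : List ℕ) (Y : List (ℕ × ℕ)) : ℕ × ℕ := lc c Y (0, 0)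

theorem rf_lf {Y : List (ℕ × ℕ)} {h : V → V} (hY : St Y fun w => pr (h w)) (v : V) :
    Rf (lf (dig (ix v)) Y) (fun w => B v (h w)) := by
  have hlen : (dig (ix v)).length = Y.length := by rw [hY.1]; rfl
  refine (rf_lc (dig (ix v)) Y (fun j w => co (pr (h w)) j) (0, 0) (fun _ => 0) hY.2 hlen rf_zero).congr fun w => ?_
  rw [zero_add, hY.1, B_eq, Finset.sum_range]
  refine Finset.sum_congr rfl fun i _ => ?_
  have e : (dig (ix v)).getD (i : ℕ) 0 = ix v / 3 ^ (i : ℕ) % 3 := by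
    fin_cases i <;> rfl
  rw [e, digit, cz_val, co_eq]

/-- push the linear functions -/
noncomputable def puF {α : Type} (c : List ℕ) (Ys : List (List (ℕ × ℕ))) : List (ℕ × ℕ) → (List (ℕ × ℕ) → α) → α :=
  List.rec (fun ls κ => κ ls) (fun Y _ ih ls κ => lcF c Y 0 0 fun a b => ih ((a, b) :: ls) κ) Ys

/-- the pushed list -/
noncomputable def pu (c : List ℕ) : List (List (ℕ × ℕ)) → List (ℕ × ℕ) → List (ℕ × ℕ)
  | [], ls => ls
  | Y :: Ys, ls => pu c Ys (lf c Y :: ls)

theorem puF_eq {α : Type} (c : List ℕ) : ∀ (Ys : List (List (ℕ × ℕ))) (ls : List (ℕ × ℕ)) (κ : List (ℕ × ℕ) → α),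
    puF c Ys ls κ = κ (pu c Ys ls)
  | [], _, _ => rfl
  | Y :: Ys, ls, κ => by
    have h : puF c (Y :: Ys) ls κ = lcF c Y 0 0 (fun a b => puF c Ys ((a, b) :: ls) κ) := rfl
    rw [h, lcF_eq c Y (0, 0), puF_eq c Ys]
    rfl

theorem mem_pu {c : List ℕ} {p : ℕ × ℕ} : ∀ {Ys : List (List (ℕ × ℕ))} {ls : List (ℕ × ℕ)}, p ∈ pu c Ys ls →
    p ∈ ls ∨ ∃ Y ∈ Ys, p = lf c Y
  | [], _, h => Or.inl h
  | Y :: Ys, ls, h => by
    rcases mem_pu (Ys := Ys) h with h1 | ⟨Z, hZ, h1⟩
    · rcases List.mem_cons.1 h1 with h2 | h2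
      · exact Or.inr ⟨Y, List.mem_cons_self, h2⟩
      · exact Or.inl h2
    · exact Or.inr ⟨Z, List.mem_cons_of_mem _ hZ, h1⟩

/-! ### the run -/

/-- run the certificate -/
noncomputable def run (M : ℕ) (Ys : List (List (ℕ × ℕ))) (fs : List (ℕ × ℕ)) (ch : List ℕ) : List (ℕ × ℕ) → ℕ :=
  List.rec (fun ls => zrF ls U fun z => cnd (Nat.beq z 1) 1 0)
    (fun e _ ih ls => cnd (Nat.blt e 19683) (clF fs e U fun m => clF ls e m fun m' => force (popS 20 M m') fun n =>
      digF e [0, 1, 2, 3, 4, 5, 6, 7, 8] fun c => puF c Ys ls fun ls' => force (ih ls') fun N => Nat.mul n N) 0) ch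

/-- invariance of the masks -/
def Iv (H : Subgroup (V ≃ₗ[ZMod 3] V)) (p : ℕ × ℕ) : Prop := ∀ σ ∈ H, ∀ w, Eqv p w (σ w)

/-- invariant linear functions -/
def Lv (H : Subgroup (V ≃ₗ[ZMod 3] V)) (p : ℕ × ℕ) : Prop :=
  ∃ f : V → ZMod 3, Rf p f ∧ (∀ a b, f (a - b) = f a - f b) ∧ ∀ σ ∈ H, ∀ w, f (σ w) = f w

theorem Lv.iv {H : Subgroup (V ≃ₗ[ZMod 3] V)} {p : ℕ × ℕ} (h : Lv H p) : Iv H p := by
  obtain ⟨f, h1, -, h2⟩ := h
  intro σ hσ w
  constructor
  · rw [(h1 (σ w)).1, (h1 w).1, h2 σ hσ]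
  · rw [(h1 (σ w)).2, (h1 w).2, h2 σ hσ]

theorem Lv.mono {H K : Subgroup (V ≃ₗ[ZMod 3] V)} {p : ℕ × ℕ} (hK : K ≤ H) (h : Lv H p) : Lv K p := by
  obtain ⟨f, h1, h2, h3⟩ := h
  exact ⟨f, h1, h2, fun σ hσ => h3 σ (hK hσ)⟩

theorem card_base (H : Subgroup (V ≃ₗ[ZMod 3] V)) [Finite (V ≃ₗ[ZMod 3] V)] (v : V) (m : ℕ)
    (hm : ∀ σ ∈ H, m.testBit (ix (σ v)) = true) {N : ℕ}
    (hN : Nat.card ↥(H ⊓ MulAction.stabilizer (V ≃ₗ[ZMod 3] V) v) ≤ N) :
    Nat.card H ≤ (pts m).card * N := by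
  classical
  have h1 : Nat.card H = Nat.card (MulAction.orbit H v) * Nat.card (MulAction.stabilizer H v) := by
    rw [← Nat.card_prod]
    exact (Nat.card_congr (MulAction.orbitProdStabilizerEquivGroup H v)).symm
  have h2 : Nat.card (MulAction.orbit H v) ≤ (pts m).card := by
    rw [← Fintype.card_coe, ← Nat.card_eq_fintype_card]
    refine Nat.card_le_card_of_injective (fun x : MulAction.orbit H v => (⟨x.1, ?_⟩ : pts m)) ?_
    · obtain ⟨w, ⟨σ, rfl⟩⟩ := x
      rw [mem_pts]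
      exact hm σ.1 σ.2
    · intro x y h
      exact Subtype.ext (congrArg (fun z : pts m => (z : V)) h)
  have h3 : Nat.card (MulAction.stabilizer H v) ≤ N := by
    refine le_trans ?_ hN
    refine Nat.card_le_card_of_injective (fun x : MulAction.stabilizer H v =>
      (⟨x.1.1, x.1.2, x.2⟩ : ↥(H ⊓ MulAction.stabilizer (V ≃ₗ[ZMod 3] V) v))) ?_
    intro x y h
    exact Subtype.ext (Subtype.ext (congrArg (fun z : ↥(H ⊓ MulAction.stabilizer (V ≃ₗ[ZMod 3] V) v) => z.1) h))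
  rw [h1]
  exact Nat.mul_le_mul h2 h3

instance fin_lin : Finite (V ≃ₗ[ZMod 3] V) :=
  Finite.of_injective (fun a : V ≃ₗ[ZMod 3] V => (a : V → V)) DFunLike.coe_injective

theorem run_nil (M : ℕ) (Ys : List (List (ℕ × ℕ))) (fs ls : List (ℕ × ℕ)) :
    run M Ys fs [] ls = cnd (Nat.beq (zr ls U) 1) 1 0 := by
  have e : run M Ys fs [] ls = zrF ls U (fun z => cnd (Nat.beq z 1) 1 0) := rfl
  rw [e, zrF_eq]

theorem run_cons (M : ℕ) (Ys : List (List (ℕ × ℕ))) (fs ls : List (ℕ × ℕ)) (e : ℕ) (ch : List ℕ) :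
    run M Ys fs (e :: ch) ls = cnd (Nat.blt e 19683)
      (popS 20 M (cls ls e (cls fs e U)) * run M Ys fs ch (pu (dig e) Ys ls)) 0 := by
  have e1 : run M Ys fs (e :: ch) ls = cnd (Nat.blt e 19683) (clF fs e U fun m => clF ls e m fun m' =>
      force (popS 20 M m') fun n => digF e [0, 1, 2, 3, 4, 5, 6, 7, 8] fun c => puF c Ys ls fun ls' =>
        force (run M Ys fs ch ls') fun N => Nat.mul n N) 0 := rfl
  rw [e1, clF_eq, clF_eq, force_eq, digF_eq, puF_eq, force_eq]
  rfl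

attribute [irreducible] run U

theorem run_spec {r : V ≃ₗ[ZMod 3] V} {M : ℕ} (hM : M = cmb 20 10) {Ys : List (List (ℕ × ℕ))} {fs : List (ℕ × ℕ)}
    (hY : ∀ Y ∈ Ys, ∃ h : V ≃ₗ[ZMod 3] V, St Y (fun w => pr (h w)) ∧
      ∀ σ : V ≃ₗ[ZMod 3] V, σ * r = r * σ → σ * h = h * σ) (ch : List ℕ) :
    ∀ (ls : List (ℕ × ℕ)) (H : Subgroup (V ≃ₗ[ZMod 3] V)), H ≤ OB → (∀ σ ∈ H, σ * r = r * σ) →
      (∀ p ∈ fs, Iv H p) → (∀ p ∈ ls, Lv H p) → run M Ys fs ch ls ≠ 0 → Nat.card H ≤ run M Ys fs ch ls := by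
  induction ch with
  | nil =>
    intro ls H hH hr hfs hls h0
    rw [run_nil] at h0 ⊢
    cases hz : Nat.beq (zr ls U) 1
    · rw [hz] at h0
      exact absurd rfl h0
    rw [cnd_true]
    have hz1 : zr ls U = 1 := Nat.eq_of_beq_eq_true hz
    have hone : ∀ σ ∈ H, σ = 1 := by
      intro σ hσ
      apply LinearEquiv.ext
      intro w
      have h1 : (zr ls U).testBit (ix (σ w - w)) = true := by
        refine mem_zr ls U (by rw [testBit_U]; exact decide_eq_true (ix_lt _)) fun p hp => ?_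
        obtain ⟨f, h2, h3, h4⟩ := hls p hp
        have h5 : f (σ w - w) = 0 := by rw [h3, h4 σ hσ, sub_self]
        rw [(h2 _).1, (h2 _).2, h5]
        exact ⟨by decide, by decide⟩
      rw [hz1, Nat.testBit_one_eq_true_iff_self_eq_zero] at h1
      have h6 : σ w - w = 0 := ix_inj (h1.trans ix_zero.symm)
      exact sub_eq_zero.1 h6
    have hb : H = ⊥ := (Subgroup.eq_bot_iff_forall H).2 hone
    rw [hb, Subgroup.card_bot]
  | cons e ch ih =>
    intro ls H hH hr hfs hls h0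
    rw [run_cons] at h0 ⊢
    cases he : Nat.blt e 19683
    · rw [he] at h0
      exact absurd rfl h0
    rw [he, cnd_true] at h0
    rw [cnd_true]
    have he' : e < 19683 := by
      rwa [Nat.blt_eq] at he
    obtain ⟨v, rfl⟩ : ∃ v : V, ix v = e := ⟨vec e, ix_vec he'⟩
    have hsm : Sm (cls ls (ix v) (cls fs (ix v) U)) := sm_cls _ _ _ (sm_cls _ _ _ fun i hi => by
      rw [testBit_U] at hi
      exact of_decide_eq_true hi)
    have hmem : ∀ σ ∈ H, (cls ls (ix v) (cls fs (ix v) U)).testBit (ix (σ v)) = true := by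
      intro σ hσ
      refine mem_cls _ _ (mem_cls _ _ (by rw [testBit_U]; exact decide_eq_true (ix_lt _)) fun p hp => hfs p hp σ hσ v)
        fun p hp => (hls p hp).iv σ hσ v
    generalize cls ls (ix v) (cls fs (ix v) U) = m at *
    let H1 : Subgroup (V ≃ₗ[ZMod 3] V) := H ⊓ MulAction.stabilizer (V ≃ₗ[ZMod 3] V) v
    have hle : H1 ≤ H := inf_le_left
    have hls1 : ∀ p ∈ pu (dig (ix v)) Ys ls, Lv H1 p := by
      intro p hp
      rcases mem_pu hp with h2 | ⟨Y, hYm, rfl⟩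
      · exact (hls p h2).mono hle
      · obtain ⟨h, h3, h4⟩ := hY Y hYm
        refine ⟨fun w => B v (h w), rf_lf h3 v, fun a b => ?_, fun σ hσ w => ?_⟩
        · show B v (h (a - b)) = B v (h a) - B v (h b)
          rw [map_sub]
          simp only [B, Pi.sub_apply]
          ring
        · have h5 : σ (h w) = h (σ w) := LinearEquiv.congr_fun (h4 σ (hr σ (hle hσ))) w
          have h6 : σ v = v := (Subgroup.mem_inf.1 hσ).2
          show B v (h (σ w)) = B v (h w)
          rw [← h5]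
          conv_lhs => rw [← h6]
          exact (mem_OB.1 (hH (hle hσ))) v (h w)
    have h8 : run M Ys fs ch (pu (dig (ix v)) Ys ls) ≠ 0 := fun h => h0 (by rw [h, mul_zero])
    have h7 := ih (pu (dig (ix v)) Ys ls) H1 (hle.trans hH) (fun σ hσ => hr σ (hle hσ))
      (fun p hp σ hσ => hfs p hp σ (hle hσ)) hls1 h8
    have h9 := card_base H v m hmem h7
    rw [hM, pop_eq hsm, ← hM]
    exact h9

end Cfsg.Agent.H651.O9
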